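import Cfsg.Agent.Lib.Helper27.Fi22.A2.Seed

set_option autoImplicit false
set_option maxRecDepth 100000
set_option linter.all false

namespace Cfsg.Agent.Helper27.Fi22TC.A2

open Cfsg.Agent.Helper28 Cfsg.Agent.Helper27.Fi22TC
open Cfsg.Spor.Fi22 (Gen)

noncomputable section

theorem ent_a : D.chkEnt cert Gen.a = true := by decide +kernel
theorem ent_b : D.chkEnt cert Gen.b = true := by decide +kernel
theorem ent_c : D.chkEnt cert Gen.c = true := by decide +kernel
theorem ent_d : D.chkEnt cert Gen.d = true := by decide +kernel
theorem ent_e : D.chkEnt cert Gen.e = true := by decide +kernel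
theorem ent_f : D.chkEnt cert Gen.f = true := by decide +kernel
theorem ent_g : D.chkEnt cert Gen.g = true := by decide +kernel
theorem ent_h : D.chkEnt cert Gen.h = true := by decide +kernel
theorem ent_i : D.chkEnt cert Gen.i = true := by decide +kernel

theorem index_eq : (subH D.rels D.S).index = 243 :=
  D.index_eq_n h1 h2 h3 h4 cert (by intro x; cases x <;> first | exact ent_a | exact ent_b | exact ent_c | exact ent_d | exact ent_e | exact ent_f | exact ent_g | exact ent_h | exact ent_i) hseed

end

end Cfsg.Agent.Helper27.Fi22TC.A2
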