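import Cfsg.Agent.Lib.Helper27.Fi22.A2.Data

set_option autoImplicit false
set_option maxRecDepth 100000
set_option linter.all false

namespace Cfsg.Agent.Helper27.Fi22TC.A2

open Cfsg.Agent.Helper28 Cfsg.Agent.Helper27.Fi22TC
open Cfsg.Spor.Fi22 (Gen)

noncomputable section

def RV30 : Word Gen := [(Gen.i, true), (Gen.h, true), (Gen.d, true), (Gen.f, true), (Gen.e, true), (Gen.d, true), (Gen.b, true), (Gen.c, true), (Gen.d, true), (Gen.i, true), (Gen.h, true), (Gen.d, true), (Gen.f, true), (Gen.e, true), (Gen.d, true), (Gen.b, true), (Gen.c, true), (Gen.d, true), (Gen.i, true), (Gen.h, true), (Gen.d, true), (Gen.f, true), (Gen.e, true), (Gen.d, true), (Gen.b, true), (Gen.c, true), (Gen.d, true), (Gen.i, true), (Gen.h, true), (Gen.d, true), (Gen.f, true), (Gen.e, true), (Gen.d, true), (Gen.b, true), (Gen.c, true), (Gen.d, true), (Gen.i, true), (Gen.h, true), (Gen.d, true), (Gen.f, true), (Gen.e, true), (Gen.d, true), (Gen.b, true), (Gen.c, true), (Gen.d, true), (Gen.i, true), (Gen.h, true), (Gen.d, true),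 (Gen.f, true), (Gen.e, true), (Gen.d, true), (Gen.b, true), (Gen.c, true), (Gen.d, true), (Gen.i, true), (Gen.h, true), (Gen.d, true), (Gen.f, true), (Gen.e, true), (Gen.d, true), (Gen.b, true), (Gen.c, true), (Gen.d, true), (Gen.i, true), (Gen.h, true), (Gen.d, true), (Gen.f, true), (Gen.e, true), (Gen.d, true), (Gen.b, true), (Gen.c, true), (Gen.d, true), (Gen.i, true), (Gen.h, true), (Gen.d, true), (Gen.f, true), (Gen.e, true), (Gen.d, true), (Gen.b, true), (Gen.c, true), (Gen.d, true), (Gen.i, true), (Gen.h, true), (Gen.d, true), (Gen.f, true), (Gen.e, true), (Gen.d, true), (Gen.b, true), (Gen.c, true), (Gen.d, true)]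
theorem relrev_30 : wG D.rels RV30 = 1 :=
  wG_of_rotate D.rels ((List.map (fun x => (x, true)) [Gen.d, Gen.c, Gen.b, Gen.d, Gen.e, Gen.f, Gen.d, Gen.h, Gen.i, Gen.d, Gen.c, Gen.b, Gen.d, Gen.e, Gen.f, Gen.d, Gen.h, Gen.i, Gen.d, Gen.c, Gen.b, Gen.d, Gen.e, Gen.f, Gen.d, Gen.h, Gen.i, Gen.d, Gen.c, Gen.b, Gen.d, Gen.e, Gen.f, Gen.d, Gen.h, Gen.i, Gen.d, Gen.c, Gen.b, Gen.d, Gen.e, Gen.f, Gen.d, Gen.h, Gen.i, Gen.d, Gen.c, Gen.b, Gen.d, Gen.e, Gen.f, Gen.d, Gen.h, Gen.i, Gen.d, Gen.c, Gen.b, Gen.d, Gen.e, Gen.f, Gen.d, Gen.h, Gen.i, Gen.d, Gen.c, Gen.b, Gen.d, Gen.e, Gen.f, Gen.d, Gen.h, Gen.i, Gen.d, Gen.c, Gen.b, Gen.d, Gen.e, Gen.f, Gen.d, Gen.h, Gen.i, Gen.d, Gen.c, Gen.b, Gen.d, Gen.e, Gen.f, Gen.d, Gen.h, Gen.i]).reverse) RV30 0 (by decide +kernel)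
    (wG_reverse_one D.rels hinv [Gen.d, Gen.c, Gen.b, Gen.d, Gen.e, Gen.f, Gen.d, Gen.h, Gen.i, Gen.d, Gen.c, Gen.b, Gen.d, Gen.e, Gen.f, Gen.d, Gen.h, Gen.i, Gen.d, Gen.c, Gen.b, Gen.d, Gen.e, Gen.f, Gen.d, Gen.h, Gen.i, Gen.d, Gen.c, Gen.b, Gen.d, Gen.e, Gen.f, Gen.d, Gen.h, Gen.i, Gen.d, Gen.c, Gen.b, Gen.d, Gen.e, Gen.f, Gen.d, Gen.h, Gen.i, Gen.d, Gen.c, Gen.b, Gen.d, Gen.e, Gen.f, Gen.d, Gen.h, Gen.i, Gen.d, Gen.c, Gen.b, Gen.d, Gen.e, Gen.f, Gen.d, Gen.h, Gen.i, Gen.d, Gen.c, Gen.b, Gen.d, Gen.e, Gen.f, Gen.d, Gen.h, Gen.i, Gen.d, Gen.c, Gen.b, Gen.d, Gen.e, Gen.f, Gen.d, Gen.h, Gen.i, Gen.d, Gen.c, Gen.b, Gen.d, Gen.e, Gen.f, Gen.d, Gen.h, Gen.i] (show wG D.rels (List.map (fun x => (x, true)) [Gen.d, Gen.c, Gen.b, Gen.d, Gen.e, Gen.f, Gen.d, Gen.h, Gen.i, Gen.d, Gen.c, Gen.b, Gen.d, Gen.e, Gen.f, Gen.d, Gen.h, Gen.i, Gen.d, Gen.c, Gen.b, Gen.d, Gen.e, Gen.f, Gen.d, Gen.h, Gen.i, Gen.d, Gen.c, Gen.b, Gen.d, Gen.e, Gen.f, Gen.d, Gen.h, Gen.i, Gen.d, Gen.c, Gen.b, Gen.d, Gen.e, Gen.f, Gen.d, Gen.h, Gen.i,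 Gen.d, Gen.c, Gen.b, Gen.d, Gen.e, Gen.f, Gen.d, Gen.h, Gen.i, Gen.d, Gen.c, Gen.b, Gen.d, Gen.e, Gen.f, Gen.d, Gen.h, Gen.i, Gen.d, Gen.c, Gen.b, Gen.d, Gen.e, Gen.f, Gen.d, Gen.h, Gen.i, Gen.d, Gen.c, Gen.b, Gen.d, Gen.e, Gen.f, Gen.d, Gen.h, Gen.i, Gen.d, Gen.c, Gen.b, Gen.d, Gen.e, Gen.f, Gen.d, Gen.h, Gen.i]) = 1 from relone_30))
theorem RW_0 : wG D.rels [(Gen.f, true), (Gen.c, true), (Gen.f, true), (Gen.c, true)] = 1 :=
  wG_of_rotate D.rels R17 [(Gen.f, true), (Gen.c, true), (Gen.f, true), (Gen.c, true)] 1 (by decide +kernel) relone_17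
theorem RW_1 : wG D.rels [(Gen.h, true), (Gen.c, true), (Gen.h, true), (Gen.c, true)] = 1 :=
  wG_of_rotate D.rels R18 [(Gen.h, true), (Gen.c, true), (Gen.h, true), (Gen.c, true)] 1 (by decide +kernel) relone_18
theorem RW_2 : wG D.rels [(Gen.i, true), (Gen.c, true), (Gen.i, true), (Gen.c, true)] = 1 :=
  wG_of_rotate D.rels R19 [(Gen.i, true), (Gen.c, true), (Gen.i, true), (Gen.c, true)] 1 (by decide +kernel) relone_19
theorem RW_3 : wG D.rels [(Gen.c, true), (Gen.b, true), (Gen.c, true), (Gen.b, true), (Gen.c, true), (Gen.b, true)] = 1 :=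
  wG_of_rotate D.rels R9 [(Gen.c, true), (Gen.b, true), (Gen.c, true), (Gen.b, true), (Gen.c, true), (Gen.b, true)] 1 (by decide +kernel) relone_9
theorem RW_4 : wG D.rels [(Gen.b, true), (Gen.d, true), (Gen.b, true), (Gen.d, true)] = 1 :=
  wG_of_rotate D.rels R10 [(Gen.b, true), (Gen.d, true), (Gen.b, true), (Gen.d, true)] 0 (by decide +kernel) relone_10
theorem RW_5 : wG D.rels [(Gen.i, true), (Gen.d, true), (Gen.i, true), (Gen.d, true)] = 1 :=
  wG_of_rotate D.rels R23 [(Gen.i, true), (Gen.d, true), (Gen.i, true), (Gen.d, true)] 1 (by decide +kernel) relone_23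
theorem RW_6 : wG D.rels [(Gen.c, true), (Gen.d, true), (Gen.c, true), (Gen.d, true), (Gen.c, true), (Gen.d, true)] = 1 :=
  wG_of_rotate D.rels R15 [(Gen.c, true), (Gen.d, true), (Gen.c, true), (Gen.d, true), (Gen.c, true), (Gen.d, true)] 0 (by decide +kernel) relone_15
theorem RW_7 : wG D.rels [(Gen.b, true), (Gen.e, true), (Gen.b, true), (Gen.e, true)] = 1 :=
  wG_of_rotate D.rels R11 [(Gen.b, true), (Gen.e, true), (Gen.b, true), (Gen.e, true)] 0 (by decide +kernel) relone_11
theorem RW_8 : wG D.rels [(Gen.h, true), (Gen.e, true), (Gen.h, true), (Gen.e, true)] = 1 :=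
  wG_of_rotate D.rels R25 [(Gen.h, true), (Gen.e, true), (Gen.h, true), (Gen.e, true)] 1 (by decide +kernel) relone_25
theorem RW_9 : wG D.rels [(Gen.i, true), (Gen.e, true), (Gen.i, true), (Gen.e, true)] = 1 :=
  wG_of_rotate D.rels R26 [(Gen.i, true), (Gen.e, true), (Gen.i, true), (Gen.e, true)] 1 (by decide +kernel) relone_26
theorem RW_10 : wG D.rels [(Gen.c, true), (Gen.e, true), (Gen.c, true), (Gen.e, true)] = 1 :=
  wG_of_rotate D.rels R16 [(Gen.c, true), (Gen.e, true), (Gen.c, true), (Gen.e, true)] 0 (by decide +kernel) relone_16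
theorem RW_11 : wG D.rels [(Gen.d, true), (Gen.e, true), (Gen.d, true), (Gen.e, true), (Gen.d, true), (Gen.e, true)] = 1 :=
  wG_of_rotate D.rels R20 [(Gen.d, true), (Gen.e, true), (Gen.d, true), (Gen.e, true), (Gen.d, true), (Gen.e, true)] 0 (by decide +kernel) relone_20
theorem RW_12 : wG D.rels [(Gen.b, true), (Gen.f, true), (Gen.b, true), (Gen.f, true)] = 1 :=
  wG_of_rotate D.rels R12 [(Gen.b, true), (Gen.f, true), (Gen.b, true), (Gen.f, true)] 0 (by decide +kernel) relone_12
theorem RW_13 : wG D.rels [(Gen.h, true), (Gen.f, true), (Gen.h, true), (Gen.f, true)] = 1 :=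
  wG_of_rotate D.rels R27 [(Gen.h, true), (Gen.f, true), (Gen.h, true), (Gen.f, true)] 1 (by decide +kernel) relone_27
theorem RW_14 : wG D.rels [(Gen.i, true), (Gen.f, true), (Gen.i, true), (Gen.f, true)] = 1 :=
  wG_of_rotate D.rels R28 [(Gen.i, true), (Gen.f, true), (Gen.i, true), (Gen.f, true)] 1 (by decide +kernel) relone_28
theorem RW_15 : wG D.rels [(Gen.e, true), (Gen.f, true), (Gen.e, true), (Gen.f, true), (Gen.e, true), (Gen.f, true)] = 1 :=
  wG_of_rotate D.rels R24 [(Gen.e, true), (Gen.f, true), (Gen.e, true), (Gen.f, true), (Gen.e, true), (Gen.f, true)] 0 (by decide +kernel) relone_24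
theorem RW_16 : wG D.rels [(Gen.f, true), (Gen.d, true), (Gen.h, true), (Gen.i, true), (Gen.d, true), (Gen.c, true), (Gen.b, true), (Gen.d, true), (Gen.e, true), (Gen.f, true), (Gen.d, true), (Gen.h, true), (Gen.i, true), (Gen.d, true), (Gen.c, true), (Gen.b, true), (Gen.d, true), (Gen.e, true), (Gen.f, true), (Gen.d, true), (Gen.h, true), (Gen.i, true), (Gen.d, true), (Gen.c, true), (Gen.b, true), (Gen.d, true), (Gen.e, true), (Gen.f, true), (Gen.d, true), (Gen.h, true), (Gen.i, true), (Gen.d, true), (Gen.c, true), (Gen.b, true), (Gen.d, true), (Gen.e, true), (Gen.f, true), (Gen.d, true), (Gen.h, true), (Gen.i, true), (Gen.d, true), (Gen.c, true), (Gen.b, true), (Gen.d, true), (Gen.e, true), (Gen.f, true), (Gen.d, true), (Gen.h, true), (Gen.i, true), (Gen.d, true), (Gen.c, true), (Gen.b, true), (Gen.d, true), (Gen.e, true), (Gen.f, true), (Gen.d, true), (Gen.h, true), (Gen.i, true), (Gen.d, true), (Gen.c, true), (Gen.b, true), (Gen.d, true), (Gen.e, true), (Gen.f, true), (Gen.d, true), (Gen.h, true), (Gen.i,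 true), (Gen.d, true), (Gen.c, true), (Gen.b, true), (Gen.d, true), (Gen.e, true), (Gen.f, true), (Gen.d, true), (Gen.h, true), (Gen.i, true), (Gen.d, true), (Gen.c, true), (Gen.b, true), (Gen.d, true), (Gen.e, true), (Gen.f, true), (Gen.d, true), (Gen.h, true), (Gen.i, true), (Gen.d, true), (Gen.c, true), (Gen.b, true), (Gen.d, true), (Gen.e, true)] = 1 :=
  wG_of_rotate D.rels R30 [(Gen.f, true), (Gen.d, true), (Gen.h, true), (Gen.i, true), (Gen.d, true), (Gen.c, true), (Gen.b, true), (Gen.d, true), (Gen.e, true), (Gen.f, true), (Gen.d, true), (Gen.h, true), (Gen.i, true), (Gen.d, true), (Gen.c, true), (Gen.b, true), (Gen.d, true), (Gen.e, true), (Gen.f, true), (Gen.d, true), (Gen.h, true), (Gen.i, true), (Gen.d, true), (Gen.c, true), (Gen.b, true), (Gen.d, true), (Gen.e, true), (Gen.f, true), (Gen.d, true), (Gen.h, true), (Gen.i, true), (Gen.d, true), (Gen.c, true), (Gen.b, true), (Gen.d, true), (Gen.e, true), (Gen.f, true), (Gen.d, true), (Gen.h, true), (Gen.i, true), (Gen.d, true), (Gen.c, true), (Gen.b,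 true), (Gen.d, true), (Gen.e, true), (Gen.f, true), (Gen.d, true), (Gen.h, true), (Gen.i, true), (Gen.d, true), (Gen.c, true), (Gen.b, true), (Gen.d, true), (Gen.e, true), (Gen.f, true), (Gen.d, true), (Gen.h, true), (Gen.i, true), (Gen.d, true), (Gen.c, true), (Gen.b, true), (Gen.d, true), (Gen.e, true), (Gen.f, true), (Gen.d, true), (Gen.h, true), (Gen.i, true), (Gen.d, true), (Gen.c, true), (Gen.b, true), (Gen.d, true), (Gen.e, true), (Gen.f, true), (Gen.d, true), (Gen.h, true), (Gen.i, true), (Gen.d, true), (Gen.c, true), (Gen.b, true), (Gen.d, true), (Gen.e, true), (Gen.f, true), (Gen.d, true), (Gen.h, true), (Gen.i, true), (Gen.d, true), (Gen.c, true), (Gen.b, true), (Gen.d, true), (Gen.e, true)] 5 (by decide +kernel) relone_30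
theorem RW_17 : wG D.rels [(Gen.f, true), (Gen.d, true), (Gen.f, true), (Gen.d, true)] = 1 :=
  wG_of_rotate D.rels R21 [(Gen.f, true), (Gen.d, true), (Gen.f, true), (Gen.d, true)] 1 (by decide +kernel) relone_21
theorem RW_18 : wG D.rels [(Gen.c, true), (Gen.f, true), (Gen.c, true), (Gen.f, true)] = 1 :=
  wG_of_rotate D.rels R17 [(Gen.c, true), (Gen.f, true), (Gen.c, true), (Gen.f, true)] 0 (by decide +kernel) relone_17
theorem RW_19 : wG D.rels [(Gen.c, true), (Gen.h, true), (Gen.c, true), (Gen.h, true)] = 1 :=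
  wG_of_rotate D.rels R18 [(Gen.c, true), (Gen.h, true), (Gen.c, true), (Gen.h, true)] 0 (by decide +kernel) relone_18
theorem RW_20 : wG D.rels [(Gen.c, true), (Gen.i, true), (Gen.c, true), (Gen.i, true)] = 1 :=
  wG_of_rotate D.rels R19 [(Gen.c, true), (Gen.i, true), (Gen.c, true), (Gen.i, true)] 0 (by decide +kernel) relone_19
theorem RW_21 : wG D.rels [(Gen.d, true), (Gen.c, true), (Gen.d, true), (Gen.c, true), (Gen.d, true), (Gen.c, true)] = 1 :=
  wG_of_rotate D.rels R15 [(Gen.d, true), (Gen.c, true), (Gen.d, true), (Gen.c, true), (Gen.d, true), (Gen.c, true)] 1 (by decide +kernel) relone_15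
theorem RW_22 : wG D.rels [(Gen.d, true), (Gen.b, true), (Gen.d, true), (Gen.b, true)] = 1 :=
  wG_of_rotate D.rels R10 [(Gen.d, true), (Gen.b, true), (Gen.d, true), (Gen.b, true)] 1 (by decide +kernel) relone_10
theorem RW_23 : wG D.rels [(Gen.e, true), (Gen.f, true), (Gen.d, true), (Gen.h, true), (Gen.i, true), (Gen.d, true), (Gen.c, true), (Gen.b, true), (Gen.d, true), (Gen.e, true), (Gen.f, true), (Gen.d, true), (Gen.h, true), (Gen.i, true), (Gen.d, true), (Gen.c, true), (Gen.b, true), (Gen.d, true), (Gen.e, true), (Gen.f, true), (Gen.d, true), (Gen.h, true), (Gen.i, true), (Gen.d, true), (Gen.c, true), (Gen.b, true), (Gen.d, true), (Gen.e, true), (Gen.f, true), (Gen.d, true), (Gen.h, true), (Gen.i, true), (Gen.d, true), (Gen.c, true), (Gen.b, true), (Gen.d, true), (Gen.e, true), (Gen.f, true), (Gen.d, true), (Gen.h, true), (Gen.i, true), (Gen.d, true), (Gen.c, true), (Gen.b, true), (Gen.d, true), (Gen.e, true), (Gen.f, true), (Gen.d, true), (Gen.h, true), (Gen.i, true), (Gen.d, true), (Gen.c, true),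 (Gen.b, true), (Gen.d, true), (Gen.e, true), (Gen.f, true), (Gen.d, true), (Gen.h, true), (Gen.i, true), (Gen.d, true), (Gen.c, true), (Gen.b, true), (Gen.d, true), (Gen.e, true), (Gen.f, true), (Gen.d, true), (Gen.h, true), (Gen.i, true), (Gen.d, true), (Gen.c, true), (Gen.b, true), (Gen.d, true), (Gen.e, true), (Gen.f, true), (Gen.d, true), (Gen.h, true), (Gen.i, true), (Gen.d, true), (Gen.c, true), (Gen.b, true), (Gen.d, true), (Gen.e, true), (Gen.f, true), (Gen.d, true), (Gen.h, true), (Gen.i, true), (Gen.d, true), (Gen.c, true), (Gen.b, true), (Gen.d, true)] = 1 :=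
  wG_of_rotate D.rels R30 [(Gen.e, true), (Gen.f, true), (Gen.d, true), (Gen.h, true), (Gen.i, true), (Gen.d, true), (Gen.c, true), (Gen.b, true), (Gen.d, true), (Gen.e, true), (Gen.f, true), (Gen.d, true), (Gen.h, true), (Gen.i, true), (Gen.d, true), (Gen.c, true), (Gen.b, true), (Gen.d, true), (Gen.e, true), (Gen.f, true), (Gen.d, true), (Gen.h, true), (Gen.i, true), (Gen.d, true), (Gen.c, true), (Gen.b, true), (Gen.d, true), (Gen.e, true), (Gen.f, true), (Gen.d, true), (Gen.h, true), (Gen.i, true), (Gen.d, true), (Gen.c, true), (Gen.b, true), (Gen.d, true), (Gen.e, true), (Gen.f, true), (Gen.d, true), (Gen.h, true), (Gen.i, true), (Gen.d, true), (Gen.c, true), (Gen.b, true), (Gen.d, true), (Gen.e, true), (Gen.f, true), (Gen.d, true), (Gen.h, true), (Gen.i, true), (Gen.d, true), (Gen.c, true), (Gen.b, true), (Gen.d, true), (Gen.e, true), (Gen.f, true), (Gen.d, true), (Gen.h, true), (Gen.i, true), (Gen.d, true), (Gen.c, true), (Gen.b, true), (Gen.d, true), (Gen.e, true), (Gen.f, true), (Gen.d, true), (Gen.h,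 true), (Gen.i, true), (Gen.d, true), (Gen.c, true), (Gen.b, true), (Gen.d, true), (Gen.e, true), (Gen.f, true), (Gen.d, true), (Gen.h, true), (Gen.i, true), (Gen.d, true), (Gen.c, true), (Gen.b, true), (Gen.d, true), (Gen.e, true), (Gen.f, true), (Gen.d, true), (Gen.h, true), (Gen.i, true), (Gen.d, true), (Gen.c, true), (Gen.b, true), (Gen.d, true)] 4 (by decide +kernel) relone_30
theorem RW_24 : wG D.rels [(Gen.e, true), (Gen.c, true), (Gen.e, true), (Gen.c, true)] = 1 :=
  wG_of_rotate D.rels R16 [(Gen.e, true), (Gen.c, true), (Gen.e, true), (Gen.c, true)] 1 (by decide +kernel) relone_16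
theorem RW_25 : wG D.rels [(Gen.e, true), (Gen.i, true), (Gen.e, true), (Gen.i, true)] = 1 :=
  wG_of_rotate D.rels R26 [(Gen.e, true), (Gen.i, true), (Gen.e, true), (Gen.i, true)] 0 (by decide +kernel) relone_26
theorem RW_26 : wG D.rels [(Gen.e, true), (Gen.h, true), (Gen.e, true), (Gen.h, true)] = 1 :=
  wG_of_rotate D.rels R25 [(Gen.e, true), (Gen.h, true), (Gen.e, true), (Gen.h, true)] 0 (by decide +kernel) relone_25
theorem RW_27 : wG D.rels [(Gen.f, true), (Gen.h, true), (Gen.f, true), (Gen.h, true)] = 1 :=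
  wG_of_rotate D.rels R27 [(Gen.f, true), (Gen.h, true), (Gen.f, true), (Gen.h, true)] 0 (by decide +kernel) relone_27
theorem RW_28 : wG D.rels [(Gen.d, true), (Gen.h, true), (Gen.d, true), (Gen.h, true), (Gen.d, true), (Gen.h, true)] = 1 :=
  wG_of_rotate D.rels R22 [(Gen.d, true), (Gen.h, true), (Gen.d, true), (Gen.h, true), (Gen.d, true), (Gen.h, true)] 0 (by decide +kernel) relone_22
theorem RW_29 : wG D.rels [(Gen.e, true), (Gen.d, true), (Gen.e, true), (Gen.d, true), (Gen.e, true), (Gen.d, true)] = 1 :=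
  wG_of_rotate D.rels R20 [(Gen.e, true), (Gen.d, true), (Gen.e, true), (Gen.d, true), (Gen.e, true), (Gen.d, true)] 1 (by decide +kernel) relone_20
theorem RW_30 : wG D.rels [(Gen.d, true), (Gen.h, true), (Gen.i, true), (Gen.d, true), (Gen.c, true), (Gen.b, true), (Gen.d, true), (Gen.e, true), (Gen.f, true), (Gen.d, true), (Gen.h, true), (Gen.i, true), (Gen.d, true), (Gen.c, true), (Gen.b, true), (Gen.d, true), (Gen.e, true), (Gen.f, true), (Gen.d, true), (Gen.h, true), (Gen.i, true), (Gen.d, true), (Gen.c, true), (Gen.b, true), (Gen.d, true), (Gen.e, true), (Gen.f, true), (Gen.d, true), (Gen.h, true), (Gen.i, true), (Gen.d, true), (Gen.c, true), (Gen.b, true), (Gen.d, true), (Gen.e, true), (Gen.f, true), (Gen.d, true), (Gen.h, true), (Gen.i, true), (Gen.d, true), (Gen.c, true), (Gen.b, true), (Gen.d, true), (Gen.e, true), (Gen.f, true), (Gen.d, true), (Gen.h, true), (Gen.i, true), (Gen.d, true), (Gen.c, true), (Gen.b, true), (Gen.d, true), (Gen.e, true), (Gen.f, true), (Gen.d, true), (Gen.h, true), (Gen.i,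 true), (Gen.d, true), (Gen.c, true), (Gen.b, true), (Gen.d, true), (Gen.e, true), (Gen.f, true), (Gen.d, true), (Gen.h, true), (Gen.i, true), (Gen.d, true), (Gen.c, true), (Gen.b, true), (Gen.d, true), (Gen.e, true), (Gen.f, true), (Gen.d, true), (Gen.h, true), (Gen.i, true), (Gen.d, true), (Gen.c, true), (Gen.b, true), (Gen.d, true), (Gen.e, true), (Gen.f, true), (Gen.d, true), (Gen.h, true), (Gen.i, true), (Gen.d, true), (Gen.c, true), (Gen.b, true), (Gen.d, true), (Gen.e, true), (Gen.f, true)] = 1 :=
  wG_of_rotate D.rels R30 [(Gen.d, true), (Gen.h, true), (Gen.i, true), (Gen.d, true), (Gen.c, true), (Gen.b, true), (Gen.d, true), (Gen.e, true), (Gen.f, true), (Gen.d, true), (Gen.h, true), (Gen.i, true), (Gen.d, true), (Gen.c, true), (Gen.b, true), (Gen.d, true), (Gen.e, true), (Gen.f, true), (Gen.d, true), (Gen.h, true), (Gen.i, true), (Gen.d, true), (Gen.c, true), (Gen.b, true), (Gen.d, true), (Gen.e, true), (Gen.f, true), (Gen.d, true), (Gen.h, true), (Gen.i, true), (Gen.d, true), (Gen.c, true), (Gen.b,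 true), (Gen.d, true), (Gen.e, true), (Gen.f, true), (Gen.d, true), (Gen.h, true), (Gen.i, true), (Gen.d, true), (Gen.c, true), (Gen.b, true), (Gen.d, true), (Gen.e, true), (Gen.f, true), (Gen.d, true), (Gen.h, true), (Gen.i, true), (Gen.d, true), (Gen.c, true), (Gen.b, true), (Gen.d, true), (Gen.e, true), (Gen.f, true), (Gen.d, true), (Gen.h, true), (Gen.i, true), (Gen.d, true), (Gen.c, true), (Gen.b, true), (Gen.d, true), (Gen.e, true), (Gen.f, true), (Gen.d, true), (Gen.h, true), (Gen.i, true), (Gen.d, true), (Gen.c, true), (Gen.b, true), (Gen.d, true), (Gen.e, true), (Gen.f, true), (Gen.d, true), (Gen.h, true), (Gen.i, true), (Gen.d, true), (Gen.c, true), (Gen.b, true), (Gen.d, true), (Gen.e, true), (Gen.f, true), (Gen.d, true), (Gen.h, true), (Gen.i, true), (Gen.d, true), (Gen.c, true), (Gen.b, true), (Gen.d, true), (Gen.e, true), (Gen.f, true)] 6 (by decide +kernel) relone_30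
theorem RW_31 : wG D.rels [(Gen.b, true), (Gen.h, true), (Gen.b, true), (Gen.h, true)] = 1 :=
  wG_of_rotate D.rels R13 [(Gen.b, true), (Gen.h, true), (Gen.b, true), (Gen.h, true)] 0 (by decide +kernel) relone_13
theorem RW_32 : wG D.rels [(Gen.h, true), (Gen.i, true), (Gen.h, true), (Gen.i, true), (Gen.h, true), (Gen.i, true)] = 1 :=
  wG_of_rotate D.rels R29 [(Gen.h, true), (Gen.i, true), (Gen.h, true), (Gen.i, true), (Gen.h, true), (Gen.i, true)] 0 (by decide +kernel) relone_29
theorem RW_33 : wG D.rels [(Gen.b, true), (Gen.i, true), (Gen.b, true), (Gen.i, true)] = 1 :=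
  wG_of_rotate D.rels R14 [(Gen.b, true), (Gen.i, true), (Gen.b, true), (Gen.i, true)] 0 (by decide +kernel) relone_14
theorem RW_34 : wG D.rels [(Gen.d, true), (Gen.f, true), (Gen.d, true), (Gen.f, true)] = 1 :=
  wG_of_rotate D.rels R21 [(Gen.d, true), (Gen.f, true), (Gen.d, true), (Gen.f, true)] 0 (by decide +kernel) relone_21
theorem RW_35 : wG D.rels [(Gen.d, true), (Gen.i, true), (Gen.d, true), (Gen.i, true)] = 1 :=
  wG_of_rotate D.rels R23 [(Gen.d, true), (Gen.i, true), (Gen.d, true), (Gen.i, true)] 0 (by decide +kernel) relone_23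
theorem RW_36 : wG D.rels [(Gen.f, true), (Gen.i, true), (Gen.f, true), (Gen.i, true)] = 1 :=
  wG_of_rotate D.rels R28 [(Gen.f, true), (Gen.i, true), (Gen.f, true), (Gen.i, true)] 0 (by decide +kernel) relone_28
theorem RW_37 : wG D.rels [(Gen.h, true), (Gen.d, true), (Gen.h, true), (Gen.d, true), (Gen.h, true), (Gen.d, true)] = 1 :=
  wG_of_rotate D.rels R22 [(Gen.h, true), (Gen.d, true), (Gen.h, true), (Gen.d, true), (Gen.h, true), (Gen.d, true)] 1 (by decide +kernel) relone_22
theorem RW_38 : wG D.rels [(Gen.e, true), (Gen.b, true), (Gen.e, true), (Gen.b, true)] = 1 :=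
  wG_of_rotate D.rels R11 [(Gen.e, true), (Gen.b, true), (Gen.e, true), (Gen.b, true)] 1 (by decide +kernel) relone_11
theorem RW_39 : wG D.rels [(Gen.f, true), (Gen.b, true), (Gen.f, true), (Gen.b, true)] = 1 :=
  wG_of_rotate D.rels R12 [(Gen.f, true), (Gen.b, true), (Gen.f, true), (Gen.b, true)] 1 (by decide +kernel) relone_12
theorem RW_40 : wG D.rels [(Gen.h, true), (Gen.b, true), (Gen.h, true), (Gen.b, true)] = 1 :=
  wG_of_rotate D.rels R13 [(Gen.h, true), (Gen.b, true), (Gen.h, true), (Gen.b, true)] 1 (by decide +kernel) relone_13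
theorem RW_41 : wG D.rels [(Gen.f, true), (Gen.e, true), (Gen.f, true), (Gen.e, true), (Gen.f, true), (Gen.e, true)] = 1 :=
  wG_of_rotate D.rels R24 [(Gen.f, true), (Gen.e, true), (Gen.f, true), (Gen.e, true), (Gen.f, true), (Gen.e, true)] 1 (by decide +kernel) relone_24
theorem RW_42 : wG D.rels [(Gen.c, true), (Gen.d, true), (Gen.i, true), (Gen.h, true), (Gen.d, true), (Gen.f, true), (Gen.e, true), (Gen.d, true), (Gen.b, true), (Gen.c, true), (Gen.d, true), (Gen.i, true), (Gen.h, true), (Gen.d, true), (Gen.f, true), (Gen.e, true), (Gen.d, true), (Gen.b, true), (Gen.c, true), (Gen.d, true), (Gen.i, true), (Gen.h, true), (Gen.d, true), (Gen.f, true), (Gen.e, true), (Gen.d, true), (Gen.b, true), (Gen.c, true), (Gen.d, true), (Gen.i, true), (Gen.h, true), (Gen.d, true), (Gen.f, true), (Gen.e, true), (Gen.d, true), (Gen.b, true), (Gen.c, true), (Gen.d, true), (Gen.i, true), (Gen.h, true), (Gen.d, true), (Gen.f, true), (Gen.e, true), (Gen.d, true), (Gen.b, true), (Gen.c, true), (Gen.d, true), (Gen.i, true),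 (Gen.h, true), (Gen.d, true), (Gen.f, true), (Gen.e, true), (Gen.d, true), (Gen.b, true), (Gen.c, true), (Gen.d, true), (Gen.i, true), (Gen.h, true), (Gen.d, true), (Gen.f, true), (Gen.e, true), (Gen.d, true), (Gen.b, true), (Gen.c, true), (Gen.d, true), (Gen.i, true), (Gen.h, true), (Gen.d, true), (Gen.f, true), (Gen.e, true), (Gen.d, true), (Gen.b, true), (Gen.c, true), (Gen.d, true), (Gen.i, true), (Gen.h, true), (Gen.d, true), (Gen.f, true), (Gen.e, true), (Gen.d, true), (Gen.b, true), (Gen.c, true), (Gen.d, true), (Gen.i, true), (Gen.h, true), (Gen.d, true), (Gen.f, true), (Gen.e, true), (Gen.d, true), (Gen.b, true)] = 1 :=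
  wG_of_rotate D.rels RV30 [(Gen.c, true), (Gen.d, true), (Gen.i, true), (Gen.h, true), (Gen.d, true), (Gen.f, true), (Gen.e, true), (Gen.d, true), (Gen.b, true), (Gen.c, true), (Gen.d, true), (Gen.i, true), (Gen.h, true), (Gen.d, true), (Gen.f, true), (Gen.e, true), (Gen.d, true), (Gen.b, true), (Gen.c, true), (Gen.d, true), (Gen.i, true), (Gen.h, true), (Gen.d, true), (Gen.f, true), (Gen.e, true), (Gen.d, true), (Gen.b, true), (Gen.c, true), (Gen.d, true), (Gen.i, true), (Gen.h, true), (Gen.d, true), (Gen.f, true), (Gen.e, true), (Gen.d, true), (Gen.b, true), (Gen.c, true), (Gen.d, true), (Gen.i, true), (Gen.h, true), (Gen.d, true), (Gen.f, true), (Gen.e, true), (Gen.d, true), (Gen.b, true), (Gen.c, true), (Gen.d, true), (Gen.i, true), (Gen.h, true), (Gen.d, true), (Gen.f, true), (Gen.e, true), (Gen.d, true), (Gen.b, true), (Gen.c, true), (Gen.d, true), (Gen.i, true), (Gen.h, true), (Gen.d, true), (Gen.f, true), (Gen.e, true), (Gen.d, true), (Gen.b, true), (Gen.c, true), (Gen.d, true), (Gen.i, true), (Gen.h,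 true), (Gen.d, true), (Gen.f, true), (Gen.e, true), (Gen.d, true), (Gen.b, true), (Gen.c, true), (Gen.d, true), (Gen.i, true), (Gen.h, true), (Gen.d, true), (Gen.f, true), (Gen.e, true), (Gen.d, true), (Gen.b, true), (Gen.c, true), (Gen.d, true), (Gen.i, true), (Gen.h, true), (Gen.d, true), (Gen.f, true), (Gen.e, true), (Gen.d, true), (Gen.b, true)] 7 (by decide +kernel) relrev_30
theorem RW_43 : wG D.rels [(Gen.i, true), (Gen.h, true), (Gen.i, true), (Gen.h, true), (Gen.i, true), (Gen.h, true)] = 1 :=
  wG_of_rotate D.rels R29 [(Gen.i, true), (Gen.h, true), (Gen.i, true), (Gen.h, true), (Gen.i, true), (Gen.h, true)] 1 (by decide +kernel) relone_29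
theorem RW_44 : wG D.rels [(Gen.i, true), (Gen.b, true), (Gen.i, true), (Gen.b, true)] = 1 :=
  wG_of_rotate D.rels R14 [(Gen.i, true), (Gen.b, true), (Gen.i, true), (Gen.b, true)] 1 (by decide +kernel) relone_14
theorem RW_45 : wG D.rels [(Gen.b, true), (Gen.d, true), (Gen.e, true), (Gen.f, true), (Gen.d, true), (Gen.h, true), (Gen.i, true), (Gen.d, true), (Gen.c, true), (Gen.b, true), (Gen.d, true), (Gen.e, true), (Gen.f, true), (Gen.d, true), (Gen.h, true), (Gen.i, true), (Gen.d, true), (Gen.c, true), (Gen.b, true), (Gen.d, true), (Gen.e, true), (Gen.f, true), (Gen.d, true), (Gen.h, true), (Gen.i, true), (Gen.d, true), (Gen.c, true), (Gen.b, true), (Gen.d, true), (Gen.e, true), (Gen.f, true), (Gen.d, true), (Gen.h, true), (Gen.i, true), (Gen.d, true), (Gen.c, true), (Gen.b, true), (Gen.d, true), (Gen.e, true), (Gen.f, true), (Gen.d, true), (Gen.h, true), (Gen.i, true), (Gen.d, true), (Gen.c, true), (Gen.b, true), (Gen.d, true), (Gen.e, true), (Gen.f, true), (Gen.d, true), (Gen.h, true), (Gen.i, true),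 (Gen.d, true), (Gen.c, true), (Gen.b, true), (Gen.d, true), (Gen.e, true), (Gen.f, true), (Gen.d, true), (Gen.h, true), (Gen.i, true), (Gen.d, true), (Gen.c, true), (Gen.b, true), (Gen.d, true), (Gen.e, true), (Gen.f, true), (Gen.d, true), (Gen.h, true), (Gen.i, true), (Gen.d, true), (Gen.c, true), (Gen.b, true), (Gen.d, true), (Gen.e, true), (Gen.f, true), (Gen.d, true), (Gen.h, true), (Gen.i, true), (Gen.d, true), (Gen.c, true), (Gen.b, true), (Gen.d, true), (Gen.e, true), (Gen.f, true), (Gen.d, true), (Gen.h, true), (Gen.i, true), (Gen.d, true), (Gen.c, true)] = 1 :=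
  wG_of_rotate D.rels R30 [(Gen.b, true), (Gen.d, true), (Gen.e, true), (Gen.f, true), (Gen.d, true), (Gen.h, true), (Gen.i, true), (Gen.d, true), (Gen.c, true), (Gen.b, true), (Gen.d, true), (Gen.e, true), (Gen.f, true), (Gen.d, true), (Gen.h, true), (Gen.i, true), (Gen.d, true), (Gen.c, true), (Gen.b, true), (Gen.d, true), (Gen.e, true), (Gen.f, true), (Gen.d, true), (Gen.h, true), (Gen.i, true), (Gen.d, true), (Gen.c, true), (Gen.b, true), (Gen.d, true), (Gen.e, true), (Gen.f, true), (Gen.d, true), (Gen.h, true), (Gen.i, true), (Gen.d, true), (Gen.c, true), (Gen.b, true), (Gen.d, true), (Gen.e, true), (Gen.f, true), (Gen.d, true), (Gen.h, true), (Gen.i, true), (Gen.d, true), (Gen.c, true), (Gen.b, true), (Gen.d, true), (Gen.e, true), (Gen.f, true), (Gen.d, true), (Gen.h, true), (Gen.i, true), (Gen.d, true), (Gen.c, true), (Gen.b, true), (Gen.d, true), (Gen.e, true), (Gen.f, true), (Gen.d, true), (Gen.h, true), (Gen.i, true), (Gen.d, true), (Gen.c, true), (Gen.b, true), (Gen.d, true), (Gen.e, true), (Gen.f,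 true), (Gen.d, true), (Gen.h, true), (Gen.i, true), (Gen.d, true), (Gen.c, true), (Gen.b, true), (Gen.d, true), (Gen.e, true), (Gen.f, true), (Gen.d, true), (Gen.h, true), (Gen.i, true), (Gen.d, true), (Gen.c, true), (Gen.b, true), (Gen.d, true), (Gen.e, true), (Gen.f, true), (Gen.d, true), (Gen.h, true), (Gen.i, true), (Gen.d, true), (Gen.c, true)] 2 (by decide +kernel) relone_30
theorem RW_46 : wG D.rels [(Gen.d, true), (Gen.i, true), (Gen.h, true), (Gen.d, true), (Gen.f, true), (Gen.e, true), (Gen.d, true), (Gen.b, true), (Gen.c, true), (Gen.d, true), (Gen.i, true), (Gen.h, true), (Gen.d, true), (Gen.f, true), (Gen.e, true), (Gen.d, true), (Gen.b, true), (Gen.c, true), (Gen.d, true), (Gen.i, true), (Gen.h, true), (Gen.d, true), (Gen.f, true), (Gen.e, true), (Gen.d, true), (Gen.b, true), (Gen.c, true), (Gen.d, true), (Gen.i, true), (Gen.h, true), (Gen.d, true), (Gen.f, true), (Gen.e, true), (Gen.d, true), (Gen.b, true), (Gen.c, true), (Gen.d, true), (Gen.i, true), (Gen.h, true), (Gen.d, true), (Gen.f, true),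 (Gen.e, true), (Gen.d, true), (Gen.b, true), (Gen.c, true), (Gen.d, true), (Gen.i, true), (Gen.h, true), (Gen.d, true), (Gen.f, true), (Gen.e, true), (Gen.d, true), (Gen.b, true), (Gen.c, true), (Gen.d, true), (Gen.i, true), (Gen.h, true), (Gen.d, true), (Gen.f, true), (Gen.e, true), (Gen.d, true), (Gen.b, true), (Gen.c, true), (Gen.d, true), (Gen.i, true), (Gen.h, true), (Gen.d, true), (Gen.f, true), (Gen.e, true), (Gen.d, true), (Gen.b, true), (Gen.c, true), (Gen.d, true), (Gen.i, true), (Gen.h, true), (Gen.d, true), (Gen.f, true), (Gen.e, true), (Gen.d, true), (Gen.b, true), (Gen.c, true), (Gen.d, true), (Gen.i, true), (Gen.h, true), (Gen.d, true), (Gen.f, true), (Gen.e, true), (Gen.d, true), (Gen.b, true), (Gen.c, true)] = 1 :=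
  wG_of_rotate D.rels RV30 [(Gen.d, true), (Gen.i, true), (Gen.h, true), (Gen.d, true), (Gen.f, true), (Gen.e, true), (Gen.d, true), (Gen.b, true), (Gen.c, true), (Gen.d, true), (Gen.i, true), (Gen.h, true), (Gen.d, true), (Gen.f, true), (Gen.e, true), (Gen.d, true), (Gen.b, true), (Gen.c, true), (Gen.d, true), (Gen.i, true), (Gen.h, true), (Gen.d, true), (Gen.f, true), (Gen.e, true), (Gen.d, true), (Gen.b, true), (Gen.c, true), (Gen.d, true), (Gen.i, true), (Gen.h, true), (Gen.d, true), (Gen.f, true), (Gen.e, true), (Gen.d, true), (Gen.b, true), (Gen.c, true), (Gen.d, true), (Gen.i, true), (Gen.h, true), (Gen.d, true), (Gen.f, true), (Gen.e, true), (Gen.d, true), (Gen.b, true), (Gen.c, true), (Gen.d, true), (Gen.i, true), (Gen.h, true), (Gen.d, true), (Gen.f, true), (Gen.e, true), (Gen.d, true), (Gen.b, true), (Gen.c, true), (Gen.d, true), (Gen.i, true), (Gen.h, true), (Gen.d, true), (Gen.f, true), (Gen.e, true), (Gen.d, true), (Gen.b, true), (Gen.c, true), (Gen.d, true), (Gen.i, true), (Gen.h, true), (Gen.d,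 true), (Gen.f, true), (Gen.e, true), (Gen.d, true), (Gen.b, true), (Gen.c, true), (Gen.d, true), (Gen.i, true), (Gen.h, true), (Gen.d, true), (Gen.f, true), (Gen.e, true), (Gen.d, true), (Gen.b, true), (Gen.c, true), (Gen.d, true), (Gen.i, true), (Gen.h, true), (Gen.d, true), (Gen.f, true), (Gen.e, true), (Gen.d, true), (Gen.b, true), (Gen.c, true)] 8 (by decide +kernel) relrev_30
theorem RW_47 : wG D.rels [(Gen.b, true), (Gen.c, true), (Gen.b, true), (Gen.c, true), (Gen.b, true), (Gen.c, true)] = 1 :=
  wG_of_rotate D.rels R9 [(Gen.b, true), (Gen.c, true), (Gen.b, true), (Gen.c, true), (Gen.b, true), (Gen.c, true)] 0 (by decide +kernel) relone_9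
theorem RW_48 : wG D.rels [(Gen.b, true), (Gen.b, true)] = 1 :=
  wG_of_rotate D.rels R2 [(Gen.b, true), (Gen.b, true)] 0 (by decide +kernel) relone_2
theorem RW_49 : wG D.rels [(Gen.c, true), (Gen.c, true)] = 1 :=
  wG_of_rotate D.rels R3 [(Gen.c, true), (Gen.c, true)] 0 (by decide +kernel) relone_3
theorem RW_50 : wG D.rels [(Gen.c, true), (Gen.b, true), (Gen.d, true), (Gen.e, true), (Gen.f, true), (Gen.d, true), (Gen.h, true), (Gen.i, true), (Gen.d, true), (Gen.c, true), (Gen.b, true), (Gen.d, true), (Gen.e, true), (Gen.f, true), (Gen.d, true), (Gen.h, true), (Gen.i, true), (Gen.d, true), (Gen.c, true), (Gen.b, true), (Gen.d, true), (Gen.e, true), (Gen.f, true), (Gen.d, true), (Gen.h, true), (Gen.i, true), (Gen.d, true), (Gen.c, true), (Gen.b, true), (Gen.d, true), (Gen.e, true), (Gen.f, true), (Gen.d, true), (Gen.h, true), (Gen.i, true), (Gen.d, true), (Gen.c, true), (Gen.b, true), (Gen.d, true), (Gen.e, true), (Gen.f, true), (Gen.d, true), (Gen.h, true), (Gen.i, true), (Gen.d, true), (Gen.c, true), (Gen.b,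 true), (Gen.d, true), (Gen.e, true), (Gen.f, true), (Gen.d, true), (Gen.h, true), (Gen.i, true), (Gen.d, true), (Gen.c, true), (Gen.b, true), (Gen.d, true), (Gen.e, true), (Gen.f, true), (Gen.d, true), (Gen.h, true), (Gen.i, true), (Gen.d, true), (Gen.c, true), (Gen.b, true), (Gen.d, true), (Gen.e, true), (Gen.f, true), (Gen.d, true), (Gen.h, true), (Gen.i, true), (Gen.d, true), (Gen.c, true), (Gen.b, true), (Gen.d, true), (Gen.e, true), (Gen.f, true), (Gen.d, true), (Gen.h, true), (Gen.i, true), (Gen.d, true), (Gen.c, true), (Gen.b, true), (Gen.d, true), (Gen.e, true), (Gen.f, true), (Gen.d, true), (Gen.h, true), (Gen.i, true), (Gen.d, true)] = 1 :=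
  wG_of_rotate D.rels R30 [(Gen.c, true), (Gen.b, true), (Gen.d, true), (Gen.e, true), (Gen.f, true), (Gen.d, true), (Gen.h, true), (Gen.i, true), (Gen.d, true), (Gen.c, true), (Gen.b, true), (Gen.d, true), (Gen.e, true), (Gen.f, true), (Gen.d, true), (Gen.h, true), (Gen.i, true), (Gen.d, true), (Gen.c, true), (Gen.b, true), (Gen.d, true), (Gen.e, true), (Gen.f, true), (Gen.d, true), (Gen.h, true), (Gen.i, true), (Gen.d, true), (Gen.c, true), (Gen.b, true), (Gen.d, true), (Gen.e, true), (Gen.f, true), (Gen.d, true), (Gen.h, true), (Gen.i, true), (Gen.d, true), (Gen.c, true), (Gen.b, true), (Gen.d, true), (Gen.e, true), (Gen.f, true), (Gen.d, true), (Gen.h, true), (Gen.i, true), (Gen.d, true), (Gen.c, true), (Gen.b, true), (Gen.d, true), (Gen.e, true), (Gen.f, true), (Gen.d, true), (Gen.h, true), (Gen.i, true), (Gen.d, true), (Gen.c, true), (Gen.b, true), (Gen.d, true), (Gen.e, true), (Gen.f, true), (Gen.d, true), (Gen.h, true), (Gen.i, true), (Gen.d, true), (Gen.c, true), (Gen.b, true), (Gen.d, true), (Gen.e,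 true), (Gen.f, true), (Gen.d, true), (Gen.h, true), (Gen.i, true), (Gen.d, true), (Gen.c, true), (Gen.b, true), (Gen.d, true), (Gen.e, true), (Gen.f, true), (Gen.d, true), (Gen.h, true), (Gen.i, true), (Gen.d, true), (Gen.c, true), (Gen.b, true), (Gen.d, true), (Gen.e, true), (Gen.f, true), (Gen.d, true), (Gen.h, true), (Gen.i, true), (Gen.d, true)] 1 (by decide +kernel) relone_30
theorem RW_51 : wG D.rels [(Gen.d, true), (Gen.d, true)] = 1 :=
  wG_of_rotate D.rels R4 [(Gen.d, true), (Gen.d, true)] 0 (by decide +kernel) relone_4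
theorem RW_52 : wG D.rels [(Gen.e, true), (Gen.e, true)] = 1 :=
  wG_of_rotate D.rels R5 [(Gen.e, true), (Gen.e, true)] 0 (by decide +kernel) relone_5
theorem RW_53 : wG D.rels [(Gen.e, true), (Gen.d, true), (Gen.b, true), (Gen.c, true), (Gen.d, true), (Gen.i, true), (Gen.h, true), (Gen.d, true), (Gen.f, true), (Gen.e, true), (Gen.d, true), (Gen.b, true), (Gen.c, true), (Gen.d, true), (Gen.i, true), (Gen.h, true), (Gen.d, true), (Gen.f, true), (Gen.e, true), (Gen.d, true), (Gen.b, true), (Gen.c, true), (Gen.d, true), (Gen.i, true), (Gen.h, true), (Gen.d, true), (Gen.f, true), (Gen.e, true), (Gen.d, true), (Gen.b, true), (Gen.c, true), (Gen.d, true), (Gen.i, true), (Gen.h, true), (Gen.d, true), (Gen.f, true), (Gen.e, true), (Gen.d, true), (Gen.b, true), (Gen.c, true), (Gen.d, true), (Gen.i, true), (Gen.h, true), (Gen.d, true), (Gen.f, true), (Gen.e, true), (Gen.d, true), (Gen.b, true), (Gen.c, true), (Gen.d, true), (Gen.i, true), (Gen.h, true), (Gen.d, true), (Gen.f, true), (Gen.e, true), (Gen.d, true), (Gen.b,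 true), (Gen.c, true), (Gen.d, true), (Gen.i, true), (Gen.h, true), (Gen.d, true), (Gen.f, true), (Gen.e, true), (Gen.d, true), (Gen.b, true), (Gen.c, true), (Gen.d, true), (Gen.i, true), (Gen.h, true), (Gen.d, true), (Gen.f, true), (Gen.e, true), (Gen.d, true), (Gen.b, true), (Gen.c, true), (Gen.d, true), (Gen.i, true), (Gen.h, true), (Gen.d, true), (Gen.f, true), (Gen.e, true), (Gen.d, true), (Gen.b, true), (Gen.c, true), (Gen.d, true), (Gen.i, true), (Gen.h, true), (Gen.d, true), (Gen.f, true)] = 1 :=
  wG_of_rotate D.rels RV30 [(Gen.e, true), (Gen.d, true), (Gen.b, true), (Gen.c, true), (Gen.d, true), (Gen.i, true), (Gen.h, true), (Gen.d, true), (Gen.f, true), (Gen.e, true), (Gen.d, true), (Gen.b, true), (Gen.c, true), (Gen.d, true), (Gen.i, true), (Gen.h, true), (Gen.d, true), (Gen.f, true), (Gen.e, true), (Gen.d, true), (Gen.b, true), (Gen.c, true), (Gen.d, true), (Gen.i, true), (Gen.h, true), (Gen.d, true), (Gen.f, true), (Gen.e, true), (Gen.d, true), (Gen.b, true), (Gen.c, true), (Gen.d, true), (Gen.i,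 true), (Gen.h, true), (Gen.d, true), (Gen.f, true), (Gen.e, true), (Gen.d, true), (Gen.b, true), (Gen.c, true), (Gen.d, true), (Gen.i, true), (Gen.h, true), (Gen.d, true), (Gen.f, true), (Gen.e, true), (Gen.d, true), (Gen.b, true), (Gen.c, true), (Gen.d, true), (Gen.i, true), (Gen.h, true), (Gen.d, true), (Gen.f, true), (Gen.e, true), (Gen.d, true), (Gen.b, true), (Gen.c, true), (Gen.d, true), (Gen.i, true), (Gen.h, true), (Gen.d, true), (Gen.f, true), (Gen.e, true), (Gen.d, true), (Gen.b, true), (Gen.c, true), (Gen.d, true), (Gen.i, true), (Gen.h, true), (Gen.d, true), (Gen.f, true), (Gen.e, true), (Gen.d, true), (Gen.b, true), (Gen.c, true), (Gen.d, true), (Gen.i, true), (Gen.h, true), (Gen.d, true), (Gen.f, true), (Gen.e, true), (Gen.d, true), (Gen.b, true), (Gen.c, true), (Gen.d, true), (Gen.i, true), (Gen.h, true), (Gen.d, true), (Gen.f, true)] 4 (by decide +kernel) relrev_30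
theorem RW_54 : wG D.rels [(Gen.f, true), (Gen.f, true)] = 1 :=
  wG_of_rotate D.rels R6 [(Gen.f, true), (Gen.f, true)] 0 (by decide +kernel) relone_6
theorem RW_55 : wG D.rels [(Gen.h, true), (Gen.h, true)] = 1 :=
  wG_of_rotate D.rels R7 [(Gen.h, true), (Gen.h, true)] 0 (by decide +kernel) relone_7
theorem RW_56 : wG D.rels [(Gen.h, true), (Gen.i, true), (Gen.d, true), (Gen.c, true), (Gen.b, true), (Gen.d, true), (Gen.e, true), (Gen.f, true), (Gen.d, true), (Gen.h, true), (Gen.i, true), (Gen.d, true), (Gen.c, true), (Gen.b, true), (Gen.d, true), (Gen.e, true), (Gen.f, true), (Gen.d, true), (Gen.h, true), (Gen.i, true), (Gen.d, true), (Gen.c, true), (Gen.b, true), (Gen.d, true), (Gen.e, true), (Gen.f, true), (Gen.d, true), (Gen.h, true), (Gen.i, true), (Gen.d, true), (Gen.c, true), (Gen.b, true), (Gen.d, true), (Gen.e, true), (Gen.f, true), (Gen.d, true), (Gen.h, true), (Gen.i, true), (Gen.d, true), (Gen.c, true), (Gen.b, true), (Gen.d, true), (Gen.e, true), (Gen.f, true), (Gen.d, true), (Gen.h, true), (Gen.i,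 true), (Gen.d, true), (Gen.c, true), (Gen.b, true), (Gen.d, true), (Gen.e, true), (Gen.f, true), (Gen.d, true), (Gen.h, true), (Gen.i, true), (Gen.d, true), (Gen.c, true), (Gen.b, true), (Gen.d, true), (Gen.e, true), (Gen.f, true), (Gen.d, true), (Gen.h, true), (Gen.i, true), (Gen.d, true), (Gen.c, true), (Gen.b, true), (Gen.d, true), (Gen.e, true), (Gen.f, true), (Gen.d, true), (Gen.h, true), (Gen.i, true), (Gen.d, true), (Gen.c, true), (Gen.b, true), (Gen.d, true), (Gen.e, true), (Gen.f, true), (Gen.d, true), (Gen.h, true), (Gen.i, true), (Gen.d, true), (Gen.c, true), (Gen.b, true), (Gen.d, true), (Gen.e, true), (Gen.f, true), (Gen.d, true)] = 1 :=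
  wG_of_rotate D.rels R30 [(Gen.h, true), (Gen.i, true), (Gen.d, true), (Gen.c, true), (Gen.b, true), (Gen.d, true), (Gen.e, true), (Gen.f, true), (Gen.d, true), (Gen.h, true), (Gen.i, true), (Gen.d, true), (Gen.c, true), (Gen.b, true), (Gen.d, true), (Gen.e, true), (Gen.f, true), (Gen.d, true), (Gen.h, true), (Gen.i, true), (Gen.d, true), (Gen.c, true), (Gen.b, true), (Gen.d, true), (Gen.e, true), (Gen.f, true), (Gen.d, true), (Gen.h, true), (Gen.i, true), (Gen.d, true), (Gen.c, true), (Gen.b, true), (Gen.d, true), (Gen.e, true), (Gen.f, true), (Gen.d, true), (Gen.h, true), (Gen.i, true), (Gen.d, true), (Gen.c, true), (Gen.b, true), (Gen.d, true), (Gen.e, true), (Gen.f, true), (Gen.d, true), (Gen.h, true), (Gen.i, true), (Gen.d, true), (Gen.c, true), (Gen.b, true), (Gen.d, true), (Gen.e, true), (Gen.f, true), (Gen.d, true), (Gen.h, true), (Gen.i, true), (Gen.d, true), (Gen.c, true), (Gen.b, true), (Gen.d, true), (Gen.e, true), (Gen.f, true), (Gen.d, true), (Gen.h, true), (Gen.i, true), (Gen.d, true), (Gen.c,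 true), (Gen.b, true), (Gen.d, true), (Gen.e, true), (Gen.f, true), (Gen.d, true), (Gen.h, true), (Gen.i, true), (Gen.d, true), (Gen.c, true), (Gen.b, true), (Gen.d, true), (Gen.e, true), (Gen.f, true), (Gen.d, true), (Gen.h, true), (Gen.i, true), (Gen.d, true), (Gen.c, true), (Gen.b, true), (Gen.d, true), (Gen.e, true), (Gen.f, true), (Gen.d, true)] 7 (by decide +kernel) relone_30
theorem RW_57 : wG D.rels [(Gen.i, true), (Gen.i, true)] = 1 :=
  wG_of_rotate D.rels R8 [(Gen.i, true), (Gen.i, true)] 0 (by decide +kernel) relone_8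
def certL_a : List (Cert D.rels D.S Gen.a) :=
  [Cert.tree,
   Cert.rel true [] relone_0]
def ct_a : Nat := 6248436927315523434565143077319295892891629683967722727761521919077626436030656026141046345880326965549086494848456433629704411557500060839003249975166559589321236427992337582282538512826243447748289505120262701688699968885683073995726327873947521157665233122880399092054505784394940680284983467602578223892304624979829836784906932509334571728749215034959971091314938859560579110134769552651229683080005599409823232120835277765933872195179265424198093765472699423292463484834195303344534171398291657059794398963574768989289404360219866376066528123713982833402729776328613812229964033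
def certL_b : List (Cert D.rels D.S Gen.b) :=
  [Cert.tree,
   Cert.sub true [] [] (D.sub_mem Gen.b (by decide)),
   Cert.rel true [(Gen.i, true), (Gen.b, true), (Gen.i, true)] RW_33,
   Cert.rel true [(Gen.h, true), (Gen.b, true), (Gen.h, true)] RW_31,
   Cert.rel true [(Gen.d, true), (Gen.b, true), (Gen.d, true)] RW_4,
   Cert.rel true [(Gen.e, true), (Gen.b, true), (Gen.e, true)] RW_7,
   Cert.rel true [(Gen.b, true)] RW_48,
   Cert.rel true [(Gen.f, true), (Gen.b, true), (Gen.f, true)] RW_12,
   Cert.rel true [(Gen.c, true), (Gen.b, true), (Gen.c, true), (Gen.b, true), (Gen.c, true)] RW_47]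
def ct_b : Nat := 37441995966568196630665328214966514400813862291305068198521692702044655075745025151238131026108896980916109635462958016478863502733421391606181765244714226877667968072517506317484459514262498440214499608652294459985312357324695885366826993393250775147577912036142471090100153729341564049609096877992973569111839176521451499244594030643990456891841412008642160382053080987278568027358799983440104051037076269578292490823462722369659586965444430060321804952161342210822983597804453323953623203966526263582646942411400855593320812072757847436152997467900262566728216840645745990667796993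
def certL_c : List (Cert D.rels D.S Gen.c) :=
  [Cert.tree,
   Cert.sub true [] [] (D.sub_mem Gen.c (by decide)),
   Cert.rel true [(Gen.i, true), (Gen.c, true), (Gen.i, true)] RW_20,
   Cert.rel true [(Gen.h, true), (Gen.c, true), (Gen.h, true)] RW_19,
   Cert.rel true [(Gen.c, true)] RW_49,
   Cert.rel true [(Gen.e, true), (Gen.c, true), (Gen.e, true)] RW_10,
   Cert.rel true [(Gen.b, true), (Gen.c, true), (Gen.b, true), (Gen.c, true), (Gen.b, true)] RW_3,
   Cert.rel true [(Gen.f, true), (Gen.c, true), (Gen.f, true)] RW_18,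
   Cert.rel true [(Gen.d, true), (Gen.c, true), (Gen.d, true), (Gen.c, true), (Gen.d, true)] RW_6,
   Cert.rel true [(Gen.b, true), (Gen.d, true), (Gen.e, true), (Gen.f, true), (Gen.d, true), (Gen.h, true), (Gen.i, true), (Gen.d, true), (Gen.c, true), (Gen.b, true), (Gen.d, true), (Gen.e, true), (Gen.f, true), (Gen.d, true), (Gen.h, true), (Gen.i, true), (Gen.d, true), (Gen.c, true), (Gen.b, true), (Gen.d, true), (Gen.e, true), (Gen.f, true), (Gen.d, true), (Gen.h, true), (Gen.i, true), (Gen.d, true), (Gen.c, true), (Gen.b, true), (Gen.d, true), (Gen.e, true), (Gen.f, true), (Gen.d, true), (Gen.h, true), (Gen.i, true), (Gen.d, true), (Gen.c, true), (Gen.b, true), (Gen.d, true), (Gen.e, true), (Gen.f, true), (Gen.d, true), (Gen.h, true), (Gen.i, true), (Gen.d, true), (Gen.c, true), (Gen.b, true), (Gen.d, true), (Gen.e, true), (Gen.f, true), (Gen.d, true), (Gen.h, true), (Gen.i, true), (Gen.d, true), (Gen.c, true), (Gen.b, true), (Gen.d, true), (Gen.e, true), (Gen.f, true), (Gen.d, true), (Gen.h, true), (Gen.i,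 true), (Gen.d, true), (Gen.c, true), (Gen.b, true), (Gen.d, true), (Gen.e, true), (Gen.f, true), (Gen.d, true), (Gen.h, true), (Gen.i, true), (Gen.d, true), (Gen.c, true), (Gen.b, true), (Gen.d, true), (Gen.e, true), (Gen.f, true), (Gen.d, true), (Gen.h, true), (Gen.i, true), (Gen.d, true), (Gen.c, true), (Gen.b, true), (Gen.d, true), (Gen.e, true), (Gen.f, true), (Gen.d, true), (Gen.h, true), (Gen.i, true), (Gen.d, true)] RW_50]
def ct_c : Nat := 37442185535007536954830552617746178044789188998066083757660386443858994957022057903781457065760218511627294122990147578292376570911220432995854345584488020750844588585984276111109201360687755577633722843918642102167623967336072084145400668511544120330219909407411395668213211159219281549492722811634993856129418640534586809983796275095389077759153646485565959414416895034231465608959086609940686910283962007344773537107108510954957924557433635254324388244636306436310700376733063455042463381907053757179313433679789901899459146686934812374992956923805129202807479736226723649995080193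
def certL_d : List (Cert D.rels D.S Gen.d) :=
  [Cert.tree,
   Cert.sub true [] [] (D.sub_mem Gen.d (by decide)),
   Cert.rel true [(Gen.i, true), (Gen.d, true), (Gen.i, true)] RW_35,
   Cert.rel true [(Gen.d, true)] RW_51,
   Cert.rel true [(Gen.c, true), (Gen.d, true), (Gen.c, true), (Gen.d, true), (Gen.c, true)] RW_21,
   Cert.rel true [(Gen.e, true), (Gen.d, true), (Gen.e, true), (Gen.d, true), (Gen.e, true)] RW_11,
   Cert.rel true [(Gen.b, true), (Gen.d, true), (Gen.b, true)] RW_22,
   Cert.rel true [(Gen.f, true), (Gen.d, true), (Gen.f, true)] RW_34,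
   Cert.rel true [(Gen.h, true), (Gen.d, true), (Gen.h, true), (Gen.d, true), (Gen.h, true)] RW_28,
   Cert.rel true [(Gen.i, true), (Gen.h, true), (Gen.d, true), (Gen.f, true), (Gen.e, true), (Gen.d, true), (Gen.b, true), (Gen.c, true), (Gen.d, true), (Gen.i, true), (Gen.h, true), (Gen.d, true), (Gen.f, true), (Gen.e, true), (Gen.d, true), (Gen.b, true), (Gen.c, true), (Gen.d, true), (Gen.i, true), (Gen.h, true), (Gen.d, true), (Gen.f, true), (Gen.e, true), (Gen.d, true), (Gen.b, true), (Gen.c, true), (Gen.d, true), (Gen.i, true), (Gen.h, true), (Gen.d, true), (Gen.f, true), (Gen.e, true), (Gen.d, true), (Gen.b, true), (Gen.c, true), (Gen.d, true), (Gen.i, true), (Gen.h, true), (Gen.d, true), (Gen.f, true), (Gen.e, true), (Gen.d, true), (Gen.b, true), (Gen.c, true), (Gen.d, true), (Gen.i, true), (Gen.h, true), (Gen.d, true), (Gen.f, true), (Gen.e, true), (Gen.d, true), (Gen.b, true), (Gen.c, true), (Gen.d, true), (Gen.i, true), (Gen.h, true), (Gen.d, true), (Gen.f, true), (Gen.e, true), (Gen.d, true), (Gen.b,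 true), (Gen.c, true), (Gen.d, true), (Gen.i, true), (Gen.h, true), (Gen.d, true), (Gen.f, true), (Gen.e, true), (Gen.d, true), (Gen.b, true), (Gen.c, true), (Gen.d, true), (Gen.i, true), (Gen.h, true), (Gen.d, true), (Gen.f, true), (Gen.e, true), (Gen.d, true), (Gen.b, true), (Gen.c, true), (Gen.d, true), (Gen.i, true), (Gen.h, true), (Gen.d, true), (Gen.f, true), (Gen.e, true), (Gen.d, true), (Gen.b, true), (Gen.c, true)] RW_46]
def ct_d : Nat := 18769625622448256480742562414189927907000041385391905238014274023241155528381982142677467117249611787912313844778207713705850600182612541378777754420394221325373708919621359309986001546994689434163129019271451666802538350898410839943038311613189239386718101464953499993520187990489102208009886471713384167215633091436921842290263781163699555749397160684020166787931605765005761073650859261428842944880775329810671931243143097142361892596627164757106053882594643042546649736041332315341128867152577990677527706441355521333480570599627813439352135207418444589057927526560503863466525185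
def certL_e : List (Cert D.rels D.S Gen.e) :=
  [Cert.tree,
   Cert.sub true [] [] (D.sub_mem Gen.e (by decide)),
   Cert.rel true [(Gen.i, true), (Gen.e, true), (Gen.i, true)] RW_25,
   Cert.rel true [(Gen.h, true), (Gen.e, true), (Gen.h, true)] RW_26,
   Cert.rel true [(Gen.e, true)] RW_52,
   Cert.rel true [(Gen.f, true), (Gen.e, true), (Gen.f, true), (Gen.e, true), (Gen.f, true)] RW_15,
   Cert.rel true [(Gen.d, true), (Gen.e, true), (Gen.d, true), (Gen.e, true), (Gen.d, true)] RW_29,
   Cert.rel true [(Gen.c, true), (Gen.e, true), (Gen.c, true)] RW_24,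
   Cert.rel true [(Gen.b, true), (Gen.e, true), (Gen.b, true)] RW_38,
   Cert.rel true [(Gen.d, true), (Gen.b, true), (Gen.c, true), (Gen.d, true), (Gen.i, true), (Gen.h, true), (Gen.d, true), (Gen.f, true), (Gen.e, true), (Gen.d, true), (Gen.b, true), (Gen.c, true), (Gen.d, true), (Gen.i, true), (Gen.h, true), (Gen.d, true), (Gen.f, true), (Gen.e, true), (Gen.d, true), (Gen.b, true), (Gen.c, true), (Gen.d, true), (Gen.i, true), (Gen.h, true), (Gen.d, true), (Gen.f, true), (Gen.e, true), (Gen.d, true), (Gen.b, true), (Gen.c, true), (Gen.d, true), (Gen.i, true), (Gen.h, true), (Gen.d, true), (Gen.f, true), (Gen.e, true), (Gen.d, true), (Gen.b, true), (Gen.c, true), (Gen.d, true), (Gen.i, true), (Gen.h, true), (Gen.d, true), (Gen.f, true), (Gen.e, true), (Gen.d, true), (Gen.b, true), (Gen.c, true), (Gen.d, true), (Gen.i, true), (Gen.h, true), (Gen.d, true), (Gen.f, true), (Gen.e, true), (Gen.d, true), (Gen.b, true), (Gen.c, true), (Gen.d, true), (Gen.i, true), (Gen.h, true), (Gen.d, true), (Gen.f, true), (Gen.e,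 true), (Gen.d, true), (Gen.b, true), (Gen.c, true), (Gen.d, true), (Gen.i, true), (Gen.h, true), (Gen.d, true), (Gen.f, true), (Gen.e, true), (Gen.d, true), (Gen.b, true), (Gen.c, true), (Gen.d, true), (Gen.i, true), (Gen.h, true), (Gen.d, true), (Gen.f, true), (Gen.e, true), (Gen.d, true), (Gen.b, true), (Gen.c, true), (Gen.d, true), (Gen.i, true), (Gen.h, true), (Gen.d, true), (Gen.f, true)] RW_53]
def ct_e : Nat := 49962991379120668748774873923574867884835914794314345908296508904456845295116040884971474505489009557580382943232510469489398417281083756988383612042745954008168362303941402015942470418526097774353165543420080199214333365824696568730619856874140559724446847072198626431340753408305590961725576601571721225854509614692244241525202495053999859531505512358562465801192433290450387200648435687712524676412147646318456774450426916703798746773312690073066548398501783654342303000259399070427532179292655758239917565589096311232378261411405291212603296379522859474503795520255062319325970945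
def certL_f : List (Cert D.rels D.S Gen.f) :=
  [Cert.tree,
   Cert.sub true [] [] (D.sub_mem Gen.f (by decide)),
   Cert.rel true [(Gen.i, true), (Gen.f, true), (Gen.i, true)] RW_36,
   Cert.rel true [(Gen.h, true), (Gen.f, true), (Gen.h, true)] RW_27,
   Cert.rel true [(Gen.d, true), (Gen.f, true), (Gen.d, true)] RW_17,
   Cert.rel true [(Gen.c, true), (Gen.f, true), (Gen.c, true)] RW_0,
   Cert.rel true [(Gen.b, true), (Gen.f, true), (Gen.b, true)] RW_39,
   Cert.rel true [(Gen.f, true)] RW_54,
   Cert.rel true [(Gen.e, true), (Gen.f, true), (Gen.e, true), (Gen.f, true), (Gen.e, true)] RW_41,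
   Cert.rel true [(Gen.d, true), (Gen.h, true), (Gen.i, true), (Gen.d, true), (Gen.c, true), (Gen.b, true), (Gen.d, true), (Gen.e, true), (Gen.f, true), (Gen.d, true), (Gen.h, true), (Gen.i, true), (Gen.d, true), (Gen.c, true), (Gen.b, true), (Gen.d, true), (Gen.e, true), (Gen.f, true), (Gen.d, true), (Gen.h, true), (Gen.i, true), (Gen.d, true), (Gen.c, true), (Gen.b, true), (Gen.d, true), (Gen.e, true), (Gen.f, true), (Gen.d, true), (Gen.h, true), (Gen.i, true), (Gen.d, true), (Gen.c, true), (Gen.b, true), (Gen.d, true), (Gen.e, true), (Gen.f, true), (Gen.d, true), (Gen.h, true), (Gen.i, true), (Gen.d, true), (Gen.c, true), (Gen.b, true), (Gen.d, true), (Gen.e, true), (Gen.f, true), (Gen.d, true), (Gen.h, true), (Gen.i, true), (Gen.d, true), (Gen.c, true), (Gen.b, true), (Gen.d, true), (Gen.e, true), (Gen.f, true), (Gen.d, true), (Gen.h, true), (Gen.i, true), (Gen.d, true), (Gen.c, true), (Gen.b, true), (Gen.d, true), (Gen.e, true), (Gen.f, true), (Gen.d, true), (Gen.h, true), (Gen.i, true), (Gen.d, true),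 (Gen.c, true), (Gen.b, true), (Gen.d, true), (Gen.e, true), (Gen.f, true), (Gen.d, true), (Gen.h, true), (Gen.i, true), (Gen.d, true), (Gen.c, true), (Gen.b, true), (Gen.d, true), (Gen.e, true), (Gen.f, true), (Gen.d, true), (Gen.h, true), (Gen.i, true), (Gen.d, true), (Gen.c, true), (Gen.b, true), (Gen.d, true), (Gen.e, true)] RW_16]
def ct_f : Nat := 25018249895198256123516666116909842332533676883412858158118690044574084141123360688306061605723655730041733120117191463969648603023752095726394026909749657763793600821681497166173040867330022176152611178043899048011181012821450812700005189472233750072076735960904148673135150700597357032690292252644224250485727395175301452646485482546109634469026489872534327007560738977100097430270082453619295017388669134728784042639481327379255408337385490859217192588912607097166674270586207975439738595108282184946095678972308916053945615520687207222608333348292515715116999460368763404408783361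
def certL_g : List (Cert D.rels D.S Gen.g) :=
  [Cert.tree,
   Cert.rel true [] relone_1]
def ct_g : Nat := 6248436927315523434565143077319295892891629683967722727761521919077626436030656026141046345880326965549086494848456433629704411557500060839003249975166559589321236427992337582282538512826243447748289505120262701688699968885683073995726327873947521157665233122880399092054505784394940680284983467602578223892304624979829836784906932509334571728749215034959971091314938859560579110134769552651229683080005599409823232120835277765933872195179265424198093765472699423292463484834195303344534171398291657059794398963574768989289404360219866376066528123713982833402729776328613812229964033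
def certL_h : List (Cert D.rels D.S Gen.h) :=
  [Cert.tree,
   Cert.sub true [] [] (D.sub_mem Gen.h (by decide)),
   Cert.rel true [(Gen.h, true)] RW_55,
   Cert.rel true [(Gen.d, true), (Gen.h, true), (Gen.d, true), (Gen.h, true), (Gen.d, true)] RW_37,
   Cert.rel true [(Gen.c, true), (Gen.h, true), (Gen.c, true)] RW_1,
   Cert.rel true [(Gen.e, true), (Gen.h, true), (Gen.e, true)] RW_8,
   Cert.rel true [(Gen.b, true), (Gen.h, true), (Gen.b, true)] RW_40,
   Cert.rel true [(Gen.f, true), (Gen.h, true), (Gen.f, true)] RW_13,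
   Cert.rel true [(Gen.i, true), (Gen.h, true), (Gen.i, true), (Gen.h, true), (Gen.i, true)] RW_32,
   Cert.rel true [(Gen.i, true), (Gen.d, true), (Gen.c, true), (Gen.b, true), (Gen.d, true), (Gen.e, true), (Gen.f, true), (Gen.d, true), (Gen.h, true), (Gen.i, true), (Gen.d, true), (Gen.c, true), (Gen.b, true), (Gen.d, true), (Gen.e, true), (Gen.f, true), (Gen.d, true), (Gen.h, true), (Gen.i, true), (Gen.d, true), (Gen.c, true), (Gen.b, true), (Gen.d, true), (Gen.e, true), (Gen.f, true), (Gen.d, true), (Gen.h, true), (Gen.i, true), (Gen.d, true), (Gen.c, true), (Gen.b, true), (Gen.d, true), (Gen.e, true), (Gen.f, true), (Gen.d, true), (Gen.h, true), (Gen.i, true), (Gen.d, true), (Gen.c, true), (Gen.b, true), (Gen.d, true), (Gen.e, true), (Gen.f, true), (Gen.d, true), (Gen.h, true), (Gen.i, true), (Gen.d, true), (Gen.c, true), (Gen.b, true), (Gen.d, true), (Gen.e, true), (Gen.f, true), (Gen.d, true), (Gen.h, true), (Gen.i, true), (Gen.d, true), (Gen.c, true), (Gen.b, true), (Gen.d, true), (Gen.e, true), (Gen.f,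 true), (Gen.d, true), (Gen.h, true), (Gen.i, true), (Gen.d, true), (Gen.c, true), (Gen.b, true), (Gen.d, true), (Gen.e, true), (Gen.f, true), (Gen.d, true), (Gen.h, true), (Gen.i, true), (Gen.d, true), (Gen.c, true), (Gen.b, true), (Gen.d, true), (Gen.e, true), (Gen.f, true), (Gen.d, true), (Gen.h, true), (Gen.i, true), (Gen.d, true), (Gen.c, true), (Gen.b, true), (Gen.d, true), (Gen.e, true), (Gen.f, true), (Gen.d, true)] RW_56]
def ct_h : Nat := 37441711050245686709821788975857443048614131222771778020306111743734063173320189347799124587646254219914344531086421836688324139126489239485090605766292091240119573282619474286396256970284302669295807726238478924706626925463371733574515074328053227375695215732832565019539636704595987115251474405771878961118904428412324933788933650852538943226980112542561456932041638361633628084748171048717018736234575951978634890074630766369803749526222976363695995338860425568127547119549489269561992667922091467024387654871216165998798564757193734549169521807022842739957954563061343008596295681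
def certL_i : List (Cert D.rels D.S Gen.i) :=
  [Cert.tree,
   Cert.rel true [(Gen.i, true)] RW_57,
   Cert.rel true [(Gen.h, true), (Gen.i, true), (Gen.h, true), (Gen.i, true), (Gen.h, true)] RW_43,
   Cert.rel true [(Gen.d, true), (Gen.i, true), (Gen.d, true)] RW_5,
   Cert.rel true [(Gen.c, true), (Gen.i, true), (Gen.c, true)] RW_2,
   Cert.rel true [(Gen.e, true), (Gen.i, true), (Gen.e, true)] RW_9,
   Cert.rel true [(Gen.b, true), (Gen.i, true), (Gen.b, true)] RW_44,
   Cert.rel true [(Gen.f, true), (Gen.i, true), (Gen.f, true)] RW_14]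
def ct_i : Nat := 37441711050245686708474762621189488512040310952234370872822004449214637513115041668409416458316988392119190728625663735331247908926181527162620433384444502294965488787746489658319021087258275570407079450821894372897894322301081412737920357199899025009334671958349982433327354997633668600640802620397091083906714668781011039984729036235498162533745910246744144617248856414532306428129561603054643929259049908901165124956803661006114172284531346501483455549212099971214340845401661868575197073986685376815014272599075021380022565433155830000032289128605011285126830297623176908632097024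
def cert : (x : Gen) → Fin D.n → Cert D.rels D.S x
  | .a, p => pick certL_a (look8 ct_a p.val) Cert.tree
  | .b, p => pick certL_b (look8 ct_b p.val) Cert.tree
  | .c, p => pick certL_c (look8 ct_c p.val) Cert.tree
  | .d, p => pick certL_d (look8 ct_d p.val) Cert.tree
  | .e, p => pick certL_e (look8 ct_e p.val) Cert.tree
  | .f, p => pick certL_f (look8 ct_f p.val) Cert.tree
  | .g, p => pick certL_g (look8 ct_g p.val) Cert.tree
  | .h, p => pick certL_h (look8 ct_h p.val) Cert.tree
  | .i, p => pick certL_i (look8 ct_i p.val) Cert.tree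

end

end Cfsg.Agent.Helper27.Fi22TC.A2
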