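import Cfsg.Agent.Lib.Helper27.Fi22.A2.Certs

set_option autoImplicit false
set_option maxRecDepth 100000
set_option linter.all false

namespace Cfsg.Agent.Helper27.Fi22TC.A2

open Cfsg.Agent.Helper28 Cfsg.Agent.Helper27.Fi22TC
open Cfsg.Spor.Fi22 (Gen)

noncomputable section

abbrev Q : Type := PresentedGroup D.rels ⧸ subH D.rels D.S
abbrev ed (y : Gen) (c : Q) : Q := lG D.rels (y, true) • c
def V_243 : Q := ed Gen.c (D.P 111)
def V_244 : Q := ed Gen.b V_243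
def V_245 : Q := ed Gen.d V_243
def V_246 : Q := ed Gen.e V_243
def V_247 : Q := ed Gen.e (D.P 111)
def V_248 : Q := ed Gen.e V_245
def V_249 : Q := ed Gen.d V_248
def V_250 : Q := ed Gen.e V_249
def V_251 : Q := ed Gen.f V_246
def V_252 : Q := ed Gen.e (D.P 234)
def V_253 : Q := ed Gen.d V_252
def V_254 : Q := ed Gen.c V_253
def V_255 : Q := ed Gen.d V_254
def V_256 : Q := ed Gen.h V_255
def V_257 : Q := ed Gen.d V_256
def V_258 : Q := ed Gen.f V_257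
def V_259 : Q := ed Gen.e V_258
def V_260 : Q := ed Gen.d V_259
def V_261 : Q := ed Gen.b V_260
def V_262 : Q := ed Gen.c V_261
def V_263 : Q := ed Gen.d V_262
def V_264 : Q := ed Gen.i V_263
def V_265 : Q := ed Gen.h V_264
def V_266 : Q := ed Gen.d V_265
def V_267 : Q := ed Gen.f V_266
def V_268 : Q := ed Gen.e V_267
def V_269 : Q := ed Gen.d V_268
def V_270 : Q := ed Gen.b V_269
def V_271 : Q := ed Gen.c V_270
def V_272 : Q := ed Gen.d V_271
def V_273 : Q := ed Gen.i V_272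
def V_274 : Q := ed Gen.h V_273
def V_275 : Q := ed Gen.d V_274
def V_276 : Q := ed Gen.f V_275
def V_277 : Q := ed Gen.e V_276
def V_278 : Q := ed Gen.d V_277
def V_279 : Q := ed Gen.b V_278
def V_280 : Q := ed Gen.c V_279
def V_281 : Q := ed Gen.d V_280
def V_282 : Q := ed Gen.i V_281
def V_283 : Q := ed Gen.h V_282
def V_284 : Q := ed Gen.d V_283
def V_285 : Q := ed Gen.b (D.P 208)
def V_286 : Q := ed Gen.e V_285
def V_287 : Q := ed Gen.f V_286
def V_288 : Q := ed Gen.d V_287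
def V_289 : Q := ed Gen.h V_288
def V_290 : Q := ed Gen.i V_289
def V_291 : Q := ed Gen.d V_290
def V_292 : Q := ed Gen.c V_291
def V_293 : Q := ed Gen.b V_292
def V_294 : Q := ed Gen.d V_293
def V_295 : Q := ed Gen.e V_294
def V_296 : Q := ed Gen.f V_295
def V_297 : Q := ed Gen.d V_296
def V_298 : Q := ed Gen.h V_297
def V_299 : Q := ed Gen.i V_298
def V_300 : Q := ed Gen.d V_299
def V_301 : Q := ed Gen.c V_300
def V_302 : Q := ed Gen.b V_301
def V_303 : Q := ed Gen.d V_302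
def V_304 : Q := ed Gen.e V_303
def V_305 : Q := ed Gen.f V_304
def V_306 : Q := ed Gen.d V_305
def V_307 : Q := ed Gen.h V_306
def V_308 : Q := ed Gen.i V_307
def V_309 : Q := ed Gen.d V_308
def V_310 : Q := ed Gen.c V_309
def V_311 : Q := ed Gen.b V_310
def V_312 : Q := ed Gen.d V_311
def V_313 : Q := ed Gen.e V_312
def V_314 : Q := ed Gen.f V_313
def V_315 : Q := ed Gen.d V_314
def V_316 : Q := ed Gen.h V_315
def V_317 : Q := ed Gen.i V_316
def V_318 : Q := ed Gen.d V_317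
def V_319 : Q := ed Gen.c V_318
def V_320 : Q := ed Gen.b V_319
def V_321 : Q := ed Gen.d V_320
def V_322 : Q := ed Gen.e V_321
def V_323 : Q := ed Gen.f V_322
def V_324 : Q := ed Gen.d V_323
def V_325 : Q := ed Gen.h V_324
def V_326 : Q := ed Gen.i V_325
def V_327 : Q := ed Gen.d V_326
def V_328 : Q := ed Gen.c V_327
def V_329 : Q := ed Gen.b V_328
def V_330 : Q := ed Gen.d V_329
def V_331 : Q := ed Gen.c (D.P 237)
def V_332 : Q := ed Gen.d V_331
def V_333 : Q := ed Gen.h V_332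
def V_334 : Q := ed Gen.e V_333
def V_335 : Q := ed Gen.d V_334
def V_336 : Q := ed Gen.b V_335
def V_337 : Q := ed Gen.c V_336
def V_338 : Q := ed Gen.d V_337
def V_339 : Q := ed Gen.i V_338
def V_340 : Q := ed Gen.h V_339
def V_341 : Q := ed Gen.d V_340
def V_342 : Q := ed Gen.f V_341
def V_343 : Q := ed Gen.e V_342
def V_344 : Q := ed Gen.d V_343
def V_345 : Q := ed Gen.b V_344
def V_346 : Q := ed Gen.c V_345
def V_347 : Q := ed Gen.d V_346
def V_348 : Q := ed Gen.i V_347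
def V_349 : Q := ed Gen.h V_348
def V_350 : Q := ed Gen.d V_349
def V_351 : Q := ed Gen.f V_350
def V_352 : Q := ed Gen.e V_351
def V_353 : Q := ed Gen.d V_352
def V_354 : Q := ed Gen.b V_353
def V_355 : Q := ed Gen.c V_354
def V_356 : Q := ed Gen.d V_355
def V_357 : Q := ed Gen.i V_356
def V_358 : Q := ed Gen.h V_357
def V_359 : Q := ed Gen.d V_358
def V_360 : Q := ed Gen.f V_359
def V_361 : Q := ed Gen.e V_360
def V_362 : Q := ed Gen.d V_361
def V_363 : Q := ed Gen.b V_362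
def V_364 : Q := ed Gen.c V_363
def V_365 : Q := ed Gen.d V_364
def V_366 : Q := ed Gen.i V_365
def V_367 : Q := ed Gen.h V_366
def V_368 : Q := ed Gen.d V_367
def V_369 : Q := ed Gen.f V_368
def V_370 : Q := ed Gen.e V_369
def V_371 : Q := ed Gen.d V_370
def V_372 : Q := ed Gen.b V_371
def V_373 : Q := ed Gen.c V_372
def V_374 : Q := ed Gen.d V_373
def V_375 : Q := ed Gen.i V_374
def V_376 : Q := ed Gen.h V_375
def V_377 : Q := ed Gen.f (D.P 217)
def V_378 : Q := ed Gen.i V_377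
def V_428 : Q := ed Gen.f (D.P 239)
def V_429 : Q := ed Gen.d V_428
def V_430 : Q := ed Gen.c V_428
def V_431 : Q := ed Gen.b V_430
def V_432 : Q := ed Gen.d V_431
def V_433 : Q := ed Gen.e V_432
def V_434 : Q := ed Gen.f V_433
def V_435 : Q := ed Gen.d V_434
def V_436 : Q := ed Gen.h V_435
def V_437 : Q := ed Gen.i V_436
def V_438 : Q := ed Gen.d V_437
def V_439 : Q := ed Gen.c V_438
def V_440 : Q := ed Gen.b V_439
def V_441 : Q := ed Gen.d V_440
def V_442 : Q := ed Gen.e V_441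
def V_443 : Q := ed Gen.f V_442
def V_444 : Q := ed Gen.d V_443
def V_445 : Q := ed Gen.h V_444
def V_446 : Q := ed Gen.i V_445
def V_447 : Q := ed Gen.d V_446
def V_448 : Q := ed Gen.c V_447
def V_449 : Q := ed Gen.b V_448
def V_450 : Q := ed Gen.d V_449
def V_451 : Q := ed Gen.e V_450
def V_452 : Q := ed Gen.f V_451
def V_453 : Q := ed Gen.d V_452
def V_454 : Q := ed Gen.h V_453
def V_455 : Q := ed Gen.i V_454
def V_456 : Q := ed Gen.d V_455
def V_457 : Q := ed Gen.c V_456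
def V_458 : Q := ed Gen.b V_457
def V_459 : Q := ed Gen.d V_458
def V_460 : Q := ed Gen.e V_459
def V_461 : Q := ed Gen.f V_460
def V_462 : Q := ed Gen.d V_461
def V_463 : Q := ed Gen.h V_462
def V_464 : Q := ed Gen.i V_463
def V_465 : Q := ed Gen.d V_464
def V_466 : Q := ed Gen.c V_465
def V_467 : Q := ed Gen.b V_466
def V_468 : Q := ed Gen.d V_467
def V_469 : Q := ed Gen.e V_468
def V_470 : Q := ed Gen.f V_469
def V_471 : Q := ed Gen.d V_470
def V_472 : Q := ed Gen.h V_471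
def V_473 : Q := ed Gen.i V_472
def V_474 : Q := ed Gen.d V_473
def V_475 : Q := ed Gen.c V_474
def V_476 : Q := ed Gen.b V_475
def V_477 : Q := ed Gen.d V_476
def V_478 : Q := ed Gen.e V_477
def V_479 : Q := ed Gen.f V_478
def V_480 : Q := ed Gen.d V_479
def V_481 : Q := ed Gen.h V_480
def V_482 : Q := ed Gen.i V_481
def V_483 : Q := ed Gen.d V_482
def V_484 : Q := ed Gen.c V_483
def V_485 : Q := ed Gen.b V_484
def V_486 : Q := ed Gen.d V_485
def V_488 : Q := ed Gen.f V_247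
def V_489 : Q := ed Gen.h V_250
def V_490 : Q := ed Gen.b V_488
def V_491 : Q := ed Gen.f (D.P 193)
def V_543 : Q := ed Gen.b (D.P 131)
def V_544 : Q := ed Gen.e V_543
def V_545 : Q := ed Gen.d V_544
def V_546 : Q := ed Gen.h V_545
def V_547 : Q := ed Gen.i V_546
def V_548 : Q := ed Gen.c V_547
def V_549 : Q := ed Gen.b V_548
def V_550 : Q := ed Gen.d V_549
def V_551 : Q := ed Gen.e V_550
def V_552 : Q := ed Gen.f V_551
def V_553 : Q := ed Gen.h V_552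
def V_554 : Q := ed Gen.i V_553
def V_555 : Q := ed Gen.d V_554
def V_556 : Q := ed Gen.c V_555
def V_557 : Q := ed Gen.b V_556
def V_558 : Q := ed Gen.d V_557
def V_559 : Q := ed Gen.e V_558
def V_560 : Q := ed Gen.f V_559
def V_561 : Q := ed Gen.d V_560
def V_562 : Q := ed Gen.h V_561
def V_563 : Q := ed Gen.i V_562
def V_564 : Q := ed Gen.d V_563
def V_565 : Q := ed Gen.c V_564
def V_566 : Q := ed Gen.b V_565
def V_567 : Q := ed Gen.d V_566
def V_568 : Q := ed Gen.e V_567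
def V_569 : Q := ed Gen.f V_568
def V_570 : Q := ed Gen.d V_569
def V_571 : Q := ed Gen.h V_570
def V_572 : Q := ed Gen.i V_571
def V_573 : Q := ed Gen.d V_572
def V_574 : Q := ed Gen.i V_489
def V_575 : Q := ed Gen.e V_574
def V_576 : Q := ed Gen.f V_575
def V_638 : Q := ed Gen.e V_489
def V_639 : Q := ed Gen.d V_638
def V_640 : Q := ed Gen.c V_639
def V_641 : Q := ed Gen.i V_640
def V_642 : Q := ed Gen.h V_641
def V_643 : Q := ed Gen.d V_642
def V_644 : Q := ed Gen.f V_643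
def V_645 : Q := ed Gen.e V_644
def V_646 : Q := ed Gen.d V_645
def V_647 : Q := ed Gen.b V_646
def V_648 : Q := ed Gen.c V_647
def V_649 : Q := ed Gen.d V_648
def V_650 : Q := ed Gen.i V_649
def V_651 : Q := ed Gen.h V_650
def V_652 : Q := ed Gen.d V_651
def V_653 : Q := ed Gen.f V_652
def V_654 : Q := ed Gen.e V_653
def V_655 : Q := ed Gen.d V_654
def V_656 : Q := ed Gen.b V_655
def V_657 : Q := ed Gen.c V_656
def V_658 : Q := ed Gen.d V_657
def V_659 : Q := ed Gen.i V_658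
def V_660 : Q := ed Gen.h V_659
def V_661 : Q := ed Gen.d V_660
def V_662 : Q := ed Gen.f V_661
def V_663 : Q := ed Gen.e V_662
def V_664 : Q := ed Gen.d V_663
def V_665 : Q := ed Gen.b V_664
def V_666 : Q := ed Gen.c V_665
def V_667 : Q := ed Gen.d V_666
def V_668 : Q := ed Gen.i V_667
def V_669 : Q := ed Gen.h V_668
def V_670 : Q := ed Gen.d V_669
def V_671 : Q := ed Gen.f V_670
def V_672 : Q := ed Gen.e V_671
def V_673 : Q := ed Gen.d V_672
def V_674 : Q := ed Gen.b V_673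
def V_675 : Q := ed Gen.c V_674
def V_676 : Q := ed Gen.d V_675
def V_677 : Q := ed Gen.i V_676
def V_678 : Q := ed Gen.h V_677
def V_679 : Q := ed Gen.d V_678
def V_680 : Q := ed Gen.f V_679
def V_681 : Q := ed Gen.e V_680
def V_682 : Q := ed Gen.d V_681
def V_683 : Q := ed Gen.h (D.P 232)
def V_684 : Q := ed Gen.d V_683
def V_685 : Q := ed Gen.e V_684
def V_686 : Q := ed Gen.c V_685
def V_687 : Q := ed Gen.d V_686
def V_688 : Q := ed Gen.i V_687
def V_689 : Q := ed Gen.h V_688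
def V_690 : Q := ed Gen.d V_689
def V_691 : Q := ed Gen.f V_690
def V_692 : Q := ed Gen.e V_691
def V_693 : Q := ed Gen.d V_692
def V_694 : Q := ed Gen.b V_693
def V_695 : Q := ed Gen.c V_694
def V_696 : Q := ed Gen.d V_695
def V_697 : Q := ed Gen.i V_696
def V_698 : Q := ed Gen.h V_697
def V_699 : Q := ed Gen.d V_698
def V_700 : Q := ed Gen.f V_699
def V_701 : Q := ed Gen.e V_700
def V_702 : Q := ed Gen.d V_701
def V_703 : Q := ed Gen.b V_702
def V_704 : Q := ed Gen.c V_703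
def V_705 : Q := ed Gen.d V_704
def V_706 : Q := ed Gen.i V_705
def V_707 : Q := ed Gen.h V_706
def V_708 : Q := ed Gen.d V_707
def V_709 : Q := ed Gen.f V_708
def V_710 : Q := ed Gen.e V_709
def V_711 : Q := ed Gen.d V_710
def V_712 : Q := ed Gen.b V_711
def V_713 : Q := ed Gen.c V_712
def V_714 : Q := ed Gen.d V_713
def V_715 : Q := ed Gen.i V_714
def V_716 : Q := ed Gen.h V_715
def V_717 : Q := ed Gen.d V_716
def V_719 : Q := ed Gen.i V_330
def V_757 : Q := ed Gen.i V_479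
def V_758 : Q := ed Gen.h V_757
def V_759 : Q := ed Gen.e V_364
def V_760 : Q := ed Gen.d V_759
def V_761 : Q := ed Gen.c V_760
def V_762 : Q := ed Gen.d V_761
def V_763 : Q := ed Gen.h V_762
def V_764 : Q := ed Gen.d V_763
def V_765 : Q := ed Gen.e V_764
def V_766 : Q := ed Gen.d V_765
def V_767 : Q := ed Gen.b V_766
def V_768 : Q := ed Gen.c V_767
def V_769 : Q := ed Gen.d V_768
def V_770 : Q := ed Gen.i V_769
def V_771 : Q := ed Gen.h V_770
def V_772 : Q := ed Gen.d V_771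
def V_773 : Q := ed Gen.f V_772
def V_774 : Q := ed Gen.e V_773
def V_775 : Q := ed Gen.d V_774
def V_776 : Q := ed Gen.b V_775
def V_777 : Q := ed Gen.c V_776
def V_778 : Q := ed Gen.d V_777
def V_779 : Q := ed Gen.i V_778
def V_780 : Q := ed Gen.h V_779
def V_781 : Q := ed Gen.d V_780
def V_782 : Q := ed Gen.f V_781
def V_783 : Q := ed Gen.e V_782
def V_784 : Q := ed Gen.d V_783
def V_785 : Q := ed Gen.b V_784
def V_786 : Q := ed Gen.c V_785
def V_787 : Q := ed Gen.d V_786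
def V_788 : Q := ed Gen.i V_787
def V_789 : Q := ed Gen.h V_788
def V_790 : Q := ed Gen.d V_789
def V_791 : Q := ed Gen.f V_790
def V_792 : Q := ed Gen.e V_791
def V_793 : Q := ed Gen.d V_792
def V_794 : Q := ed Gen.b V_793
def V_795 : Q := ed Gen.c V_794
def V_796 : Q := ed Gen.d V_795
def V_797 : Q := ed Gen.i V_796
def V_798 : Q := ed Gen.h V_797
def V_799 : Q := ed Gen.d V_798
def V_800 : Q := ed Gen.f V_799
def V_801 : Q := ed Gen.e V_800
def V_802 : Q := ed Gen.d V_801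
def V_803 : Q := ed Gen.b V_802
def V_804 : Q := ed Gen.c V_803
def V_805 : Q := ed Gen.d V_804
def V_806 : Q := ed Gen.i V_805
def V_807 : Q := ed Gen.h V_806
def V_808 : Q := ed Gen.d V_807
def V_809 : Q := ed Gen.f V_808
def V_810 : Q := ed Gen.e V_809
def V_811 : Q := ed Gen.d V_810
def V_812 : Q := ed Gen.b V_811
def V_813 : Q := ed Gen.c V_812
def V_814 : Q := ed Gen.d V_813
def V_815 : Q := ed Gen.i V_814
def V_816 : Q := ed Gen.h V_815
def V_817 : Q := ed Gen.d V_816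
def V_818 : Q := ed Gen.f V_817
def V_819 : Q := ed Gen.e V_818
def V_820 : Q := ed Gen.d V_819
def V_821 : Q := ed Gen.b V_820
def V_822 : Q := ed Gen.c V_821
def V_823 : Q := ed Gen.d V_575
def V_824 : Q := ed Gen.b V_641
def V_825 : Q := ed Gen.h V_277
def V_826 : Q := ed Gen.i V_825
def V_827 : Q := ed Gen.d V_826
def V_828 : Q := ed Gen.c V_827
def V_829 : Q := ed Gen.b V_828
def V_830 : Q := ed Gen.e V_829
def V_831 : Q := ed Gen.f V_830
def V_832 : Q := ed Gen.d V_831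
def V_833 : Q := ed Gen.h V_832
def V_834 : Q := ed Gen.i V_833
def V_835 : Q := ed Gen.d V_834
def V_836 : Q := ed Gen.c V_835
def V_885 : Q := ed Gen.f V_252
def V_886 : Q := ed Gen.c V_252
def V_888 : Q := ed Gen.f V_253
def V_889 : Q := ed Gen.b V_886
def V_890 : Q := ed Gen.d V_886
def V_891 : Q := ed Gen.e V_253
def V_940 : Q := ed Gen.d V_889
def V_941 : Q := ed Gen.e V_940
def V_942 : Q := ed Gen.f V_941
def V_943 : Q := ed Gen.d V_942
def V_944 : Q := ed Gen.h V_943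
def V_945 : Q := ed Gen.i V_944
def V_946 : Q := ed Gen.d V_945
def V_947 : Q := ed Gen.c V_946
def V_948 : Q := ed Gen.b V_947
def V_949 : Q := ed Gen.d V_948
def V_950 : Q := ed Gen.e V_949
def V_951 : Q := ed Gen.f V_950
def V_952 : Q := ed Gen.d V_951
def V_953 : Q := ed Gen.h V_952
def V_954 : Q := ed Gen.i V_953
def V_955 : Q := ed Gen.d V_954
def V_956 : Q := ed Gen.c V_955
def V_957 : Q := ed Gen.b V_956
def V_958 : Q := ed Gen.d V_957
def V_959 : Q := ed Gen.e V_958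
def V_960 : Q := ed Gen.f V_959
def V_961 : Q := ed Gen.d V_960
def V_962 : Q := ed Gen.h V_961
def V_963 : Q := ed Gen.i V_962
def V_964 : Q := ed Gen.d V_963
def V_965 : Q := ed Gen.c V_964
def V_966 : Q := ed Gen.b V_965
def V_967 : Q := ed Gen.d V_966
def V_968 : Q := ed Gen.e V_967
def V_969 : Q := ed Gen.f V_968
def V_970 : Q := ed Gen.d V_969
def V_971 : Q := ed Gen.h V_970
def V_972 : Q := ed Gen.i V_971
def V_973 : Q := ed Gen.d V_972
def V_974 : Q := ed Gen.c V_973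
def V_975 : Q := ed Gen.b V_974
def V_976 : Q := ed Gen.d V_975
def V_977 : Q := ed Gen.e V_976
def V_978 : Q := ed Gen.f V_977
def V_979 : Q := ed Gen.d V_978
def V_980 : Q := ed Gen.h V_979
def V_981 : Q := ed Gen.i V_980
def V_982 : Q := ed Gen.d V_981
def V_983 : Q := ed Gen.c V_982
def V_984 : Q := ed Gen.b V_983
def V_985 : Q := ed Gen.d V_984
def V_986 : Q := ed Gen.e V_985
def V_987 : Q := ed Gen.f V_986
def V_988 : Q := ed Gen.d V_987
def V_989 : Q := ed Gen.h V_988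
def V_990 : Q := ed Gen.i V_989
def V_991 : Q := ed Gen.d V_990
def V_992 : Q := ed Gen.c V_991
def V_993 : Q := ed Gen.b V_992
def V_994 : Q := ed Gen.d V_993
def V_995 : Q := ed Gen.e V_994
def V_996 : Q := ed Gen.f V_995
def V_997 : Q := ed Gen.d V_996
def V_998 : Q := ed Gen.h V_997
def V_999 : Q := ed Gen.i V_998
def V_1000 : Q := ed Gen.d V_999
def V_1001 : Q := ed Gen.c V_1000
def V_1002 : Q := ed Gen.b V_1001
def V_1003 : Q := ed Gen.d V_1002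
def V_1004 : Q := ed Gen.e V_1003
def V_1005 : Q := ed Gen.f V_1004
def V_1006 : Q := ed Gen.d V_1005
def V_1007 : Q := ed Gen.h V_1006
def V_1008 : Q := ed Gen.i V_1007
def V_1009 : Q := ed Gen.d V_1008
def V_1010 : Q := ed Gen.c V_1009
def V_1011 : Q := ed Gen.b V_1010
def V_1012 : Q := ed Gen.d V_1011
def V_1013 : Q := ed Gen.e V_1012
def V_1014 : Q := ed Gen.f V_1013
def V_1015 : Q := ed Gen.d V_1014
def V_1016 : Q := ed Gen.h V_1015
def V_1017 : Q := ed Gen.i V_1016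
def V_1018 : Q := ed Gen.d V_1017
def V_1019 : Q := ed Gen.c V_1018
def V_1020 : Q := ed Gen.b V_1019
def V_1021 : Q := ed Gen.d V_1020
def V_1022 : Q := ed Gen.e V_1021
def V_1023 : Q := ed Gen.b V_254
def V_1024 : Q := ed Gen.d V_1023
def V_1025 : Q := ed Gen.e V_1024
def V_1026 : Q := ed Gen.f V_1025
def V_1027 : Q := ed Gen.d V_1026
def V_1102 : Q := ed Gen.i V_685
def V_1103 : Q := ed Gen.c V_1102
def V_1104 : Q := ed Gen.b V_1103
def V_1105 : Q := ed Gen.d V_1104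
def V_1106 : Q := ed Gen.f V_1105
def V_1107 : Q := ed Gen.d V_1106
def V_1108 : Q := ed Gen.i V_1107
def V_1109 : Q := ed Gen.d V_1108
def V_1110 : Q := ed Gen.c V_1109
def V_1218 : Q := ed Gen.f V_254
def V_1219 : Q := ed Gen.c (D.P 211)
def V_1220 : Q := ed Gen.d V_491
def V_1221 : Q := ed Gen.i V_285
def V_1222 : Q := ed Gen.f V_1221
def V_1223 : Q := ed Gen.e V_1222
def V_1224 : Q := ed Gen.d V_1223
def V_1225 : Q := ed Gen.b V_1224
def V_1226 : Q := ed Gen.c V_1225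
def V_1227 : Q := ed Gen.d V_1226
def V_1228 : Q := ed Gen.i V_1227
def V_1229 : Q := ed Gen.h V_1228
def V_1230 : Q := ed Gen.d V_1229
def V_1231 : Q := ed Gen.f V_1230
def V_1232 : Q := ed Gen.e V_1231
def V_1233 : Q := ed Gen.d V_1232
def V_1234 : Q := ed Gen.b V_1233
def V_1235 : Q := ed Gen.c V_1234
def V_1236 : Q := ed Gen.d V_1235
def V_1237 : Q := ed Gen.i V_1236
def V_1238 : Q := ed Gen.h V_1237
def V_1239 : Q := ed Gen.d V_1238
def V_1240 : Q := ed Gen.f V_1239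
def V_1241 : Q := ed Gen.e V_1240
def V_1242 : Q := ed Gen.d V_1241
def V_1243 : Q := ed Gen.b V_1242
def V_1244 : Q := ed Gen.c V_1243
def V_1245 : Q := ed Gen.d V_1244
def V_1246 : Q := ed Gen.i V_1245
def V_1247 : Q := ed Gen.h V_1246
def V_1248 : Q := ed Gen.d V_1247
def V_1249 : Q := ed Gen.f V_1248
def V_1250 : Q := ed Gen.e V_1249
def V_1251 : Q := ed Gen.d V_1250
def V_1252 : Q := ed Gen.b V_1251
def V_1253 : Q := ed Gen.c V_1252
def V_1254 : Q := ed Gen.d V_1253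
def V_1255 : Q := ed Gen.i V_1254
def V_1256 : Q := ed Gen.h V_1255
def V_1257 : Q := ed Gen.d V_1256
def V_1258 : Q := ed Gen.f V_1257
def V_1259 : Q := ed Gen.e V_1258
def V_1260 : Q := ed Gen.d V_1259
def V_1261 : Q := ed Gen.b V_1260
def V_1262 : Q := ed Gen.c V_1261
def V_1263 : Q := ed Gen.d V_1262
def V_1264 : Q := ed Gen.i V_1263
def V_1265 : Q := ed Gen.h V_1264
def V_1266 : Q := ed Gen.d V_1265
def V_1267 : Q := ed Gen.f V_1266
def V_1268 : Q := ed Gen.e V_1267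
def V_1269 : Q := ed Gen.d V_1268
def V_1270 : Q := ed Gen.b V_1269
def V_1271 : Q := ed Gen.c V_1270
def V_1272 : Q := ed Gen.d V_1271
def V_1273 : Q := ed Gen.i V_1272
def V_1274 : Q := ed Gen.h V_1273
def V_1275 : Q := ed Gen.d V_1274
def V_1276 : Q := ed Gen.f V_1275
def V_1277 : Q := ed Gen.e V_1276
def V_1278 : Q := ed Gen.d V_1277
def V_1280 : Q := ed Gen.h V_1023
def V_1284 : Q := ed Gen.h V_1024
def V_1285 : Q := ed Gen.d V_1284
def V_1431 : Q := ed Gen.b V_571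
def V_1432 : Q := ed Gen.c V_361
def V_1433 : Q := ed Gen.e V_1432
theorem F_0 (IH : D.IHyp) : ed Gen.c (D.P 111) = V_243 :=
  rfl
theorem F_1 (IH : D.IHyp) : ed Gen.c V_243 = (D.P 111) :=
  flipE D.rels D.S (hinv Gen.c) (F_0 IH)
theorem F_2 (IH : D.IHyp) : ed Gen.b V_243 = V_244 :=
  rfl
theorem F_3 (IH : D.IHyp) : ed Gen.b V_244 = V_243 :=
  flipE D.rels D.S (hinv Gen.b) (F_2 IH)
theorem F_4 (IH : D.IHyp) : ed Gen.f (D.P 111) = (D.P 111) :=
  D.real_edge' IH Gen.f 111 111 (by decide +kernel)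
theorem F_5 (IH : D.IHyp) : ed Gen.f V_243 = V_243 :=
  gap_rel RW_0 (path_edge (F_0 IH) (path_edge (F_4 IH) (path_edge (F_1 IH) (path_nil _))))
theorem F_6 (IH : D.IHyp) : ed Gen.h (D.P 111) = (D.P 111) :=
  D.real_edge' IH Gen.h 111 111 (by decide +kernel)
theorem F_7 (IH : D.IHyp) : ed Gen.h V_243 = V_243 :=
  gap_rel RW_1 (path_edge (F_0 IH) (path_edge (F_6 IH) (path_edge (F_1 IH) (path_nil _))))
theorem F_8 (IH : D.IHyp) : ed Gen.i (D.P 111) = (D.P 111) :=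
  D.real_edge' IH Gen.i 111 111 (by decide +kernel)
theorem F_9 (IH : D.IHyp) : ed Gen.i V_243 = V_243 :=
  gap_rel RW_2 (path_edge (F_0 IH) (path_edge (F_8 IH) (path_edge (F_1 IH) (path_nil _))))
theorem F_13 (IH : D.IHyp) : ed Gen.b (D.P 111) = (D.P 91) :=
  D.real_edge' IH Gen.b 111 91 (by decide +kernel)
theorem F_14 (IH : D.IHyp) : ed Gen.c (D.P 91) = (D.P 91) :=
  D.real_edge' IH Gen.c 91 91 (by decide +kernel)
theorem F_15 (IH : D.IHyp) : ed Gen.b (D.P 91) = (D.P 111) :=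
  D.real_edge' IH Gen.b 91 111 (by decide +kernel)
theorem F_16 (IH : D.IHyp) : ed Gen.c V_244 = (D.P 111) :=
  gap_rel RW_3 (path_edge (F_2 IH) (path_edge (F_0 IH) (path_edge (F_15 IH) (path_edge (F_14 IH) (path_edge (F_13 IH) (path_nil _))))))
theorem F_17 (IH : D.IHyp) : ed Gen.c (D.P 111) = V_244 :=
  flipE D.rels D.S (hinv Gen.c) (F_16 IH)
theorem F_18 (IH : D.IHyp) : V_243 = V_244 :=
  edge_fun (F_0 IH) (F_17 IH)
theorem F_19 (IH : D.IHyp) : V_244 = V_243 :=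
  (F_18 IH).symm
theorem F_20 (IH : D.IHyp) : ed Gen.b V_243 = V_243 :=
  edge_congr (F_3 IH) (F_19 IH)
theorem F_28 (IH : D.IHyp) : ed Gen.d (D.P 111) = (D.P 90) :=
  D.real_edge' IH Gen.d 111 90 (by decide +kernel)
theorem F_29 (IH : D.IHyp) : ed Gen.c (D.P 90) = (D.P 109) :=
  D.real_edge' IH Gen.c 90 109 (by decide +kernel)
theorem F_30 (IH : D.IHyp) : ed Gen.d (D.P 109) = (D.P 134) :=
  D.real_edge' IH Gen.d 109 134 (by decide +kernel)
theorem F_31 (IH : D.IHyp) : ed Gen.i (D.P 90) = (D.P 90) :=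
  D.real_edge' IH Gen.i 90 90 (by decide +kernel)
theorem F_32 (IH : D.IHyp) : ed Gen.h (D.P 90) = (D.P 73) :=
  D.real_edge' IH Gen.h 90 73 (by decide +kernel)
theorem F_33 (IH : D.IHyp) : ed Gen.d (D.P 73) = (D.P 73) :=
  D.real_edge' IH Gen.d 73 73 (by decide +kernel)
theorem F_34 (IH : D.IHyp) : ed Gen.f (D.P 73) = (D.P 73) :=
  D.real_edge' IH Gen.f 73 73 (by decide +kernel)
theorem F_35 (IH : D.IHyp) : ed Gen.e (D.P 73) = (D.P 73) :=
  D.real_edge' IH Gen.e 73 73 (by decide +kernel)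
theorem F_36 (IH : D.IHyp) : ed Gen.b (D.P 73) = (D.P 58) :=
  D.real_edge' IH Gen.b 73 58 (by decide +kernel)
theorem F_37 (IH : D.IHyp) : ed Gen.c (D.P 58) = (D.P 46) :=
  D.real_edge' IH Gen.c 58 46 (by decide +kernel)
theorem F_38 (IH : D.IHyp) : ed Gen.d (D.P 46) = (D.P 36) :=
  D.real_edge' IH Gen.d 46 36 (by decide +kernel)
theorem F_39 (IH : D.IHyp) : ed Gen.i (D.P 36) = (D.P 27) :=
  D.real_edge' IH Gen.i 36 27 (by decide +kernel)
theorem F_40 (IH : D.IHyp) : ed Gen.h (D.P 27) = (D.P 19) :=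
  D.real_edge' IH Gen.h 27 19 (by decide +kernel)
theorem F_41 (IH : D.IHyp) : ed Gen.d (D.P 19) = (D.P 19) :=
  D.real_edge' IH Gen.d 19 19 (by decide +kernel)
theorem F_42 (IH : D.IHyp) : ed Gen.f (D.P 19) = (D.P 19) :=
  D.real_edge' IH Gen.f 19 19 (by decide +kernel)
theorem F_43 (IH : D.IHyp) : ed Gen.e (D.P 19) = (D.P 14) :=
  D.real_edge' IH Gen.e 19 14 (by decide +kernel)
theorem F_44 (IH : D.IHyp) : ed Gen.d (D.P 14) = (D.P 11) :=
  D.real_edge' IH Gen.d 14 11 (by decide +kernel)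
theorem F_45 (IH : D.IHyp) : ed Gen.b (D.P 11) = (D.P 13) :=
  D.real_edge' IH Gen.b 11 13 (by decide +kernel)
theorem F_46 (IH : D.IHyp) : ed Gen.c (D.P 13) = (D.P 13) :=
  D.real_edge' IH Gen.c 13 13 (by decide +kernel)
theorem F_47 (IH : D.IHyp) : ed Gen.d (D.P 13) = (D.P 17) :=
  D.real_edge' IH Gen.d 13 17 (by decide +kernel)
theorem F_48 (IH : D.IHyp) : ed Gen.i (D.P 17) = (D.P 17) :=
  D.real_edge' IH Gen.i 17 17 (by decide +kernel)
theorem F_49 (IH : D.IHyp) : ed Gen.h (D.P 17) = (D.P 25) :=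
  D.real_edge' IH Gen.h 17 25 (by decide +kernel)
theorem F_50 (IH : D.IHyp) : ed Gen.d (D.P 25) = (D.P 25) :=
  D.real_edge' IH Gen.d 25 25 (by decide +kernel)
theorem F_51 (IH : D.IHyp) : ed Gen.f (D.P 25) = (D.P 18) :=
  D.real_edge' IH Gen.f 25 18 (by decide +kernel)
theorem F_52 (IH : D.IHyp) : ed Gen.e (D.P 18) = (D.P 18) :=
  D.real_edge' IH Gen.e 18 18 (by decide +kernel)
theorem F_53 (IH : D.IHyp) : ed Gen.d (D.P 18) = (D.P 18) :=
  D.real_edge' IH Gen.d 18 18 (by decide +kernel)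
theorem F_54 (IH : D.IHyp) : ed Gen.b (D.P 18) = (D.P 15) :=
  D.real_edge' IH Gen.b 18 15 (by decide +kernel)
theorem F_55 (IH : D.IHyp) : ed Gen.c (D.P 15) = (D.P 15) :=
  D.real_edge' IH Gen.c 15 15 (by decide +kernel)
theorem F_56 (IH : D.IHyp) : ed Gen.d (D.P 15) = (D.P 15) :=
  D.real_edge' IH Gen.d 15 15 (by decide +kernel)
theorem F_57 (IH : D.IHyp) : ed Gen.i (D.P 15) = (D.P 21) :=
  D.real_edge' IH Gen.i 15 21 (by decide +kernel)
theorem F_58 (IH : D.IHyp) : ed Gen.h (D.P 21) = (D.P 21) :=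
  D.real_edge' IH Gen.h 21 21 (by decide +kernel)
theorem F_59 (IH : D.IHyp) : ed Gen.d (D.P 21) = (D.P 21) :=
  D.real_edge' IH Gen.d 21 21 (by decide +kernel)
theorem F_60 (IH : D.IHyp) : ed Gen.f (D.P 21) = (D.P 28) :=
  D.real_edge' IH Gen.f 21 28 (by decide +kernel)
theorem F_61 (IH : D.IHyp) : ed Gen.e (D.P 28) = (D.P 36) :=
  D.real_edge' IH Gen.e 28 36 (by decide +kernel)
theorem F_62 (IH : D.IHyp) : ed Gen.d (D.P 36) = (D.P 46) :=
  D.real_edge' IH Gen.d 36 46 (by decide +kernel)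
theorem F_63 (IH : D.IHyp) : ed Gen.b (D.P 46) = (D.P 56) :=
  D.real_edge' IH Gen.b 46 56 (by decide +kernel)
theorem F_64 (IH : D.IHyp) : ed Gen.c (D.P 56) = (D.P 71) :=
  D.real_edge' IH Gen.c 56 71 (by decide +kernel)
theorem F_65 (IH : D.IHyp) : ed Gen.d (D.P 71) = (D.P 80) :=
  D.real_edge' IH Gen.d 71 80 (by decide +kernel)
theorem F_66 (IH : D.IHyp) : ed Gen.i (D.P 80) = (D.P 62) :=
  D.real_edge' IH Gen.i 80 62 (by decide +kernel)
theorem F_67 (IH : D.IHyp) : ed Gen.h (D.P 62) = (D.P 75) :=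
  D.real_edge' IH Gen.h 62 75 (by decide +kernel)
theorem F_68 (IH : D.IHyp) : ed Gen.d (D.P 75) = (D.P 75) :=
  D.real_edge' IH Gen.d 75 75 (by decide +kernel)
theorem F_69 (IH : D.IHyp) : ed Gen.f (D.P 75) = (D.P 75) :=
  D.real_edge' IH Gen.f 75 75 (by decide +kernel)
theorem F_70 (IH : D.IHyp) : ed Gen.e (D.P 75) = (D.P 93) :=
  D.real_edge' IH Gen.e 75 93 (by decide +kernel)
theorem F_71 (IH : D.IHyp) : ed Gen.d (D.P 93) = (D.P 115) :=
  D.real_edge' IH Gen.d 93 115 (by decide +kernel)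
theorem F_72 (IH : D.IHyp) : ed Gen.b (D.P 115) = (D.P 136) :=
  D.real_edge' IH Gen.b 115 136 (by decide +kernel)
theorem F_73 (IH : D.IHyp) : ed Gen.c (D.P 136) = (D.P 158) :=
  D.real_edge' IH Gen.c 136 158 (by decide +kernel)
theorem F_74 (IH : D.IHyp) : ed Gen.d (D.P 158) = (D.P 158) :=
  D.real_edge' IH Gen.d 158 158 (by decide +kernel)
theorem F_75 (IH : D.IHyp) : ed Gen.i (D.P 158) = (D.P 181) :=
  D.real_edge' IH Gen.i 158 181 (by decide +kernel)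
theorem F_76 (IH : D.IHyp) : ed Gen.h (D.P 181) = (D.P 203) :=
  D.real_edge' IH Gen.h 181 203 (by decide +kernel)
theorem F_77 (IH : D.IHyp) : ed Gen.d (D.P 203) = (D.P 221) :=
  D.real_edge' IH Gen.d 203 221 (by decide +kernel)
theorem F_78 (IH : D.IHyp) : ed Gen.f (D.P 221) = (D.P 234) :=
  D.real_edge' IH Gen.f 221 234 (by decide +kernel)
theorem F_79 (IH : D.IHyp) : ed Gen.d (D.P 91) = (D.P 74) :=
  D.real_edge' IH Gen.d 91 74 (by decide +kernel)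
theorem F_80 (IH : D.IHyp) : ed Gen.e (D.P 74) = (D.P 74) :=
  D.real_edge' IH Gen.e 74 74 (by decide +kernel)
theorem F_81 (IH : D.IHyp) : ed Gen.f (D.P 74) = (D.P 74) :=
  D.real_edge' IH Gen.f 74 74 (by decide +kernel)
theorem F_82 (IH : D.IHyp) : ed Gen.d (D.P 74) = (D.P 91) :=
  D.real_edge' IH Gen.d 74 91 (by decide +kernel)
theorem F_83 (IH : D.IHyp) : ed Gen.h (D.P 91) = (D.P 91) :=
  D.real_edge' IH Gen.h 91 91 (by decide +kernel)
theorem F_84 (IH : D.IHyp) : ed Gen.i (D.P 91) = (D.P 91) :=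
  D.real_edge' IH Gen.i 91 91 (by decide +kernel)
theorem F_85 (IH : D.IHyp) : ed Gen.c (D.P 74) = (D.P 59) :=
  D.real_edge' IH Gen.c 74 59 (by decide +kernel)
theorem F_87 (IH : D.IHyp) : ed Gen.d (D.P 72) = (D.P 72) :=
  D.real_edge' IH Gen.d 72 72 (by decide +kernel)
theorem F_88 (IH : D.IHyp) : ed Gen.e (D.P 72) = (D.P 72) :=
  D.real_edge' IH Gen.e 72 72 (by decide +kernel)
theorem F_89 (IH : D.IHyp) : ed Gen.f (D.P 72) = (D.P 72) :=
  D.real_edge' IH Gen.f 72 72 (by decide +kernel)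
theorem F_92 (IH : D.IHyp) : ed Gen.d (D.P 43) = (D.P 33) :=
  D.real_edge' IH Gen.d 43 33 (by decide +kernel)
theorem F_94 (IH : D.IHyp) : ed Gen.b (D.P 38) = (D.P 38) :=
  D.real_edge' IH Gen.b 38 38 (by decide +kernel)
theorem F_97 (IH : D.IHyp) : ed Gen.f (D.P 63) = (D.P 81) :=
  D.real_edge' IH Gen.f 63 81 (by decide +kernel)
theorem F_98 (IH : D.IHyp) : ed Gen.d (D.P 81) = (D.P 65) :=
  D.real_edge' IH Gen.d 81 65 (by decide +kernel)
theorem F_99 (IH : D.IHyp) : ed Gen.h (D.P 65) = (D.P 65) :=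
  D.real_edge' IH Gen.h 65 65 (by decide +kernel)
theorem F_104 (IH : D.IHyp) : ed Gen.d (D.P 147) = (D.P 147) :=
  D.real_edge' IH Gen.d 147 147 (by decide +kernel)
theorem F_105 (IH : D.IHyp) : ed Gen.e (D.P 147) = (D.P 147) :=
  D.real_edge' IH Gen.e 147 147 (by decide +kernel)
theorem F_107 (IH : D.IHyp) : ed Gen.d (D.P 122) = (D.P 122) :=
  D.real_edge' IH Gen.d 122 122 (by decide +kernel)
theorem F_111 (IH : D.IHyp) : ed Gen.c (D.P 186) = (D.P 208) :=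
  D.real_edge' IH Gen.c 186 208 (by decide +kernel)
theorem F_112 (IH : D.IHyp) : ed Gen.d V_243 = V_245 :=
  rfl
theorem F_113 (IH : D.IHyp) : ed Gen.d V_245 = V_243 :=
  flipE D.rels D.S (hinv Gen.d) (F_112 IH)
theorem F_114 (IH : D.IHyp) : ed Gen.b V_245 = V_245 :=
  gap_rel RW_4 (path_edge (F_112 IH) (path_edge (F_20 IH) (path_edge (F_113 IH) (path_nil _))))
theorem F_116 (IH : D.IHyp) : ed Gen.i V_245 = V_245 :=
  gap_rel RW_5 (path_edge (F_112 IH) (path_edge (F_9 IH) (path_edge (F_113 IH) (path_nil _))))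
theorem F_117 (IH : D.IHyp) : ed Gen.c (D.P 134) = V_245 :=
  gap_rel RW_6 (path_edge (F_30 IH) (path_edge (F_29 IH) (path_edge (F_28 IH) (path_edge (F_1 IH) (path_edge (F_113 IH) (path_nil _))))))
theorem F_118 (IH : D.IHyp) : ed Gen.c V_245 = (D.P 134) :=
  flipE D.rels D.S (hinv Gen.c) (F_117 IH)
theorem F_119 (IH : D.IHyp) : ed Gen.d (D.P 134) = (D.P 109) :=
  D.real_edge' IH Gen.d 134 109 (by decide +kernel)
theorem F_121 (IH : D.IHyp) : ed Gen.d (D.P 90) = (D.P 111) :=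
  D.real_edge' IH Gen.d 90 111 (by decide +kernel)
theorem F_122 (IH : D.IHyp) : ed Gen.i (D.P 109) = (D.P 109) :=
  D.real_edge' IH Gen.i 109 109 (by decide +kernel)
theorem F_123 (IH : D.IHyp) : ed Gen.h (D.P 109) = (D.P 88) :=
  D.real_edge' IH Gen.h 109 88 (by decide +kernel)
theorem F_124 (IH : D.IHyp) : ed Gen.d (D.P 88) = (D.P 99) :=
  D.real_edge' IH Gen.d 88 99 (by decide +kernel)
theorem F_125 (IH : D.IHyp) : ed Gen.f (D.P 99) = (D.P 99) :=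
  D.real_edge' IH Gen.f 99 99 (by decide +kernel)
theorem F_126 (IH : D.IHyp) : ed Gen.e (D.P 99) = (D.P 122) :=
  D.real_edge' IH Gen.e 99 122 (by decide +kernel)
theorem F_127 (IH : D.IHyp) : ed Gen.b (D.P 122) = (D.P 101) :=
  D.real_edge' IH Gen.b 122 101 (by decide +kernel)
theorem F_128 (IH : D.IHyp) : ed Gen.c (D.P 101) = (D.P 82) :=
  D.real_edge' IH Gen.c 101 82 (by decide +kernel)
theorem F_129 (IH : D.IHyp) : ed Gen.d (D.P 82) = (D.P 66) :=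
  D.real_edge' IH Gen.d 82 66 (by decide +kernel)
theorem F_130 (IH : D.IHyp) : ed Gen.i (D.P 66) = (D.P 50) :=
  D.real_edge' IH Gen.i 66 50 (by decide +kernel)
theorem F_131 (IH : D.IHyp) : ed Gen.h (D.P 50) = (D.P 50) :=
  D.real_edge' IH Gen.h 50 50 (by decide +kernel)
theorem F_132 (IH : D.IHyp) : ed Gen.d (D.P 50) = (D.P 63) :=
  D.real_edge' IH Gen.d 50 63 (by decide +kernel)
theorem F_133 (IH : D.IHyp) : ed Gen.e (D.P 81) = (D.P 81) :=
  D.real_edge' IH Gen.e 81 81 (by decide +kernel)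
theorem F_134 (IH : D.IHyp) : ed Gen.b (D.P 65) = (D.P 65) :=
  D.real_edge' IH Gen.b 65 65 (by decide +kernel)
theorem F_135 (IH : D.IHyp) : ed Gen.c (D.P 65) = (D.P 65) :=
  D.real_edge' IH Gen.c 65 65 (by decide +kernel)
theorem F_136 (IH : D.IHyp) : ed Gen.d (D.P 65) = (D.P 81) :=
  D.real_edge' IH Gen.d 65 81 (by decide +kernel)
theorem F_137 (IH : D.IHyp) : ed Gen.i (D.P 81) = (D.P 103) :=
  D.real_edge' IH Gen.i 81 103 (by decide +kernel)
theorem F_138 (IH : D.IHyp) : ed Gen.h (D.P 103) = (D.P 127) :=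
  D.real_edge' IH Gen.h 103 127 (by decide +kernel)
theorem F_139 (IH : D.IHyp) : ed Gen.d (D.P 127) = (D.P 153) :=
  D.real_edge' IH Gen.d 127 153 (by decide +kernel)
theorem F_140 (IH : D.IHyp) : ed Gen.f (D.P 153) = (D.P 128) :=
  D.real_edge' IH Gen.f 153 128 (by decide +kernel)
theorem F_141 (IH : D.IHyp) : ed Gen.e (D.P 128) = (D.P 128) :=
  D.real_edge' IH Gen.e 128 128 (by decide +kernel)
theorem F_142 (IH : D.IHyp) : ed Gen.d (D.P 128) = (D.P 104) :=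
  D.real_edge' IH Gen.d 128 104 (by decide +kernel)
theorem F_143 (IH : D.IHyp) : ed Gen.b (D.P 104) = (D.P 104) :=
  D.real_edge' IH Gen.b 104 104 (by decide +kernel)
theorem F_144 (IH : D.IHyp) : ed Gen.c (D.P 104) = (D.P 125) :=
  D.real_edge' IH Gen.c 104 125 (by decide +kernel)
theorem F_145 (IH : D.IHyp) : ed Gen.d (D.P 125) = (D.P 151) :=
  D.real_edge' IH Gen.d 125 151 (by decide +kernel)
theorem F_146 (IH : D.IHyp) : ed Gen.i (D.P 151) = (D.P 168) :=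
  D.real_edge' IH Gen.i 151 168 (by decide +kernel)
theorem F_147 (IH : D.IHyp) : ed Gen.h (D.P 168) = (D.P 191) :=
  D.real_edge' IH Gen.h 168 191 (by decide +kernel)
theorem F_148 (IH : D.IHyp) : ed Gen.d (D.P 191) = (D.P 166) :=
  D.real_edge' IH Gen.d 191 166 (by decide +kernel)
theorem F_149 (IH : D.IHyp) : ed Gen.f (D.P 166) = (D.P 190) :=
  D.real_edge' IH Gen.f 166 190 (by decide +kernel)
theorem F_150 (IH : D.IHyp) : ed Gen.e (D.P 190) = (D.P 210) :=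
  D.real_edge' IH Gen.e 190 210 (by decide +kernel)
theorem F_151 (IH : D.IHyp) : ed Gen.d (D.P 210) = (D.P 228) :=
  D.real_edge' IH Gen.d 210 228 (by decide +kernel)
theorem F_152 (IH : D.IHyp) : ed Gen.b (D.P 228) = (D.P 237) :=
  D.real_edge' IH Gen.b 228 237 (by decide +kernel)
theorem F_166 (IH : D.IHyp) : ed Gen.d (D.P 145) = (D.P 170) :=
  D.real_edge' IH Gen.d 145 170 (by decide +kernel)
theorem F_168 (IH : D.IHyp) : ed Gen.i (D.P 170) = (D.P 153) :=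
  D.real_edge' IH Gen.i 170 153 (by decide +kernel)
theorem F_175 (IH : D.IHyp) : ed Gen.h (D.P 134) = (D.P 149) :=
  D.real_edge' IH Gen.h 134 149 (by decide +kernel)
theorem F_176 (IH : D.IHyp) : ed Gen.c (D.P 149) = (D.P 174) :=
  D.real_edge' IH Gen.c 149 174 (by decide +kernel)
theorem F_177 (IH : D.IHyp) : ed Gen.h (D.P 174) = V_245 :=
  gap_rel RW_1 (path_edge (F_176 IH) (path_edge (F_175 IH) (path_edge (F_118 IH) (path_nil _))))
theorem F_178 (IH : D.IHyp) : ed Gen.h V_245 = (D.P 174) :=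
  flipE D.rels D.S (hinv Gen.h) (F_177 IH)
theorem F_180 (IH : D.IHyp) : ed Gen.f (D.P 174) = (D.P 174) :=
  D.real_edge' IH Gen.f 174 174 (by decide +kernel)
theorem F_181 (IH : D.IHyp) : ed Gen.b (D.P 174) = (D.P 174) :=
  D.real_edge' IH Gen.b 174 174 (by decide +kernel)
theorem F_186 (IH : D.IHyp) : ed Gen.d (D.P 174) = (D.P 174) :=
  D.real_edge' IH Gen.d 174 174 (by decide +kernel)
theorem F_189 (IH : D.IHyp) : ed Gen.i (D.P 187) = (D.P 174) :=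
  D.real_edge' IH Gen.i 187 174 (by decide +kernel)
theorem F_190 (IH : D.IHyp) : ed Gen.d (D.P 187) = (D.P 187) :=
  D.real_edge' IH Gen.d 187 187 (by decide +kernel)
theorem F_196 (IH : D.IHyp) : ed Gen.h (D.P 192) = (D.P 211) :=
  D.real_edge' IH Gen.h 192 211 (by decide +kernel)
theorem F_197 (IH : D.IHyp) : ed Gen.i (D.P 211) = (D.P 211) :=
  D.real_edge' IH Gen.i 211 211 (by decide +kernel)
theorem F_198 (IH : D.IHyp) : ed Gen.d (D.P 211) = (D.P 190) :=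
  D.real_edge' IH Gen.d 211 190 (by decide +kernel)
theorem F_199 (IH : D.IHyp) : ed Gen.c (D.P 190) = (D.P 190) :=
  D.real_edge' IH Gen.c 190 190 (by decide +kernel)
theorem F_201 (IH : D.IHyp) : ed Gen.d (D.P 205) = (D.P 223) :=
  D.real_edge' IH Gen.d 205 223 (by decide +kernel)
theorem F_228 (IH : D.IHyp) : ed Gen.d (D.P 101) = (D.P 101) :=
  D.real_edge' IH Gen.d 101 101 (by decide +kernel)
theorem F_239 (IH : D.IHyp) : ed Gen.d (D.P 164) = (D.P 164) :=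
  D.real_edge' IH Gen.d 164 164 (by decide +kernel)
theorem F_246 (IH : D.IHyp) : ed Gen.d (D.P 118) = (D.P 144) :=
  D.real_edge' IH Gen.d 118 144 (by decide +kernel)
theorem F_257 (IH : D.IHyp) : ed Gen.d (D.P 28) = (D.P 28) :=
  D.real_edge' IH Gen.d 28 28 (by decide +kernel)
theorem F_270 (IH : D.IHyp) : ed Gen.d (D.P 9) = (D.P 12) :=
  D.real_edge' IH Gen.d 9 12 (by decide +kernel)
theorem F_276 (IH : D.IHyp) : ed Gen.d (D.P 7) = (D.P 10) :=
  D.real_edge' IH Gen.d 7 10 (by decide +kernel)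
theorem F_277 (IH : D.IHyp) : ed Gen.f (D.P 10) = (D.P 14) :=
  D.real_edge' IH Gen.f 10 14 (by decide +kernel)
theorem F_294 (IH : D.IHyp) : ed Gen.b (D.P 90) = (D.P 74) :=
  D.real_edge' IH Gen.b 90 74 (by decide +kernel)
theorem F_295 (IH : D.IHyp) : ed Gen.e (D.P 91) = (D.P 112) :=
  D.real_edge' IH Gen.e 91 112 (by decide +kernel)
theorem F_304 (IH : D.IHyp) : ed Gen.d (D.P 171) = (D.P 193) :=
  D.real_edge' IH Gen.d 171 193 (by decide +kernel)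
theorem F_309 (IH : D.IHyp) : ed Gen.d (D.P 62) = (D.P 55) :=
  D.real_edge' IH Gen.d 62 55 (by decide +kernel)
theorem F_327 (IH : D.IHyp) : ed Gen.c (D.P 163) = (D.P 187) :=
  D.real_edge' IH Gen.c 163 187 (by decide +kernel)
theorem F_345 (IH : D.IHyp) : ed Gen.d (D.P 100) = (D.P 100) :=
  D.real_edge' IH Gen.d 100 100 (by decide +kernel)
theorem F_352 (IH : D.IHyp) : ed Gen.e (D.P 173) = (D.P 198) :=
  D.real_edge' IH Gen.e 173 198 (by decide +kernel)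
theorem F_366 (IH : D.IHyp) : ed Gen.d (D.P 192) = (D.P 167) :=
  D.real_edge' IH Gen.d 192 167 (by decide +kernel)
theorem F_367 (IH : D.IHyp) : ed Gen.c (D.P 167) = (D.P 145) :=
  D.real_edge' IH Gen.c 167 145 (by decide +kernel)
theorem F_369 (IH : D.IHyp) : ed Gen.e V_243 = V_246 :=
  rfl
theorem F_370 (IH : D.IHyp) : ed Gen.e V_246 = V_243 :=
  flipE D.rels D.S (hinv Gen.e) (F_369 IH)
theorem F_371 (IH : D.IHyp) : ed Gen.b V_246 = V_246 :=
  gap_rel RW_7 (path_edge (F_369 IH) (path_edge (F_20 IH) (path_edge (F_370 IH) (path_nil _))))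
theorem F_372 (IH : D.IHyp) : ed Gen.h V_246 = V_246 :=
  gap_rel RW_8 (path_edge (F_369 IH) (path_edge (F_7 IH) (path_edge (F_370 IH) (path_nil _))))
theorem F_373 (IH : D.IHyp) : ed Gen.i V_246 = V_246 :=
  gap_rel RW_9 (path_edge (F_369 IH) (path_edge (F_9 IH) (path_edge (F_370 IH) (path_nil _))))
theorem F_374 (IH : D.IHyp) : ed Gen.e (D.P 111) = V_247 :=
  rfl
theorem F_375 (IH : D.IHyp) : ed Gen.e V_247 = (D.P 111) :=
  flipE D.rels D.S (hinv Gen.e) (F_374 IH)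
theorem F_377 (IH : D.IHyp) : ed Gen.b (D.P 112) = V_247 :=
  gap_rel RW_7 (path_edge (F_295 IH) (path_edge (F_13 IH) (path_edge (F_375 IH) (path_nil _))))
theorem F_378 (IH : D.IHyp) : ed Gen.b V_247 = (D.P 112) :=
  flipE D.rels D.S (hinv Gen.b) (F_377 IH)
theorem F_379 (IH : D.IHyp) : ed Gen.f (D.P 91) = (D.P 91) :=
  D.real_edge' IH Gen.f 91 91 (by decide +kernel)
theorem F_380 (IH : D.IHyp) : ed Gen.c V_246 = V_247 :=
  gap_rel RW_10 (path_edge (F_369 IH) (path_edge (F_0 IH) (path_edge (F_375 IH) (path_nil _))))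
theorem F_381 (IH : D.IHyp) : ed Gen.c V_247 = V_246 :=
  flipE D.rels D.S (hinv Gen.c) (F_380 IH)
theorem F_383 (IH : D.IHyp) : ed Gen.e (D.P 112) = (D.P 91) :=
  D.real_edge' IH Gen.e 112 91 (by decide +kernel)
theorem F_384 (IH : D.IHyp) : ed Gen.h V_247 = V_247 :=
  gap_rel RW_8 (path_edge (F_374 IH) (path_edge (F_6 IH) (path_edge (F_375 IH) (path_nil _))))
theorem F_385 (IH : D.IHyp) : ed Gen.i V_247 = V_247 :=
  gap_rel RW_9 (path_edge (F_374 IH) (path_edge (F_8 IH) (path_edge (F_375 IH) (path_nil _))))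
theorem F_386 (IH : D.IHyp) : ed Gen.e (D.P 90) = (D.P 90) :=
  D.real_edge' IH Gen.e 90 90 (by decide +kernel)
theorem F_387 (IH : D.IHyp) : ed Gen.d V_247 = V_247 :=
  gap_rel RW_11 (path_edge (F_374 IH) (path_edge (F_121 IH) (path_edge (F_386 IH) (path_edge (F_28 IH) (path_edge (F_375 IH) (path_nil _))))))
theorem F_388 (IH : D.IHyp) : ed Gen.h (D.P 73) = (D.P 90) :=
  D.real_edge' IH Gen.h 73 90 (by decide +kernel)
theorem F_390 (IH : D.IHyp) : ed Gen.h (D.P 74) = (D.P 58) :=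
  D.real_edge' IH Gen.h 74 58 (by decide +kernel)
theorem F_407 (IH : D.IHyp) : ed Gen.f (D.P 168) = (D.P 192) :=
  D.real_edge' IH Gen.f 168 192 (by decide +kernel)
theorem F_408 (IH : D.IHyp) : ed Gen.d (D.P 59) = (D.P 59) :=
  D.real_edge' IH Gen.d 59 59 (by decide +kernel)
theorem F_409 (IH : D.IHyp) : ed Gen.i (D.P 59) = (D.P 59) :=
  D.real_edge' IH Gen.i 59 59 (by decide +kernel)
theorem F_410 (IH : D.IHyp) : ed Gen.h (D.P 59) = (D.P 46) :=
  D.real_edge' IH Gen.h 59 46 (by decide +kernel)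
theorem F_411 (IH : D.IHyp) : ed Gen.f (D.P 36) = (D.P 36) :=
  D.real_edge' IH Gen.f 36 36 (by decide +kernel)
theorem F_412 (IH : D.IHyp) : ed Gen.e (D.P 36) = (D.P 28) :=
  D.real_edge' IH Gen.e 36 28 (by decide +kernel)
theorem F_413 (IH : D.IHyp) : ed Gen.b (D.P 28) = (D.P 34) :=
  D.real_edge' IH Gen.b 28 34 (by decide +kernel)
theorem F_414 (IH : D.IHyp) : ed Gen.c (D.P 34) = (D.P 40) :=
  D.real_edge' IH Gen.c 34 40 (by decide +kernel)
theorem F_415 (IH : D.IHyp) : ed Gen.d (D.P 40) = (D.P 51) :=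
  D.real_edge' IH Gen.d 40 51 (by decide +kernel)
theorem F_416 (IH : D.IHyp) : ed Gen.i (D.P 51) = (D.P 39) :=
  D.real_edge' IH Gen.i 51 39 (by decide +kernel)
theorem F_417 (IH : D.IHyp) : ed Gen.h (D.P 39) = (D.P 39) :=
  D.real_edge' IH Gen.h 39 39 (by decide +kernel)
theorem F_418 (IH : D.IHyp) : ed Gen.d (D.P 39) = (D.P 30) :=
  D.real_edge' IH Gen.d 39 30 (by decide +kernel)
theorem F_419 (IH : D.IHyp) : ed Gen.f (D.P 30) = (D.P 23) :=
  D.real_edge' IH Gen.f 30 23 (by decide +kernel)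
theorem F_420 (IH : D.IHyp) : ed Gen.e (D.P 23) = (D.P 23) :=
  D.real_edge' IH Gen.e 23 23 (by decide +kernel)
theorem F_421 (IH : D.IHyp) : ed Gen.d (D.P 23) = (D.P 31) :=
  D.real_edge' IH Gen.d 23 31 (by decide +kernel)
theorem F_422 (IH : D.IHyp) : ed Gen.b (D.P 31) = (D.P 31) :=
  D.real_edge' IH Gen.b 31 31 (by decide +kernel)
theorem F_423 (IH : D.IHyp) : ed Gen.c (D.P 31) = (D.P 31) :=
  D.real_edge' IH Gen.c 31 31 (by decide +kernel)
theorem F_424 (IH : D.IHyp) : ed Gen.d (D.P 31) = (D.P 23) :=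
  D.real_edge' IH Gen.d 31 23 (by decide +kernel)
theorem F_425 (IH : D.IHyp) : ed Gen.i (D.P 23) = (D.P 32) :=
  D.real_edge' IH Gen.i 23 32 (by decide +kernel)
theorem F_426 (IH : D.IHyp) : ed Gen.h (D.P 32) = (D.P 32) :=
  D.real_edge' IH Gen.h 32 32 (by decide +kernel)
theorem F_427 (IH : D.IHyp) : ed Gen.d (D.P 32) = (D.P 42) :=
  D.real_edge' IH Gen.d 32 42 (by decide +kernel)
theorem F_428 (IH : D.IHyp) : ed Gen.f (D.P 42) = (D.P 51) :=
  D.real_edge' IH Gen.f 42 51 (by decide +kernel)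
theorem F_429 (IH : D.IHyp) : ed Gen.e (D.P 51) = (D.P 66) :=
  D.real_edge' IH Gen.e 51 66 (by decide +kernel)
theorem F_430 (IH : D.IHyp) : ed Gen.d (D.P 66) = (D.P 82) :=
  D.real_edge' IH Gen.d 66 82 (by decide +kernel)
theorem F_431 (IH : D.IHyp) : ed Gen.b (D.P 82) = (D.P 82) :=
  D.real_edge' IH Gen.b 82 82 (by decide +kernel)
theorem F_432 (IH : D.IHyp) : ed Gen.c (D.P 82) = (D.P 101) :=
  D.real_edge' IH Gen.c 82 101 (by decide +kernel)
theorem F_433 (IH : D.IHyp) : ed Gen.i (D.P 101) = (D.P 79) :=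
  D.real_edge' IH Gen.i 101 79 (by decide +kernel)
theorem F_434 (IH : D.IHyp) : ed Gen.h (D.P 79) = (D.P 93) :=
  D.real_edge' IH Gen.h 79 93 (by decide +kernel)
theorem F_435 (IH : D.IHyp) : ed Gen.f (D.P 115) = (D.P 140) :=
  D.real_edge' IH Gen.f 115 140 (by decide +kernel)
theorem F_436 (IH : D.IHyp) : ed Gen.e (D.P 140) = (D.P 164) :=
  D.real_edge' IH Gen.e 140 164 (by decide +kernel)
theorem F_437 (IH : D.IHyp) : ed Gen.b (D.P 164) = (D.P 182) :=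
  D.real_edge' IH Gen.b 164 182 (by decide +kernel)
theorem F_438 (IH : D.IHyp) : ed Gen.c (D.P 182) = (D.P 201) :=
  D.real_edge' IH Gen.c 182 201 (by decide +kernel)
theorem F_439 (IH : D.IHyp) : ed Gen.d (D.P 201) = (D.P 218) :=
  D.real_edge' IH Gen.d 201 218 (by decide +kernel)
theorem F_440 (IH : D.IHyp) : ed Gen.i (D.P 218) = (D.P 232) :=
  D.real_edge' IH Gen.i 218 232 (by decide +kernel)
theorem F_442 (IH : D.IHyp) : ed Gen.d (D.P 57) = (D.P 57) :=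
  D.real_edge' IH Gen.d 57 57 (by decide +kernel)
theorem F_449 (IH : D.IHyp) : ed Gen.c (D.P 165) = (D.P 165) :=
  D.real_edge' IH Gen.c 165 165 (by decide +kernel)
theorem F_452 (IH : D.IHyp) : ed Gen.e (D.P 161) = (D.P 161) :=
  D.real_edge' IH Gen.e 161 161 (by decide +kernel)
theorem F_455 (IH : D.IHyp) : ed Gen.i (D.P 184) = (D.P 184) :=
  D.real_edge' IH Gen.i 184 184 (by decide +kernel)
theorem F_458 (IH : D.IHyp) : ed Gen.c (D.P 112) = (D.P 112) :=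
  D.real_edge' IH Gen.c 112 112 (by decide +kernel)
theorem F_459 (IH : D.IHyp) : ed Gen.d (D.P 112) = (D.P 112) :=
  D.real_edge' IH Gen.d 112 112 (by decide +kernel)
theorem F_460 (IH : D.IHyp) : ed Gen.i (D.P 112) = (D.P 112) :=
  D.real_edge' IH Gen.i 112 112 (by decide +kernel)
theorem F_461 (IH : D.IHyp) : ed Gen.h (D.P 112) = (D.P 112) :=
  D.real_edge' IH Gen.h 112 112 (by decide +kernel)
theorem F_462 (IH : D.IHyp) : ed Gen.i (D.P 58) = (D.P 45) :=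
  D.real_edge' IH Gen.i 58 45 (by decide +kernel)
theorem F_463 (IH : D.IHyp) : ed Gen.d (D.P 45) = (D.P 45) :=
  D.real_edge' IH Gen.d 45 45 (by decide +kernel)
theorem F_464 (IH : D.IHyp) : ed Gen.c (D.P 45) = (D.P 35) :=
  D.real_edge' IH Gen.c 45 35 (by decide +kernel)
theorem F_465 (IH : D.IHyp) : ed Gen.b (D.P 35) = (D.P 43) :=
  D.real_edge' IH Gen.b 35 43 (by decide +kernel)
theorem F_466 (IH : D.IHyp) : ed Gen.e (D.P 33) = (D.P 25) :=
  D.real_edge' IH Gen.e 33 25 (by decide +kernel)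
theorem F_467 (IH : D.IHyp) : ed Gen.h (D.P 18) = (D.P 12) :=
  D.real_edge' IH Gen.h 18 12 (by decide +kernel)
theorem F_468 (IH : D.IHyp) : ed Gen.i (D.P 12) = (D.P 12) :=
  D.real_edge' IH Gen.i 12 12 (by decide +kernel)
theorem F_469 (IH : D.IHyp) : ed Gen.d (D.P 12) = (D.P 9) :=
  D.real_edge' IH Gen.d 12 9 (by decide +kernel)
theorem F_470 (IH : D.IHyp) : ed Gen.c (D.P 9) = (D.P 9) :=
  D.real_edge' IH Gen.c 9 9 (by decide +kernel)
theorem F_471 (IH : D.IHyp) : ed Gen.b (D.P 9) = (D.P 7) :=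
  D.real_edge' IH Gen.b 9 7 (by decide +kernel)
theorem F_472 (IH : D.IHyp) : ed Gen.e (D.P 10) = (D.P 10) :=
  D.real_edge' IH Gen.e 10 10 (by decide +kernel)
theorem F_473 (IH : D.IHyp) : ed Gen.h (D.P 11) = (D.P 11) :=
  D.real_edge' IH Gen.h 11 11 (by decide +kernel)
theorem F_474 (IH : D.IHyp) : ed Gen.i (D.P 11) = (D.P 11) :=
  D.real_edge' IH Gen.i 11 11 (by decide +kernel)
theorem F_475 (IH : D.IHyp) : ed Gen.d (D.P 11) = (D.P 14) :=
  D.real_edge' IH Gen.d 11 14 (by decide +kernel)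
theorem F_476 (IH : D.IHyp) : ed Gen.c (D.P 14) = (D.P 14) :=
  D.real_edge' IH Gen.c 14 14 (by decide +kernel)
theorem F_477 (IH : D.IHyp) : ed Gen.b (D.P 14) = (D.P 17) :=
  D.real_edge' IH Gen.b 14 17 (by decide +kernel)
theorem F_478 (IH : D.IHyp) : ed Gen.d (D.P 17) = (D.P 13) :=
  D.real_edge' IH Gen.d 17 13 (by decide +kernel)
theorem F_479 (IH : D.IHyp) : ed Gen.e (D.P 13) = (D.P 13) :=
  D.real_edge' IH Gen.e 13 13 (by decide +kernel)
theorem F_480 (IH : D.IHyp) : ed Gen.f (D.P 13) = (D.P 9) :=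
  D.real_edge' IH Gen.f 13 9 (by decide +kernel)
theorem F_481 (IH : D.IHyp) : ed Gen.h (D.P 12) = (D.P 18) :=
  D.real_edge' IH Gen.h 12 18 (by decide +kernel)
theorem F_482 (IH : D.IHyp) : ed Gen.i (D.P 18) = (D.P 26) :=
  D.real_edge' IH Gen.i 18 26 (by decide +kernel)
theorem F_483 (IH : D.IHyp) : ed Gen.d (D.P 26) = (D.P 26) :=
  D.real_edge' IH Gen.d 26 26 (by decide +kernel)
theorem F_484 (IH : D.IHyp) : ed Gen.c (D.P 26) = (D.P 32) :=
  D.real_edge' IH Gen.c 26 32 (by decide +kernel)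
theorem F_485 (IH : D.IHyp) : ed Gen.b (D.P 32) = (D.P 32) :=
  D.real_edge' IH Gen.b 32 32 (by decide +kernel)
theorem F_486 (IH : D.IHyp) : ed Gen.e (D.P 42) = (D.P 53) :=
  D.real_edge' IH Gen.e 42 53 (by decide +kernel)
theorem F_487 (IH : D.IHyp) : ed Gen.f (D.P 53) = (D.P 68) :=
  D.real_edge' IH Gen.f 53 68 (by decide +kernel)
theorem F_488 (IH : D.IHyp) : ed Gen.d (D.P 68) = (D.P 68) :=
  D.real_edge' IH Gen.d 68 68 (by decide +kernel)
theorem F_489 (IH : D.IHyp) : ed Gen.h (D.P 68) = (D.P 86) :=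
  D.real_edge' IH Gen.h 68 86 (by decide +kernel)
theorem F_490 (IH : D.IHyp) : ed Gen.i (D.P 86) = (D.P 86) :=
  D.real_edge' IH Gen.i 86 86 (by decide +kernel)
theorem F_491 (IH : D.IHyp) : ed Gen.d (D.P 86) = (D.P 107) :=
  D.real_edge' IH Gen.d 86 107 (by decide +kernel)
theorem F_492 (IH : D.IHyp) : ed Gen.c (D.P 107) = (D.P 131) :=
  D.real_edge' IH Gen.c 107 131 (by decide +kernel)
theorem F_493 (IH : D.IHyp) : ed Gen.e V_245 = V_248 :=
  rfl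
theorem F_494 (IH : D.IHyp) : ed Gen.e V_248 = V_245 :=
  flipE D.rels D.S (hinv Gen.e) (F_493 IH)
theorem F_495 (IH : D.IHyp) : ed Gen.b V_248 = V_248 :=
  gap_rel RW_7 (path_edge (F_493 IH) (path_edge (F_114 IH) (path_edge (F_494 IH) (path_nil _))))
theorem F_496 (IH : D.IHyp) : ed Gen.i V_248 = V_248 :=
  gap_rel RW_9 (path_edge (F_493 IH) (path_edge (F_116 IH) (path_edge (F_494 IH) (path_nil _))))
theorem F_497 (IH : D.IHyp) : ed Gen.d V_248 = V_249 :=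
  rfl
theorem F_498 (IH : D.IHyp) : ed Gen.d V_249 = V_248 :=
  flipE D.rels D.S (hinv Gen.d) (F_497 IH)
theorem F_499 (IH : D.IHyp) : ed Gen.b V_249 = V_249 :=
  gap_rel RW_4 (path_edge (F_497 IH) (path_edge (F_495 IH) (path_edge (F_498 IH) (path_nil _))))
theorem F_500 (IH : D.IHyp) : ed Gen.i V_249 = V_249 :=
  gap_rel RW_5 (path_edge (F_497 IH) (path_edge (F_496 IH) (path_edge (F_498 IH) (path_nil _))))
theorem F_501 (IH : D.IHyp) : ed Gen.e V_249 = V_250 :=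
  rfl
theorem F_502 (IH : D.IHyp) : ed Gen.e V_250 = V_249 :=
  flipE D.rels D.S (hinv Gen.e) (F_501 IH)
theorem F_503 (IH : D.IHyp) : ed Gen.b V_250 = V_250 :=
  gap_rel RW_7 (path_edge (F_501 IH) (path_edge (F_499 IH) (path_edge (F_502 IH) (path_nil _))))
theorem F_504 (IH : D.IHyp) : ed Gen.i V_250 = V_250 :=
  gap_rel RW_9 (path_edge (F_501 IH) (path_edge (F_500 IH) (path_edge (F_502 IH) (path_nil _))))
theorem F_505 (IH : D.IHyp) : ed Gen.d V_246 = V_250 :=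
  gap_rel RW_11 (path_edge (F_369 IH) (path_edge (F_113 IH) (path_edge (F_494 IH) (path_edge (F_498 IH) (path_edge (F_502 IH) (path_nil _))))))
theorem F_506 (IH : D.IHyp) : ed Gen.d V_250 = V_246 :=
  flipE D.rels D.S (hinv Gen.d) (F_505 IH)
theorem F_507 (IH : D.IHyp) : ed Gen.c V_250 = V_250 :=
  gap_rel RW_6 (path_edge (F_505 IH) (path_edge (F_381 IH) (path_edge (F_387 IH) (path_edge (F_380 IH) (path_edge (F_506 IH) (path_nil _))))))
theorem F_508 (IH : D.IHyp) : ed Gen.c V_249 = V_249 :=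
  gap_rel RW_10 (path_edge (F_502 IH) (path_edge (F_507 IH) (path_edge (F_501 IH) (path_nil _))))
theorem F_509 (IH : D.IHyp) : ed Gen.f V_246 = V_251 :=
  rfl
theorem F_510 (IH : D.IHyp) : ed Gen.f V_251 = V_246 :=
  flipE D.rels D.S (hinv Gen.f) (F_509 IH)
theorem F_511 (IH : D.IHyp) : ed Gen.b V_251 = V_251 :=
  gap_rel RW_12 (path_edge (F_509 IH) (path_edge (F_371 IH) (path_edge (F_510 IH) (path_nil _))))
theorem F_512 (IH : D.IHyp) : ed Gen.h V_251 = V_251 :=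
  gap_rel RW_13 (path_edge (F_509 IH) (path_edge (F_372 IH) (path_edge (F_510 IH) (path_nil _))))
theorem F_513 (IH : D.IHyp) : ed Gen.i V_251 = V_251 :=
  gap_rel RW_14 (path_edge (F_509 IH) (path_edge (F_373 IH) (path_edge (F_510 IH) (path_nil _))))
theorem F_514 (IH : D.IHyp) : ed Gen.e V_251 = V_251 :=
  gap_rel RW_15 (path_edge (F_509 IH) (path_edge (F_369 IH) (path_edge (F_5 IH) (path_edge (F_370 IH) (path_edge (F_510 IH) (path_nil _))))))
theorem F_515 (IH : D.IHyp) : ed Gen.e (D.P 234) = V_252 :=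
  rfl
theorem F_516 (IH : D.IHyp) : ed Gen.e V_252 = (D.P 234) :=
  flipE D.rels D.S (hinv Gen.e) (F_515 IH)
theorem F_517 (IH : D.IHyp) : ed Gen.b (D.P 234) = (D.P 234) :=
  D.real_edge' IH Gen.b 234 234 (by decide +kernel)
theorem F_518 (IH : D.IHyp) : ed Gen.d (D.P 234) = (D.P 220) :=
  D.real_edge' IH Gen.d 234 220 (by decide +kernel)
theorem F_521 (IH : D.IHyp) : ed Gen.b V_252 = V_252 :=
  gap_rel RW_7 (path_edge (F_515 IH) (path_edge (F_517 IH) (path_edge (F_516 IH) (path_nil _))))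
theorem F_524 (IH : D.IHyp) : ed Gen.h (D.P 234) = (D.P 234) :=
  D.real_edge' IH Gen.h 234 234 (by decide +kernel)
theorem F_525 (IH : D.IHyp) : ed Gen.i (D.P 234) = (D.P 234) :=
  D.real_edge' IH Gen.i 234 234 (by decide +kernel)
theorem F_530 (IH : D.IHyp) : ed Gen.c (D.P 241) = (D.P 234) :=
  D.real_edge' IH Gen.c 241 234 (by decide +kernel)
theorem F_534 (IH : D.IHyp) : ed Gen.h V_252 = V_252 :=
  gap_rel RW_8 (path_edge (F_515 IH) (path_edge (F_524 IH) (path_edge (F_516 IH) (path_nil _))))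
theorem F_535 (IH : D.IHyp) : ed Gen.i V_252 = V_252 :=
  gap_rel RW_9 (path_edge (F_515 IH) (path_edge (F_525 IH) (path_edge (F_516 IH) (path_nil _))))
theorem F_542 (IH : D.IHyp) : ed Gen.d (D.P 241) = (D.P 238) :=
  D.real_edge' IH Gen.d 241 238 (by decide +kernel)
theorem F_543 (IH : D.IHyp) : ed Gen.c (D.P 238) = (D.P 223) :=
  D.real_edge' IH Gen.c 238 223 (by decide +kernel)
theorem F_544 (IH : D.IHyp) : ed Gen.d (D.P 223) = (D.P 205) :=
  D.real_edge' IH Gen.d 223 205 (by decide +kernel)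
theorem F_548 (IH : D.IHyp) : ed Gen.d (D.P 238) = (D.P 241) :=
  D.real_edge' IH Gen.d 238 241 (by decide +kernel)
theorem F_549 (IH : D.IHyp) : ed Gen.e (D.P 220) = (D.P 233) :=
  D.real_edge' IH Gen.e 220 233 (by decide +kernel)
theorem F_558 (IH : D.IHyp) : ed Gen.f (D.P 233) = (D.P 233) :=
  D.real_edge' IH Gen.f 233 233 (by decide +kernel)
theorem F_564 (IH : D.IHyp) : ed Gen.d (D.P 160) = (D.P 138) :=
  D.real_edge' IH Gen.d 160 138 (by decide +kernel)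
theorem F_608 (IH : D.IHyp) : ed Gen.e (D.P 129) = (D.P 156) :=
  D.real_edge' IH Gen.e 129 156 (by decide +kernel)
theorem F_609 (IH : D.IHyp) : ed Gen.d (D.P 156) = (D.P 132) :=
  D.real_edge' IH Gen.d 156 132 (by decide +kernel)
theorem F_611 (IH : D.IHyp) : ed Gen.b (D.P 205) = (D.P 190) :=
  D.real_edge' IH Gen.b 205 190 (by decide +kernel)
theorem F_612 (IH : D.IHyp) : ed Gen.d (D.P 190) = (D.P 211) :=
  D.real_edge' IH Gen.d 190 211 (by decide +kernel)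
theorem F_615 (IH : D.IHyp) : ed Gen.i (D.P 224) = (D.P 224) :=
  D.real_edge' IH Gen.i 224 224 (by decide +kernel)
theorem F_616 (IH : D.IHyp) : ed Gen.h (D.P 224) = (D.P 208) :=
  D.real_edge' IH Gen.h 224 208 (by decide +kernel)
theorem F_617 (IH : D.IHyp) : ed Gen.d (D.P 208) = (D.P 208) :=
  D.real_edge' IH Gen.d 208 208 (by decide +kernel)
theorem F_665 (IH : D.IHyp) : ed Gen.d V_252 = V_253 :=
  rfl
theorem F_666 (IH : D.IHyp) : ed Gen.d V_253 = V_252 :=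
  flipE D.rels D.S (hinv Gen.d) (F_665 IH)
theorem F_667 (IH : D.IHyp) : ed Gen.b V_253 = V_253 :=
  gap_rel RW_4 (path_edge (F_665 IH) (path_edge (F_521 IH) (path_edge (F_666 IH) (path_nil _))))
theorem F_668 (IH : D.IHyp) : ed Gen.i V_253 = V_253 :=
  gap_rel RW_5 (path_edge (F_665 IH) (path_edge (F_535 IH) (path_edge (F_666 IH) (path_nil _))))
theorem F_669 (IH : D.IHyp) : ed Gen.c V_253 = V_254 :=
  rfl
theorem F_670 (IH : D.IHyp) : ed Gen.c V_254 = V_253 :=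
  flipE D.rels D.S (hinv Gen.c) (F_669 IH)
theorem F_671 (IH : D.IHyp) : ed Gen.i V_254 = V_254 :=
  gap_rel RW_2 (path_edge (F_669 IH) (path_edge (F_668 IH) (path_edge (F_670 IH) (path_nil _))))
theorem F_672 (IH : D.IHyp) : ed Gen.d V_254 = V_255 :=
  rfl
theorem F_673 (IH : D.IHyp) : ed Gen.d V_255 = V_254 :=
  flipE D.rels D.S (hinv Gen.d) (F_672 IH)
theorem F_674 (IH : D.IHyp) : ed Gen.i V_255 = V_255 :=
  gap_rel RW_5 (path_edge (F_672 IH) (path_edge (F_671 IH) (path_edge (F_673 IH) (path_nil _))))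
theorem F_675 (IH : D.IHyp) : ed Gen.h V_255 = V_256 :=
  rfl
theorem F_677 (IH : D.IHyp) : ed Gen.d V_256 = V_257 :=
  rfl
theorem F_679 (IH : D.IHyp) : ed Gen.f V_257 = V_258 :=
  rfl
theorem F_681 (IH : D.IHyp) : ed Gen.e V_258 = V_259 :=
  rfl
theorem F_683 (IH : D.IHyp) : ed Gen.d V_259 = V_260 :=
  rfl
theorem F_685 (IH : D.IHyp) : ed Gen.b V_260 = V_261 :=
  rfl
theorem F_687 (IH : D.IHyp) : ed Gen.c V_261 = V_262 :=
  rfl
theorem F_689 (IH : D.IHyp) : ed Gen.d V_262 = V_263 :=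
  rfl
theorem F_691 (IH : D.IHyp) : ed Gen.i V_263 = V_264 :=
  rfl
theorem F_693 (IH : D.IHyp) : ed Gen.h V_264 = V_265 :=
  rfl
theorem F_695 (IH : D.IHyp) : ed Gen.d V_265 = V_266 :=
  rfl
theorem F_697 (IH : D.IHyp) : ed Gen.f V_266 = V_267 :=
  rfl
theorem F_699 (IH : D.IHyp) : ed Gen.e V_267 = V_268 :=
  rfl
theorem F_701 (IH : D.IHyp) : ed Gen.d V_268 = V_269 :=
  rfl
theorem F_703 (IH : D.IHyp) : ed Gen.b V_269 = V_270 :=
  rfl
theorem F_705 (IH : D.IHyp) : ed Gen.c V_270 = V_271 :=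
  rfl
theorem F_707 (IH : D.IHyp) : ed Gen.d V_271 = V_272 :=
  rfl
theorem F_709 (IH : D.IHyp) : ed Gen.i V_272 = V_273 :=
  rfl
theorem F_711 (IH : D.IHyp) : ed Gen.h V_273 = V_274 :=
  rfl
theorem F_713 (IH : D.IHyp) : ed Gen.d V_274 = V_275 :=
  rfl
theorem F_715 (IH : D.IHyp) : ed Gen.f V_275 = V_276 :=
  rfl
theorem F_717 (IH : D.IHyp) : ed Gen.e V_276 = V_277 :=
  rfl
theorem F_719 (IH : D.IHyp) : ed Gen.d V_277 = V_278 :=
  rfl
theorem F_720 (IH : D.IHyp) : ed Gen.d V_278 = V_277 :=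
  flipE D.rels D.S (hinv Gen.d) (F_719 IH)
theorem F_721 (IH : D.IHyp) : ed Gen.b V_278 = V_279 :=
  rfl
theorem F_722 (IH : D.IHyp) : ed Gen.b V_279 = V_278 :=
  flipE D.rels D.S (hinv Gen.b) (F_721 IH)
theorem F_723 (IH : D.IHyp) : ed Gen.c V_279 = V_280 :=
  rfl
theorem F_724 (IH : D.IHyp) : ed Gen.c V_280 = V_279 :=
  flipE D.rels D.S (hinv Gen.c) (F_723 IH)
theorem F_725 (IH : D.IHyp) : ed Gen.d V_280 = V_281 :=
  rfl
theorem F_726 (IH : D.IHyp) : ed Gen.d V_281 = V_280 :=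
  flipE D.rels D.S (hinv Gen.d) (F_725 IH)
theorem F_727 (IH : D.IHyp) : ed Gen.i V_281 = V_282 :=
  rfl
theorem F_728 (IH : D.IHyp) : ed Gen.i V_282 = V_281 :=
  flipE D.rels D.S (hinv Gen.i) (F_727 IH)
theorem F_729 (IH : D.IHyp) : ed Gen.h V_282 = V_283 :=
  rfl
theorem F_730 (IH : D.IHyp) : ed Gen.h V_283 = V_282 :=
  flipE D.rels D.S (hinv Gen.h) (F_729 IH)
theorem F_731 (IH : D.IHyp) : ed Gen.d V_283 = V_284 :=
  rfl
theorem F_732 (IH : D.IHyp) : ed Gen.d V_284 = V_283 :=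
  flipE D.rels D.S (hinv Gen.d) (F_731 IH)
theorem F_733 (IH : D.IHyp) : ed Gen.f V_284 = V_248 :=
  gap_rel RW_16 (path_edge (F_731 IH) (path_edge (F_729 IH) (path_edge (F_727 IH) (path_edge (F_725 IH) (path_edge (F_723 IH) (path_edge (F_721 IH) (path_edge (F_719 IH) (path_edge (F_717 IH) (path_edge (F_715 IH) (path_edge (F_713 IH) (path_edge (F_711 IH) (path_edge (F_709 IH) (path_edge (F_707 IH) (path_edge (F_705 IH) (path_edge (F_703 IH) (path_edge (F_701 IH) (path_edge (F_699 IH) (path_edge (F_697 IH) (path_edge (F_695 IH) (path_edge (F_693 IH) (path_edge (F_691 IH) (path_edge (F_689 IH) (path_edge (F_687 IH) (path_edge (F_685 IH) (path_edge (F_683 IH) (path_edge (F_681 IH) (path_edge (F_679 IH) (path_edge (F_677 IH) (path_edge (F_675 IH) (path_edge (F_674 IH) (path_edge (F_672 IH) (path_edge (F_669 IH) (path_edge (F_667 IH) (path_edge (F_665 IH) (path_edge (F_515 IH) (path_edge (F_78 IH) (path_edge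 (F_77 IH) (path_edge (F_76 IH) (path_edge (F_75 IH) (path_edge (F_74 IH) (path_edge (F_73 IH) (path_edge (F_72 IH) (path_edge (F_71 IH) (path_edge (F_70 IH) (path_edge (F_69 IH) (path_edge (F_68 IH) (path_edge (F_67 IH) (path_edge (F_66 IH) (path_edge (F_65 IH) (path_edge (F_64 IH) (path_edge (F_63 IH) (path_edge (F_62 IH) (path_edge (F_61 IH) (path_edge (F_60 IH) (path_edge (F_59 IH) (path_edge (F_58 IH) (path_edge (F_57 IH) (path_edge (F_56 IH) (path_edge (F_55 IH) (path_edge (F_54 IH) (path_edge (F_53 IH) (path_edge (F_52 IH) (path_edge (F_51 IH) (path_edge (F_50 IH) (path_edge (F_49 IH) (path_edge (F_48 IH) (path_edge (F_47 IH) (path_edge (F_46 IH) (path_edge (F_45 IH) (path_edge (F_44 IH) (path_edge (F_43 IH) (path_edge (F_42 IH) (path_edge (F_41 IH) (path_edge (F_40 IH) (path_edge (F_39 IH) (path_edge (F_38 IH) (path_edge (F_37 IH) (path_edge (F_36 IH) (path_edge (F_33 IH) (path_edge (F_35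 IH) (path_edge (F_34 IH) (path_edge (F_33 IH) (path_edge (F_32 IH) (path_edge (F_31 IH) (path_edge (F_28 IH) (path_edge (F_1 IH) (path_edge (F_20 IH) (path_edge (F_113 IH) (path_edge (F_494 IH) (path_nil _))))))))))))))))))))))))))))))))))))))))))))))))))))))))))))))))))))))))))))))))))))))))))
theorem F_734 (IH : D.IHyp) : ed Gen.f V_248 = V_284 :=
  flipE D.rels D.S (hinv Gen.f) (F_733 IH)
theorem F_737 (IH : D.IHyp) : ed Gen.f V_283 = V_249 :=
  gap_rel RW_17 (path_edge (F_732 IH) (path_edge (F_734 IH) (path_edge (F_498 IH) (path_nil _))))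
theorem F_738 (IH : D.IHyp) : ed Gen.f V_249 = V_283 :=
  flipE D.rels D.S (hinv Gen.f) (F_737 IH)
theorem F_743 (IH : D.IHyp) : ed Gen.c V_283 = V_283 :=
  gap_rel RW_18 (path_edge (F_738 IH) (path_edge (F_508 IH) (path_edge (F_737 IH) (path_nil _))))
theorem F_744 (IH : D.IHyp) : ed Gen.c V_282 = V_282 :=
  gap_rel RW_19 (path_edge (F_730 IH) (path_edge (F_743 IH) (path_edge (F_729 IH) (path_nil _))))
theorem F_747 (IH : D.IHyp) : ed Gen.c V_281 = V_281 :=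
  gap_rel RW_20 (path_edge (F_728 IH) (path_edge (F_744 IH) (path_edge (F_727 IH) (path_nil _))))
theorem F_749 (IH : D.IHyp) : ed Gen.d V_279 = V_279 :=
  gap_rel RW_21 (path_edge (F_724 IH) (path_edge (F_726 IH) (path_edge (F_747 IH) (path_edge (F_725 IH) (path_edge (F_723 IH) (path_nil _))))))
theorem F_751 (IH : D.IHyp) : ed Gen.b V_277 = V_279 :=
  gap_rel RW_4 (path_edge (F_720 IH) (path_edge (F_722 IH) (path_edge (F_749 IH) (path_nil _))))
theorem F_761 (IH : D.IHyp) : ed Gen.b (D.P 208) = V_285 :=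
  rfl
theorem F_762 (IH : D.IHyp) : ed Gen.b V_285 = (D.P 208) :=
  flipE D.rels D.S (hinv Gen.b) (F_761 IH)
theorem F_763 (IH : D.IHyp) : ed Gen.d V_285 = V_285 :=
  gap_rel RW_22 (path_edge (F_761 IH) (path_edge (F_617 IH) (path_edge (F_762 IH) (path_nil _))))
theorem F_764 (IH : D.IHyp) : ed Gen.h (D.P 208) = (D.P 224) :=
  D.real_edge' IH Gen.h 208 224 (by decide +kernel)
theorem F_766 (IH : D.IHyp) : ed Gen.c (D.P 208) = (D.P 186) :=
  D.real_edge' IH Gen.c 208 186 (by decide +kernel)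
theorem F_773 (IH : D.IHyp) : ed Gen.i (D.P 197) = (D.P 208) :=
  D.real_edge' IH Gen.i 197 208 (by decide +kernel)
theorem F_781 (IH : D.IHyp) : ed Gen.c (D.P 224) = (D.P 206) :=
  D.real_edge' IH Gen.c 224 206 (by decide +kernel)
theorem F_783 (IH : D.IHyp) : ed Gen.f (D.P 224) = (D.P 238) :=
  D.real_edge' IH Gen.f 224 238 (by decide +kernel)
theorem F_784 (IH : D.IHyp) : ed Gen.c (D.P 197) = (D.P 173) :=
  D.real_edge' IH Gen.c 197 173 (by decide +kernel)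
theorem F_790 (IH : D.IHyp) : ed Gen.b (D.P 193) = (D.P 214) :=
  D.real_edge' IH Gen.b 193 214 (by decide +kernel)
theorem F_791 (IH : D.IHyp) : ed Gen.b (D.P 214) = (D.P 193) :=
  D.real_edge' IH Gen.b 214 193 (by decide +kernel)
theorem F_792 (IH : D.IHyp) : ed Gen.c (D.P 193) = (D.P 168) :=
  D.real_edge' IH Gen.c 193 168 (by decide +kernel)
theorem F_793 (IH : D.IHyp) : ed Gen.b (D.P 168) = (D.P 186) :=
  D.real_edge' IH Gen.b 168 186 (by decide +kernel)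
theorem F_794 (IH : D.IHyp) : ed Gen.c V_285 = (D.P 214) :=
  gap_rel RW_3 (path_edge (F_761 IH) (path_edge (F_111 IH) (path_edge (F_793 IH) (path_edge (F_792 IH) (path_edge (F_791 IH) (path_nil _))))))
theorem F_795 (IH : D.IHyp) : ed Gen.c (D.P 214) = V_285 :=
  flipE D.rels D.S (hinv Gen.c) (F_794 IH)
theorem F_796 (IH : D.IHyp) : ed Gen.d (D.P 186) = (D.P 162) :=
  D.real_edge' IH Gen.d 186 162 (by decide +kernel)
theorem F_801 (IH : D.IHyp) : ed Gen.i (D.P 162) = (D.P 148) :=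
  D.real_edge' IH Gen.i 162 148 (by decide +kernel)
theorem F_802 (IH : D.IHyp) : ed Gen.h (D.P 148) = (D.P 122) :=
  D.real_edge' IH Gen.h 148 122 (by decide +kernel)
theorem F_803 (IH : D.IHyp) : ed Gen.f (D.P 122) = (D.P 147) :=
  D.real_edge' IH Gen.f 122 147 (by decide +kernel)
theorem F_804 (IH : D.IHyp) : ed Gen.b (D.P 147) = (D.P 124) :=
  D.real_edge' IH Gen.b 147 124 (by decide +kernel)
theorem F_805 (IH : D.IHyp) : ed Gen.c (D.P 124) = (D.P 103) :=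
  D.real_edge' IH Gen.c 124 103 (by decide +kernel)
theorem F_806 (IH : D.IHyp) : ed Gen.d (D.P 103) = (D.P 84) :=
  D.real_edge' IH Gen.d 103 84 (by decide +kernel)
theorem F_807 (IH : D.IHyp) : ed Gen.i (D.P 84) = (D.P 65) :=
  D.real_edge' IH Gen.i 84 65 (by decide +kernel)
theorem F_808 (IH : D.IHyp) : ed Gen.f (D.P 81) = (D.P 63) :=
  D.real_edge' IH Gen.f 81 63 (by decide +kernel)
theorem F_809 (IH : D.IHyp) : ed Gen.e (D.P 63) = (D.P 48) :=
  D.real_edge' IH Gen.e 63 48 (by decide +kernel)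
theorem F_810 (IH : D.IHyp) : ed Gen.d (D.P 48) = (D.P 38) :=
  D.real_edge' IH Gen.d 48 38 (by decide +kernel)
theorem F_811 (IH : D.IHyp) : ed Gen.c (D.P 38) = (D.P 33) :=
  D.real_edge' IH Gen.c 38 33 (by decide +kernel)
theorem F_812 (IH : D.IHyp) : ed Gen.d (D.P 33) = (D.P 43) :=
  D.real_edge' IH Gen.d 33 43 (by decide +kernel)
theorem F_813 (IH : D.IHyp) : ed Gen.i (D.P 43) = (D.P 56) :=
  D.real_edge' IH Gen.i 43 56 (by decide +kernel)
theorem F_814 (IH : D.IHyp) : ed Gen.h (D.P 56) = (D.P 72) :=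
  D.real_edge' IH Gen.h 56 72 (by decide +kernel)
theorem F_815 (IH : D.IHyp) : ed Gen.b (D.P 72) = (D.P 59) :=
  D.real_edge' IH Gen.b 72 59 (by decide +kernel)
theorem F_816 (IH : D.IHyp) : ed Gen.c (D.P 59) = (D.P 74) :=
  D.real_edge' IH Gen.c 59 74 (by decide +kernel)
theorem F_818 (IH : D.IHyp) : ed Gen.e (D.P 143) = (D.P 118) :=
  D.real_edge' IH Gen.e 143 118 (by decide +kernel)
theorem F_825 (IH : D.IHyp) : ed Gen.h (D.P 153) = (D.P 129) :=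
  D.real_edge' IH Gen.h 153 129 (by decide +kernel)
theorem F_862 (IH : D.IHyp) : ed Gen.e (D.P 171) = (D.P 171) :=
  D.real_edge' IH Gen.e 171 171 (by decide +kernel)
theorem F_894 (IH : D.IHyp) : ed Gen.e V_285 = V_286 :=
  rfl
theorem F_895 (IH : D.IHyp) : ed Gen.e V_286 = V_285 :=
  flipE D.rels D.S (hinv Gen.e) (F_894 IH)
theorem F_896 (IH : D.IHyp) : ed Gen.f V_286 = V_287 :=
  rfl
theorem F_897 (IH : D.IHyp) : ed Gen.f V_287 = V_286 :=
  flipE D.rels D.S (hinv Gen.f) (F_896 IH)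
theorem F_898 (IH : D.IHyp) : ed Gen.d V_287 = V_288 :=
  rfl
theorem F_899 (IH : D.IHyp) : ed Gen.d V_288 = V_287 :=
  flipE D.rels D.S (hinv Gen.d) (F_898 IH)
theorem F_900 (IH : D.IHyp) : ed Gen.h V_288 = V_289 :=
  rfl
theorem F_901 (IH : D.IHyp) : ed Gen.h V_289 = V_288 :=
  flipE D.rels D.S (hinv Gen.h) (F_900 IH)
theorem F_902 (IH : D.IHyp) : ed Gen.i V_289 = V_290 :=
  rfl
theorem F_903 (IH : D.IHyp) : ed Gen.i V_290 = V_289 :=
  flipE D.rels D.S (hinv Gen.i) (F_902 IH)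
theorem F_904 (IH : D.IHyp) : ed Gen.d V_290 = V_291 :=
  rfl
theorem F_905 (IH : D.IHyp) : ed Gen.d V_291 = V_290 :=
  flipE D.rels D.S (hinv Gen.d) (F_904 IH)
theorem F_906 (IH : D.IHyp) : ed Gen.c V_291 = V_292 :=
  rfl
theorem F_907 (IH : D.IHyp) : ed Gen.c V_292 = V_291 :=
  flipE D.rels D.S (hinv Gen.c) (F_906 IH)
theorem F_908 (IH : D.IHyp) : ed Gen.b V_292 = V_293 :=
  rfl
theorem F_909 (IH : D.IHyp) : ed Gen.b V_293 = V_292 :=
  flipE D.rels D.S (hinv Gen.b) (F_908 IH)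
theorem F_910 (IH : D.IHyp) : ed Gen.d V_293 = V_294 :=
  rfl
theorem F_911 (IH : D.IHyp) : ed Gen.d V_294 = V_293 :=
  flipE D.rels D.S (hinv Gen.d) (F_910 IH)
theorem F_912 (IH : D.IHyp) : ed Gen.e V_294 = V_295 :=
  rfl
theorem F_913 (IH : D.IHyp) : ed Gen.e V_295 = V_294 :=
  flipE D.rels D.S (hinv Gen.e) (F_912 IH)
theorem F_914 (IH : D.IHyp) : ed Gen.f V_295 = V_296 :=
  rfl
theorem F_915 (IH : D.IHyp) : ed Gen.f V_296 = V_295 :=
  flipE D.rels D.S (hinv Gen.f) (F_914 IH)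
theorem F_916 (IH : D.IHyp) : ed Gen.d V_296 = V_297 :=
  rfl
theorem F_917 (IH : D.IHyp) : ed Gen.d V_297 = V_296 :=
  flipE D.rels D.S (hinv Gen.d) (F_916 IH)
theorem F_918 (IH : D.IHyp) : ed Gen.h V_297 = V_298 :=
  rfl
theorem F_919 (IH : D.IHyp) : ed Gen.h V_298 = V_297 :=
  flipE D.rels D.S (hinv Gen.h) (F_918 IH)
theorem F_920 (IH : D.IHyp) : ed Gen.i V_298 = V_299 :=
  rfl
theorem F_921 (IH : D.IHyp) : ed Gen.i V_299 = V_298 :=
  flipE D.rels D.S (hinv Gen.i) (F_920 IH)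
theorem F_922 (IH : D.IHyp) : ed Gen.d V_299 = V_300 :=
  rfl
theorem F_923 (IH : D.IHyp) : ed Gen.d V_300 = V_299 :=
  flipE D.rels D.S (hinv Gen.d) (F_922 IH)
theorem F_924 (IH : D.IHyp) : ed Gen.c V_300 = V_301 :=
  rfl
theorem F_925 (IH : D.IHyp) : ed Gen.c V_301 = V_300 :=
  flipE D.rels D.S (hinv Gen.c) (F_924 IH)
theorem F_926 (IH : D.IHyp) : ed Gen.b V_301 = V_302 :=
  rfl
theorem F_927 (IH : D.IHyp) : ed Gen.b V_302 = V_301 :=
  flipE D.rels D.S (hinv Gen.b) (F_926 IH)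
theorem F_928 (IH : D.IHyp) : ed Gen.d V_302 = V_303 :=
  rfl
theorem F_929 (IH : D.IHyp) : ed Gen.d V_303 = V_302 :=
  flipE D.rels D.S (hinv Gen.d) (F_928 IH)
theorem F_930 (IH : D.IHyp) : ed Gen.e V_303 = V_304 :=
  rfl
theorem F_931 (IH : D.IHyp) : ed Gen.e V_304 = V_303 :=
  flipE D.rels D.S (hinv Gen.e) (F_930 IH)
theorem F_932 (IH : D.IHyp) : ed Gen.f V_304 = V_305 :=
  rfl
theorem F_933 (IH : D.IHyp) : ed Gen.f V_305 = V_304 :=
  flipE D.rels D.S (hinv Gen.f) (F_932 IH)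
theorem F_934 (IH : D.IHyp) : ed Gen.d V_305 = V_306 :=
  rfl
theorem F_935 (IH : D.IHyp) : ed Gen.d V_306 = V_305 :=
  flipE D.rels D.S (hinv Gen.d) (F_934 IH)
theorem F_936 (IH : D.IHyp) : ed Gen.h V_306 = V_307 :=
  rfl
theorem F_937 (IH : D.IHyp) : ed Gen.h V_307 = V_306 :=
  flipE D.rels D.S (hinv Gen.h) (F_936 IH)
theorem F_938 (IH : D.IHyp) : ed Gen.i V_307 = V_308 :=
  rfl
theorem F_939 (IH : D.IHyp) : ed Gen.i V_308 = V_307 :=
  flipE D.rels D.S (hinv Gen.i) (F_938 IH)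
theorem F_940 (IH : D.IHyp) : ed Gen.d V_308 = V_309 :=
  rfl
theorem F_941 (IH : D.IHyp) : ed Gen.d V_309 = V_308 :=
  flipE D.rels D.S (hinv Gen.d) (F_940 IH)
theorem F_942 (IH : D.IHyp) : ed Gen.c V_309 = V_310 :=
  rfl
theorem F_943 (IH : D.IHyp) : ed Gen.c V_310 = V_309 :=
  flipE D.rels D.S (hinv Gen.c) (F_942 IH)
theorem F_944 (IH : D.IHyp) : ed Gen.b V_310 = V_311 :=
  rfl
theorem F_945 (IH : D.IHyp) : ed Gen.b V_311 = V_310 :=
  flipE D.rels D.S (hinv Gen.b) (F_944 IH)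
theorem F_946 (IH : D.IHyp) : ed Gen.d V_311 = V_312 :=
  rfl
theorem F_947 (IH : D.IHyp) : ed Gen.d V_312 = V_311 :=
  flipE D.rels D.S (hinv Gen.d) (F_946 IH)
theorem F_948 (IH : D.IHyp) : ed Gen.e V_312 = V_313 :=
  rfl
theorem F_949 (IH : D.IHyp) : ed Gen.e V_313 = V_312 :=
  flipE D.rels D.S (hinv Gen.e) (F_948 IH)
theorem F_950 (IH : D.IHyp) : ed Gen.f V_313 = V_314 :=
  rfl
theorem F_951 (IH : D.IHyp) : ed Gen.f V_314 = V_313 :=
  flipE D.rels D.S (hinv Gen.f) (F_950 IH)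
theorem F_952 (IH : D.IHyp) : ed Gen.d V_314 = V_315 :=
  rfl
theorem F_953 (IH : D.IHyp) : ed Gen.d V_315 = V_314 :=
  flipE D.rels D.S (hinv Gen.d) (F_952 IH)
theorem F_954 (IH : D.IHyp) : ed Gen.h V_315 = V_316 :=
  rfl
theorem F_955 (IH : D.IHyp) : ed Gen.h V_316 = V_315 :=
  flipE D.rels D.S (hinv Gen.h) (F_954 IH)
theorem F_956 (IH : D.IHyp) : ed Gen.i V_316 = V_317 :=
  rfl
theorem F_957 (IH : D.IHyp) : ed Gen.i V_317 = V_316 :=
  flipE D.rels D.S (hinv Gen.i) (F_956 IH)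
theorem F_958 (IH : D.IHyp) : ed Gen.d V_317 = V_318 :=
  rfl
theorem F_959 (IH : D.IHyp) : ed Gen.d V_318 = V_317 :=
  flipE D.rels D.S (hinv Gen.d) (F_958 IH)
theorem F_960 (IH : D.IHyp) : ed Gen.c V_318 = V_319 :=
  rfl
theorem F_961 (IH : D.IHyp) : ed Gen.c V_319 = V_318 :=
  flipE D.rels D.S (hinv Gen.c) (F_960 IH)
theorem F_962 (IH : D.IHyp) : ed Gen.b V_319 = V_320 :=
  rfl
theorem F_963 (IH : D.IHyp) : ed Gen.b V_320 = V_319 :=
  flipE D.rels D.S (hinv Gen.b) (F_962 IH)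
theorem F_964 (IH : D.IHyp) : ed Gen.d V_320 = V_321 :=
  rfl
theorem F_965 (IH : D.IHyp) : ed Gen.d V_321 = V_320 :=
  flipE D.rels D.S (hinv Gen.d) (F_964 IH)
theorem F_966 (IH : D.IHyp) : ed Gen.e V_321 = V_322 :=
  rfl
theorem F_967 (IH : D.IHyp) : ed Gen.e V_322 = V_321 :=
  flipE D.rels D.S (hinv Gen.e) (F_966 IH)
theorem F_968 (IH : D.IHyp) : ed Gen.f V_322 = V_323 :=
  rfl
theorem F_969 (IH : D.IHyp) : ed Gen.f V_323 = V_322 :=
  flipE D.rels D.S (hinv Gen.f) (F_968 IH)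
theorem F_970 (IH : D.IHyp) : ed Gen.d V_323 = V_324 :=
  rfl
theorem F_971 (IH : D.IHyp) : ed Gen.d V_324 = V_323 :=
  flipE D.rels D.S (hinv Gen.d) (F_970 IH)
theorem F_972 (IH : D.IHyp) : ed Gen.h V_324 = V_325 :=
  rfl
theorem F_973 (IH : D.IHyp) : ed Gen.h V_325 = V_324 :=
  flipE D.rels D.S (hinv Gen.h) (F_972 IH)
theorem F_974 (IH : D.IHyp) : ed Gen.i V_325 = V_326 :=
  rfl
theorem F_975 (IH : D.IHyp) : ed Gen.i V_326 = V_325 :=
  flipE D.rels D.S (hinv Gen.i) (F_974 IH)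
theorem F_976 (IH : D.IHyp) : ed Gen.d V_326 = V_327 :=
  rfl
theorem F_977 (IH : D.IHyp) : ed Gen.d V_327 = V_326 :=
  flipE D.rels D.S (hinv Gen.d) (F_976 IH)
theorem F_978 (IH : D.IHyp) : ed Gen.c V_327 = V_328 :=
  rfl
theorem F_979 (IH : D.IHyp) : ed Gen.c V_328 = V_327 :=
  flipE D.rels D.S (hinv Gen.c) (F_978 IH)
theorem F_980 (IH : D.IHyp) : ed Gen.b V_328 = V_329 :=
  rfl
theorem F_981 (IH : D.IHyp) : ed Gen.b V_329 = V_328 :=
  flipE D.rels D.S (hinv Gen.b) (F_980 IH)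
theorem F_982 (IH : D.IHyp) : ed Gen.d V_329 = V_330 :=
  rfl
theorem F_983 (IH : D.IHyp) : ed Gen.d V_330 = V_329 :=
  flipE D.rels D.S (hinv Gen.d) (F_982 IH)
theorem F_984 (IH : D.IHyp) : ed Gen.e (D.P 174) = V_330 :=
  gap_rel RW_23 (path_edge (F_180 IH) (path_edge (F_186 IH) (path_edge (F_178 IH) (path_edge (F_116 IH) (path_edge (F_112 IH) (path_edge (F_0 IH) (path_edge (F_15 IH) (path_edge (F_82 IH) (path_edge (F_80 IH) (path_edge (F_81 IH) (path_edge (F_79 IH) (path_edge (F_83 IH) (path_edge (F_84 IH) (path_edge (F_82 IH) (path_edge (F_816 IH) (path_edge (F_815 IH) (path_edge (F_87 IH) (path_edge (F_88 IH) (path_edge (F_89 IH) (path_edge (F_87 IH) (path_edge (F_814 IH) (path_edge (F_813 IH) (path_edge (F_812 IH) (path_edge (F_811 IH) (path_edge (F_94 IH) (path_edge (F_810 IH) (path_edge (F_809 IH) (path_edge (F_808 IH) (path_edge (F_136 IH) (path_edge (F_99 IH) (path_edge (F_807 IH) (path_edge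 (F_806 IH) (path_edge (F_805 IH) (path_edge (F_804 IH) (path_edge (F_104 IH) (path_edge (F_105 IH) (path_edge (F_803 IH) (path_edge (F_107 IH) (path_edge (F_802 IH) (path_edge (F_801 IH) (path_edge (F_796 IH) (path_edge (F_766 IH) (path_edge (F_762 IH) (path_edge (F_763 IH) (path_edge (F_895 IH) (path_edge (F_897 IH) (path_edge (F_899 IH) (path_edge (F_901 IH) (path_edge (F_903 IH) (path_edge (F_905 IH) (path_edge (F_907 IH) (path_edge (F_909 IH) (path_edge (F_911 IH) (path_edge (F_913 IH) (path_edge (F_915 IH) (path_edge (F_917 IH) (path_edge (F_919 IH) (path_edge (F_921 IH) (path_edge (F_923 IH) (path_edge (F_925 IH) (path_edge (F_927 IH) (path_edge (F_929 IH) (path_edge (F_931 IH) (path_edge (F_933 IH) (path_edge (F_935 IH) (path_edge (F_937 IH) (path_edge (F_939 IH) (path_edge (F_941 IH) (path_edge (F_943 IH) (path_edge (F_945 IH) (path_edge (F_947 IH) (path_edge (F_949 IH) (path_edge (F_951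 IH) (path_edge (F_953 IH) (path_edge (F_955 IH) (path_edge (F_957 IH) (path_edge (F_959 IH) (path_edge (F_961 IH) (path_edge (F_963 IH) (path_edge (F_965 IH) (path_edge (F_967 IH) (path_edge (F_969 IH) (path_edge (F_971 IH) (path_edge (F_973 IH) (path_edge (F_975 IH) (path_edge (F_977 IH) (path_edge (F_979 IH) (path_edge (F_981 IH) (path_edge (F_983 IH) (path_nil _))))))))))))))))))))))))))))))))))))))))))))))))))))))))))))))))))))))))))))))))))))))))))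
theorem F_985 (IH : D.IHyp) : ed Gen.e V_330 = (D.P 174) :=
  flipE D.rels D.S (hinv Gen.e) (F_984 IH)
theorem F_986 (IH : D.IHyp) : ed Gen.b V_330 = V_330 :=
  gap_rel RW_7 (path_edge (F_984 IH) (path_edge (F_181 IH) (path_edge (F_985 IH) (path_nil _))))
theorem F_987 (IH : D.IHyp) : ed Gen.e (D.P 175) = (D.P 149) :=
  D.real_edge' IH Gen.e 175 149 (by decide +kernel)
theorem F_988 (IH : D.IHyp) : ed Gen.c V_330 = (D.P 175) :=
  gap_rel RW_10 (path_edge (F_984 IH) (path_edge (F_176 IH) (path_edge (F_987 IH) (path_nil _))))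
theorem F_990 (IH : D.IHyp) : ed Gen.i (D.P 175) = (D.P 188) :=
  D.real_edge' IH Gen.i 175 188 (by decide +kernel)
theorem F_991 (IH : D.IHyp) : ed Gen.d V_328 = V_330 :=
  gap_rel RW_22 (path_edge (F_981 IH) (path_edge (F_983 IH) (path_edge (F_986 IH) (path_nil _))))
theorem F_992 (IH : D.IHyp) : ed Gen.d V_330 = V_328 :=
  flipE D.rels D.S (hinv Gen.d) (F_991 IH)
theorem F_993 (IH : D.IHyp) : V_329 = V_328 :=
  edge_fun (F_983 IH) (F_992 IH)
theorem F_995 (IH : D.IHyp) : ed Gen.d V_328 = V_330 :=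
  edge_congr (F_982 IH) (F_993 IH)
theorem F_996 (IH : D.IHyp) : ed Gen.d V_330 = V_328 :=
  flipE D.rels D.S (hinv Gen.d) (F_995 IH)
theorem F_997 (IH : D.IHyp) : ed Gen.h V_248 = V_330 :=
  gap_rel RW_8 (path_edge (F_493 IH) (path_edge (F_177 IH) (path_edge (F_985 IH) (path_nil _))))
theorem F_998 (IH : D.IHyp) : ed Gen.h V_330 = V_248 :=
  flipE D.rels D.S (hinv Gen.h) (F_997 IH)
theorem F_1000 (IH : D.IHyp) : ed Gen.d (D.P 175) = (D.P 198) :=
  D.real_edge' IH Gen.d 175 198 (by decide +kernel)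
theorem F_1001 (IH : D.IHyp) : ed Gen.c (D.P 198) = V_326 :=
  gap_rel RW_6 (path_edge (F_1000 IH) (path_edge (F_988 IH) (path_edge (F_991 IH) (path_edge (F_978 IH) (path_edge (F_976 IH) (path_nil _))))))
theorem F_1005 (IH : D.IHyp) : ed Gen.h (D.P 209) = (D.P 225) :=
  D.real_edge' IH Gen.h 209 225 (by decide +kernel)
theorem F_1048 (IH : D.IHyp) : ed Gen.d (D.P 209) = (D.P 188) :=
  D.real_edge' IH Gen.d 209 188 (by decide +kernel)
theorem F_1054 (IH : D.IHyp) : ed Gen.i (D.P 209) = (D.P 198) :=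
  D.real_edge' IH Gen.i 209 198 (by decide +kernel)
theorem F_1064 (IH : D.IHyp) : ed Gen.f (D.P 100) = (D.P 79) :=
  D.real_edge' IH Gen.f 100 79 (by decide +kernel)
theorem F_1076 (IH : D.IHyp) : ed Gen.c (D.P 70) = (D.P 57) :=
  D.real_edge' IH Gen.c 70 57 (by decide +kernel)
theorem F_1110 (IH : D.IHyp) : ed Gen.e V_326 = (D.P 197) :=
  gap_rel RW_24 (path_edge (F_1001 IH) (path_edge (F_352 IH) (path_edge (F_784 IH) (path_nil _))))
theorem F_1113 (IH : D.IHyp) : ed Gen.c V_325 = (D.P 209) :=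
  gap_rel RW_20 (path_edge (F_975 IH) (path_edge (F_1001 IH) (path_edge (F_1054 IH) (path_nil _))))
theorem F_1121 (IH : D.IHyp) : ed Gen.h (D.P 225) = (D.P 209) :=
  D.real_edge' IH Gen.h 225 209 (by decide +kernel)
theorem F_1166 (IH : D.IHyp) : ed Gen.e (D.P 208) = V_325 :=
  gap_rel RW_25 (path_edge (F_773 IH) (path_edge (F_1110 IH) (path_edge (F_974 IH) (path_nil _))))
theorem F_1167 (IH : D.IHyp) : ed Gen.e V_325 = (D.P 208) :=
  flipE D.rels D.S (hinv Gen.e) (F_1166 IH)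
theorem F_1173 (IH : D.IHyp) : ed Gen.f (D.P 167) = (D.P 143) :=
  D.real_edge' IH Gen.f 167 143 (by decide +kernel)
theorem F_1202 (IH : D.IHyp) : ed Gen.c (D.P 225) = V_324 :=
  gap_rel RW_19 (path_edge (F_1005 IH) (path_edge (F_1113 IH) (path_edge (F_972 IH) (path_nil _))))
theorem F_1203 (IH : D.IHyp) : ed Gen.c V_324 = (D.P 225) :=
  flipE D.rels D.S (hinv Gen.c) (F_1202 IH)
theorem F_1204 (IH : D.IHyp) : ed Gen.e (D.P 224) = V_324 :=
  gap_rel RW_26 (path_edge (F_764 IH) (path_edge (F_1167 IH) (path_edge (F_972 IH) (path_nil _))))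
theorem F_1205 (IH : D.IHyp) : ed Gen.e V_324 = (D.P 224) :=
  flipE D.rels D.S (hinv Gen.e) (F_1204 IH)
theorem F_1230 (IH : D.IHyp) : ed Gen.i (D.P 57) = (D.P 73) :=
  D.real_edge' IH Gen.i 57 73 (by decide +kernel)
theorem F_1253 (IH : D.IHyp) : ed Gen.d (D.P 165) = (D.P 142) :=
  D.real_edge' IH Gen.d 165 142 (by decide +kernel)
theorem F_1276 (IH : D.IHyp) : ed Gen.d (D.P 131) = (D.P 131) :=
  D.real_edge' IH Gen.d 131 131 (by decide +kernel)
theorem F_1278 (IH : D.IHyp) : ed Gen.h (D.P 131) = (D.P 131) :=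
  D.real_edge' IH Gen.h 131 131 (by decide +kernel)
theorem F_1315 (IH : D.IHyp) : ed Gen.b (D.P 223) = (D.P 211) :=
  D.real_edge' IH Gen.b 223 211 (by decide +kernel)
theorem F_1322 (IH : D.IHyp) : ed Gen.d (D.P 222) = (D.P 237) :=
  D.real_edge' IH Gen.d 222 237 (by decide +kernel)
theorem F_1330 (IH : D.IHyp) : ed Gen.d (D.P 206) = (D.P 184) :=
  D.real_edge' IH Gen.d 206 184 (by decide +kernel)
theorem F_1348 (IH : D.IHyp) : ed Gen.h (D.P 184) = (D.P 160) :=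
  D.real_edge' IH Gen.h 184 160 (by decide +kernel)
theorem F_1349 (IH : D.IHyp) : ed Gen.f (D.P 138) = (D.P 161) :=
  D.real_edge' IH Gen.f 138 161 (by decide +kernel)
theorem F_1350 (IH : D.IHyp) : ed Gen.d (D.P 161) = (D.P 183) :=
  D.real_edge' IH Gen.d 161 183 (by decide +kernel)
theorem F_1351 (IH : D.IHyp) : ed Gen.b (D.P 183) = (D.P 165) :=
  D.real_edge' IH Gen.b 183 165 (by decide +kernel)
theorem F_1352 (IH : D.IHyp) : ed Gen.i (D.P 142) = (D.P 116) :=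
  D.real_edge' IH Gen.i 142 116 (by decide +kernel)
theorem F_1353 (IH : D.IHyp) : ed Gen.h (D.P 116) = (D.P 100) :=
  D.real_edge' IH Gen.h 116 100 (by decide +kernel)
theorem F_1354 (IH : D.IHyp) : ed Gen.e (D.P 79) = (D.P 62) :=
  D.real_edge' IH Gen.e 79 62 (by decide +kernel)
theorem F_1355 (IH : D.IHyp) : ed Gen.b (D.P 55) = (D.P 70) :=
  D.real_edge' IH Gen.b 55 70 (by decide +kernel)
theorem F_1357 (IH : D.IHyp) : ed Gen.h (D.P 211) = (D.P 192) :=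
  D.real_edge' IH Gen.h 211 192 (by decide +kernel)
theorem F_1374 (IH : D.IHyp) : ed Gen.c (D.P 237) = V_331 :=
  rfl
theorem F_1375 (IH : D.IHyp) : ed Gen.c V_331 = (D.P 237) :=
  flipE D.rels D.S (hinv Gen.c) (F_1374 IH)
theorem F_1377 (IH : D.IHyp) : ed Gen.f (D.P 237) = (D.P 237) :=
  D.real_edge' IH Gen.f 237 237 (by decide +kernel)
theorem F_1378 (IH : D.IHyp) : ed Gen.h (D.P 237) = (D.P 237) :=
  D.real_edge' IH Gen.h 237 237 (by decide +kernel)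
theorem F_1379 (IH : D.IHyp) : ed Gen.i (D.P 237) = (D.P 237) :=
  D.real_edge' IH Gen.i 237 237 (by decide +kernel)
theorem F_1380 (IH : D.IHyp) : ed Gen.f V_331 = V_331 :=
  gap_rel RW_0 (path_edge (F_1374 IH) (path_edge (F_1377 IH) (path_edge (F_1375 IH) (path_nil _))))
theorem F_1381 (IH : D.IHyp) : ed Gen.h V_331 = V_331 :=
  gap_rel RW_1 (path_edge (F_1374 IH) (path_edge (F_1378 IH) (path_edge (F_1375 IH) (path_nil _))))
theorem F_1382 (IH : D.IHyp) : ed Gen.i V_331 = V_331 :=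
  gap_rel RW_2 (path_edge (F_1374 IH) (path_edge (F_1379 IH) (path_edge (F_1375 IH) (path_nil _))))
theorem F_1383 (IH : D.IHyp) : ed Gen.d (D.P 237) = (D.P 222) :=
  D.real_edge' IH Gen.d 237 222 (by decide +kernel)
theorem F_1385 (IH : D.IHyp) : ed Gen.f (D.P 222) = (D.P 222) :=
  D.real_edge' IH Gen.f 222 222 (by decide +kernel)
theorem F_1387 (IH : D.IHyp) : ed Gen.c (D.P 222) = (D.P 233) :=
  D.real_edge' IH Gen.c 222 233 (by decide +kernel)
theorem F_1388 (IH : D.IHyp) : ed Gen.e (D.P 222) = (D.P 205) :=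
  D.real_edge' IH Gen.e 222 205 (by decide +kernel)
theorem F_1425 (IH : D.IHyp) : ed Gen.b (D.P 233) = (D.P 233) :=
  D.real_edge' IH Gen.b 233 233 (by decide +kernel)
theorem F_1433 (IH : D.IHyp) : ed Gen.d (D.P 219) = (D.P 232) :=
  D.real_edge' IH Gen.d 219 232 (by decide +kernel)
theorem F_1435 (IH : D.IHyp) : ed Gen.b (D.P 232) = (D.P 232) :=
  D.real_edge' IH Gen.b 232 232 (by decide +kernel)
theorem F_1439 (IH : D.IHyp) : ed Gen.d V_331 = V_332 :=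
  rfl
theorem F_1440 (IH : D.IHyp) : ed Gen.d V_332 = V_331 :=
  flipE D.rels D.S (hinv Gen.d) (F_1439 IH)
theorem F_1441 (IH : D.IHyp) : ed Gen.f V_332 = V_332 :=
  gap_rel RW_17 (path_edge (F_1439 IH) (path_edge (F_1380 IH) (path_edge (F_1440 IH) (path_nil _))))
theorem F_1442 (IH : D.IHyp) : ed Gen.i V_332 = V_332 :=
  gap_rel RW_5 (path_edge (F_1439 IH) (path_edge (F_1382 IH) (path_edge (F_1440 IH) (path_nil _))))
theorem F_1443 (IH : D.IHyp) : ed Gen.h V_332 = V_333 :=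
  rfl
theorem F_1444 (IH : D.IHyp) : ed Gen.h V_333 = V_332 :=
  flipE D.rels D.S (hinv Gen.h) (F_1443 IH)
theorem F_1445 (IH : D.IHyp) : ed Gen.f V_333 = V_333 :=
  gap_rel RW_27 (path_edge (F_1443 IH) (path_edge (F_1441 IH) (path_edge (F_1444 IH) (path_nil _))))
theorem F_1446 (IH : D.IHyp) : ed Gen.d V_333 = V_333 :=
  gap_rel RW_28 (path_edge (F_1443 IH) (path_edge (F_1439 IH) (path_edge (F_1381 IH) (path_edge (F_1440 IH) (path_edge (F_1444 IH) (path_nil _))))))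
theorem F_1447 (IH : D.IHyp) : ed Gen.e V_333 = V_334 :=
  rfl
theorem F_1448 (IH : D.IHyp) : ed Gen.e V_334 = V_333 :=
  flipE D.rels D.S (hinv Gen.e) (F_1447 IH)
theorem F_1449 (IH : D.IHyp) : ed Gen.d V_334 = V_335 :=
  rfl
theorem F_1450 (IH : D.IHyp) : ed Gen.d V_335 = V_334 :=
  flipE D.rels D.S (hinv Gen.d) (F_1449 IH)
theorem F_1451 (IH : D.IHyp) : ed Gen.e V_335 = V_335 :=
  gap_rel RW_29 (path_edge (F_1449 IH) (path_edge (F_1447 IH) (path_edge (F_1446 IH) (path_edge (F_1448 IH) (path_edge (F_1450 IH) (path_nil _))))))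
theorem F_1452 (IH : D.IHyp) : ed Gen.b V_335 = V_336 :=
  rfl
theorem F_1453 (IH : D.IHyp) : ed Gen.b V_336 = V_335 :=
  flipE D.rels D.S (hinv Gen.b) (F_1452 IH)
theorem F_1455 (IH : D.IHyp) : ed Gen.c V_336 = V_337 :=
  rfl
theorem F_1456 (IH : D.IHyp) : ed Gen.c V_337 = V_336 :=
  flipE D.rels D.S (hinv Gen.c) (F_1455 IH)
theorem F_1458 (IH : D.IHyp) : ed Gen.d V_337 = V_338 :=
  rfl
theorem F_1459 (IH : D.IHyp) : ed Gen.d V_338 = V_337 :=
  flipE D.rels D.S (hinv Gen.d) (F_1458 IH)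
theorem F_1460 (IH : D.IHyp) : ed Gen.i V_338 = V_339 :=
  rfl
theorem F_1461 (IH : D.IHyp) : ed Gen.i V_339 = V_338 :=
  flipE D.rels D.S (hinv Gen.i) (F_1460 IH)
theorem F_1462 (IH : D.IHyp) : ed Gen.h V_339 = V_340 :=
  rfl
theorem F_1463 (IH : D.IHyp) : ed Gen.h V_340 = V_339 :=
  flipE D.rels D.S (hinv Gen.h) (F_1462 IH)
theorem F_1464 (IH : D.IHyp) : ed Gen.d V_340 = V_341 :=
  rfl
theorem F_1465 (IH : D.IHyp) : ed Gen.d V_341 = V_340 :=
  flipE D.rels D.S (hinv Gen.d) (F_1464 IH)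
theorem F_1466 (IH : D.IHyp) : ed Gen.f V_341 = V_342 :=
  rfl
theorem F_1467 (IH : D.IHyp) : ed Gen.f V_342 = V_341 :=
  flipE D.rels D.S (hinv Gen.f) (F_1466 IH)
theorem F_1468 (IH : D.IHyp) : ed Gen.e V_342 = V_343 :=
  rfl
theorem F_1469 (IH : D.IHyp) : ed Gen.e V_343 = V_342 :=
  flipE D.rels D.S (hinv Gen.e) (F_1468 IH)
theorem F_1470 (IH : D.IHyp) : ed Gen.d V_343 = V_344 :=
  rfl
theorem F_1471 (IH : D.IHyp) : ed Gen.d V_344 = V_343 :=
  flipE D.rels D.S (hinv Gen.d) (F_1470 IH)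
theorem F_1472 (IH : D.IHyp) : ed Gen.b V_344 = V_345 :=
  rfl
theorem F_1474 (IH : D.IHyp) : ed Gen.c V_345 = V_346 :=
  rfl
theorem F_1476 (IH : D.IHyp) : ed Gen.d V_346 = V_347 :=
  rfl
theorem F_1477 (IH : D.IHyp) : ed Gen.d V_347 = V_346 :=
  flipE D.rels D.S (hinv Gen.d) (F_1476 IH)
theorem F_1478 (IH : D.IHyp) : ed Gen.i V_347 = V_348 :=
  rfl
theorem F_1480 (IH : D.IHyp) : ed Gen.h V_348 = V_349 :=
  rfl
theorem F_1481 (IH : D.IHyp) : ed Gen.h V_349 = V_348 :=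
  flipE D.rels D.S (hinv Gen.h) (F_1480 IH)
theorem F_1482 (IH : D.IHyp) : ed Gen.d V_349 = V_350 :=
  rfl
theorem F_1483 (IH : D.IHyp) : ed Gen.d V_350 = V_349 :=
  flipE D.rels D.S (hinv Gen.d) (F_1482 IH)
theorem F_1484 (IH : D.IHyp) : ed Gen.f V_350 = V_351 :=
  rfl
theorem F_1485 (IH : D.IHyp) : ed Gen.f V_351 = V_350 :=
  flipE D.rels D.S (hinv Gen.f) (F_1484 IH)
theorem F_1486 (IH : D.IHyp) : ed Gen.e V_351 = V_352 :=
  rfl
theorem F_1487 (IH : D.IHyp) : ed Gen.e V_352 = V_351 :=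
  flipE D.rels D.S (hinv Gen.e) (F_1486 IH)
theorem F_1488 (IH : D.IHyp) : ed Gen.d V_352 = V_353 :=
  rfl
theorem F_1489 (IH : D.IHyp) : ed Gen.d V_353 = V_352 :=
  flipE D.rels D.S (hinv Gen.d) (F_1488 IH)
theorem F_1490 (IH : D.IHyp) : ed Gen.b V_353 = V_354 :=
  rfl
theorem F_1491 (IH : D.IHyp) : ed Gen.b V_354 = V_353 :=
  flipE D.rels D.S (hinv Gen.b) (F_1490 IH)
theorem F_1492 (IH : D.IHyp) : ed Gen.c V_354 = V_355 :=
  rfl
theorem F_1493 (IH : D.IHyp) : ed Gen.c V_355 = V_354 :=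
  flipE D.rels D.S (hinv Gen.c) (F_1492 IH)
theorem F_1494 (IH : D.IHyp) : ed Gen.d V_355 = V_356 :=
  rfl
theorem F_1495 (IH : D.IHyp) : ed Gen.d V_356 = V_355 :=
  flipE D.rels D.S (hinv Gen.d) (F_1494 IH)
theorem F_1496 (IH : D.IHyp) : ed Gen.i V_356 = V_357 :=
  rfl
theorem F_1497 (IH : D.IHyp) : ed Gen.i V_357 = V_356 :=
  flipE D.rels D.S (hinv Gen.i) (F_1496 IH)
theorem F_1498 (IH : D.IHyp) : ed Gen.h V_357 = V_358 :=
  rfl
theorem F_1499 (IH : D.IHyp) : ed Gen.h V_358 = V_357 :=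
  flipE D.rels D.S (hinv Gen.h) (F_1498 IH)
theorem F_1500 (IH : D.IHyp) : ed Gen.d V_358 = V_359 :=
  rfl
theorem F_1501 (IH : D.IHyp) : ed Gen.d V_359 = V_358 :=
  flipE D.rels D.S (hinv Gen.d) (F_1500 IH)
theorem F_1502 (IH : D.IHyp) : ed Gen.f V_359 = V_360 :=
  rfl
theorem F_1503 (IH : D.IHyp) : ed Gen.f V_360 = V_359 :=
  flipE D.rels D.S (hinv Gen.f) (F_1502 IH)
theorem F_1504 (IH : D.IHyp) : ed Gen.e V_360 = V_361 :=
  rfl
theorem F_1505 (IH : D.IHyp) : ed Gen.e V_361 = V_360 :=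
  flipE D.rels D.S (hinv Gen.e) (F_1504 IH)
theorem F_1506 (IH : D.IHyp) : ed Gen.d V_361 = V_362 :=
  rfl
theorem F_1507 (IH : D.IHyp) : ed Gen.d V_362 = V_361 :=
  flipE D.rels D.S (hinv Gen.d) (F_1506 IH)
theorem F_1508 (IH : D.IHyp) : ed Gen.b V_362 = V_363 :=
  rfl
theorem F_1509 (IH : D.IHyp) : ed Gen.b V_363 = V_362 :=
  flipE D.rels D.S (hinv Gen.b) (F_1508 IH)
theorem F_1510 (IH : D.IHyp) : ed Gen.c V_363 = V_364 :=
  rfl
theorem F_1511 (IH : D.IHyp) : ed Gen.c V_364 = V_363 :=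
  flipE D.rels D.S (hinv Gen.c) (F_1510 IH)
theorem F_1512 (IH : D.IHyp) : ed Gen.d V_364 = V_365 :=
  rfl
theorem F_1513 (IH : D.IHyp) : ed Gen.d V_365 = V_364 :=
  flipE D.rels D.S (hinv Gen.d) (F_1512 IH)
theorem F_1514 (IH : D.IHyp) : ed Gen.i V_365 = V_366 :=
  rfl
theorem F_1515 (IH : D.IHyp) : ed Gen.i V_366 = V_365 :=
  flipE D.rels D.S (hinv Gen.i) (F_1514 IH)
theorem F_1516 (IH : D.IHyp) : ed Gen.h V_366 = V_367 :=
  rfl
theorem F_1517 (IH : D.IHyp) : ed Gen.h V_367 = V_366 :=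
  flipE D.rels D.S (hinv Gen.h) (F_1516 IH)
theorem F_1518 (IH : D.IHyp) : ed Gen.d V_367 = V_368 :=
  rfl
theorem F_1519 (IH : D.IHyp) : ed Gen.d V_368 = V_367 :=
  flipE D.rels D.S (hinv Gen.d) (F_1518 IH)
theorem F_1520 (IH : D.IHyp) : ed Gen.f V_368 = V_369 :=
  rfl
theorem F_1521 (IH : D.IHyp) : ed Gen.f V_369 = V_368 :=
  flipE D.rels D.S (hinv Gen.f) (F_1520 IH)
theorem F_1522 (IH : D.IHyp) : ed Gen.e V_369 = V_370 :=
  rfl
theorem F_1523 (IH : D.IHyp) : ed Gen.e V_370 = V_369 :=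
  flipE D.rels D.S (hinv Gen.e) (F_1522 IH)
theorem F_1524 (IH : D.IHyp) : ed Gen.d V_370 = V_371 :=
  rfl
theorem F_1525 (IH : D.IHyp) : ed Gen.d V_371 = V_370 :=
  flipE D.rels D.S (hinv Gen.d) (F_1524 IH)
theorem F_1526 (IH : D.IHyp) : ed Gen.b V_371 = V_372 :=
  rfl
theorem F_1527 (IH : D.IHyp) : ed Gen.b V_372 = V_371 :=
  flipE D.rels D.S (hinv Gen.b) (F_1526 IH)
theorem F_1528 (IH : D.IHyp) : ed Gen.c V_372 = V_373 :=
  rfl
theorem F_1529 (IH : D.IHyp) : ed Gen.c V_373 = V_372 :=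
  flipE D.rels D.S (hinv Gen.c) (F_1528 IH)
theorem F_1530 (IH : D.IHyp) : ed Gen.d V_373 = V_374 :=
  rfl
theorem F_1531 (IH : D.IHyp) : ed Gen.d V_374 = V_373 :=
  flipE D.rels D.S (hinv Gen.d) (F_1530 IH)
theorem F_1532 (IH : D.IHyp) : ed Gen.i V_374 = V_375 :=
  rfl
theorem F_1533 (IH : D.IHyp) : ed Gen.i V_375 = V_374 :=
  flipE D.rels D.S (hinv Gen.i) (F_1532 IH)
theorem F_1534 (IH : D.IHyp) : ed Gen.h V_375 = V_376 :=
  rfl
theorem F_1535 (IH : D.IHyp) : ed Gen.h V_376 = V_375 :=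
  flipE D.rels D.S (hinv Gen.h) (F_1534 IH)
theorem F_1536 (IH : D.IHyp) : ed Gen.d V_376 = V_251 :=
  gap_rel RW_30 (path_edge (F_1534 IH) (path_edge (F_1532 IH) (path_edge (F_1530 IH) (path_edge (F_1528 IH) (path_edge (F_1526 IH) (path_edge (F_1524 IH) (path_edge (F_1522 IH) (path_edge (F_1520 IH) (path_edge (F_1518 IH) (path_edge (F_1516 IH) (path_edge (F_1514 IH) (path_edge (F_1512 IH) (path_edge (F_1510 IH) (path_edge (F_1508 IH) (path_edge (F_1506 IH) (path_edge (F_1504 IH) (path_edge (F_1502 IH) (path_edge (F_1500 IH) (path_edge (F_1498 IH) (path_edge (F_1496 IH) (path_edge (F_1494 IH) (path_edge (F_1492 IH) (path_edge (F_1490 IH) (path_edge (F_1488 IH) (path_edge (F_1486 IH) (path_edge (F_1484 IH) (path_edge (F_1482 IH) (path_edge (F_1480 IH) (path_edge (F_1478 IH) (path_edge (F_1476 IH) (path_edge (F_1474 IH) (path_edge (F_1472 IH) (path_edge (F_1470 IH) (path_edge (F_1468 IH) (path_edge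 (F_1466 IH) (path_edge (F_1464 IH) (path_edge (F_1462 IH) (path_edge (F_1460 IH) (path_edge (F_1458 IH) (path_edge (F_1455 IH) (path_edge (F_1452 IH) (path_edge (F_1449 IH) (path_edge (F_1447 IH) (path_edge (F_1445 IH) (path_edge (F_1446 IH) (path_edge (F_1443 IH) (path_edge (F_1442 IH) (path_edge (F_1439 IH) (path_edge (F_1374 IH) (path_edge (F_152 IH) (path_edge (F_151 IH) (path_edge (F_150 IH) (path_edge (F_149 IH) (path_edge (F_148 IH) (path_edge (F_147 IH) (path_edge (F_146 IH) (path_edge (F_145 IH) (path_edge (F_144 IH) (path_edge (F_143 IH) (path_edge (F_142 IH) (path_edge (F_141 IH) (path_edge (F_140 IH) (path_edge (F_139 IH) (path_edge (F_138 IH) (path_edge (F_137 IH) (path_edge (F_136 IH) (path_edge (F_135 IH) (path_edge (F_134 IH) (path_edge (F_98 IH) (path_edge (F_133 IH) (path_edge (F_97 IH) (path_edge (F_132 IH) (path_edge (F_131 IH) (path_edge (F_130 IH) (path_edge (F_129 IH) (path_edge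 (F_128 IH) (path_edge (F_127 IH) (path_edge (F_107 IH) (path_edge (F_126 IH) (path_edge (F_125 IH) (path_edge (F_124 IH) (path_edge (F_123 IH) (path_edge (F_122 IH) (path_edge (F_119 IH) (path_edge (F_118 IH) (path_edge (F_114 IH) (path_edge (F_112 IH) (path_edge (F_370 IH) (path_edge (F_510 IH) (path_nil _))))))))))))))))))))))))))))))))))))))))))))))))))))))))))))))))))))))))))))))))))))))))))
theorem F_1537 (IH : D.IHyp) : ed Gen.d V_251 = V_376 :=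
  flipE D.rels D.S (hinv Gen.d) (F_1536 IH)
theorem F_1538 (IH : D.IHyp) : ed Gen.b V_376 = V_376 :=
  gap_rel RW_4 (path_edge (F_1537 IH) (path_edge (F_511 IH) (path_edge (F_1536 IH) (path_nil _))))
theorem F_1539 (IH : D.IHyp) : ed Gen.b V_375 = V_375 :=
  gap_rel RW_31 (path_edge (F_1535 IH) (path_edge (F_1538 IH) (path_edge (F_1534 IH) (path_nil _))))
theorem F_1540 (IH : D.IHyp) : ed Gen.f V_250 = V_376 :=
  gap_rel RW_17 (path_edge (F_505 IH) (path_edge (F_510 IH) (path_edge (F_1536 IH) (path_nil _))))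
theorem F_1541 (IH : D.IHyp) : ed Gen.f V_376 = V_250 :=
  flipE D.rels D.S (hinv Gen.f) (F_1540 IH)
theorem F_1542 (IH : D.IHyp) : ed Gen.i V_376 = V_376 :=
  gap_rel RW_5 (path_edge (F_1537 IH) (path_edge (F_513 IH) (path_edge (F_1536 IH) (path_nil _))))
theorem F_1543 (IH : D.IHyp) : ed Gen.c V_376 = V_376 :=
  gap_rel RW_18 (path_edge (F_1540 IH) (path_edge (F_507 IH) (path_edge (F_1541 IH) (path_nil _))))
theorem F_1544 (IH : D.IHyp) : ed Gen.c V_375 = V_375 :=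
  gap_rel RW_19 (path_edge (F_1535 IH) (path_edge (F_1543 IH) (path_edge (F_1534 IH) (path_nil _))))
theorem F_1545 (IH : D.IHyp) : ed Gen.d V_375 = V_375 :=
  gap_rel RW_28 (path_edge (F_1535 IH) (path_edge (F_1537 IH) (path_edge (F_512 IH) (path_edge (F_1536 IH) (path_edge (F_1534 IH) (path_nil _))))))
theorem F_1546 (IH : D.IHyp) : ed Gen.h V_374 = V_374 :=
  gap_rel RW_32 (path_edge (F_1533 IH) (path_edge (F_1535 IH) (path_edge (F_1542 IH) (path_edge (F_1534 IH) (path_edge (F_1532 IH) (path_nil _))))))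
theorem F_1547 (IH : D.IHyp) : ed Gen.b V_374 = V_374 :=
  gap_rel RW_33 (path_edge (F_1533 IH) (path_edge (F_1539 IH) (path_edge (F_1532 IH) (path_nil _))))
theorem F_1548 (IH : D.IHyp) : ed Gen.c V_374 = V_374 :=
  gap_rel RW_20 (path_edge (F_1533 IH) (path_edge (F_1544 IH) (path_edge (F_1532 IH) (path_nil _))))
theorem F_1549 (IH : D.IHyp) : ed Gen.i V_373 = V_375 :=
  gap_rel RW_5 (path_edge (F_1531 IH) (path_edge (F_1533 IH) (path_edge (F_1545 IH) (path_nil _))))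
theorem F_1550 (IH : D.IHyp) : ed Gen.i V_375 = V_373 :=
  flipE D.rels D.S (hinv Gen.i) (F_1549 IH)
theorem F_1551 (IH : D.IHyp) : V_374 = V_373 :=
  edge_fun (F_1533 IH) (F_1550 IH)
theorem F_1552 (IH : D.IHyp) : ed Gen.b V_374 = V_373 :=
  (F_1547 IH).trans (F_1551 IH)
theorem F_1553 (IH : D.IHyp) : ed Gen.b V_373 = V_373 :=
  edge_congr (F_1552 IH) (F_1551 IH)
theorem F_1554 (IH : D.IHyp) : ed Gen.c V_374 = V_373 :=
  (F_1548 IH).trans (F_1551 IH)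
theorem F_1555 (IH : D.IHyp) : ed Gen.c V_373 = V_373 :=
  edge_congr (F_1554 IH) (F_1551 IH)
theorem F_1556 (IH : D.IHyp) : V_372 = V_373 :=
  edge_fun (F_1529 IH) (F_1555 IH)
theorem F_1559 (IH : D.IHyp) : ed Gen.d V_373 = V_373 :=
  edge_congr (F_1531 IH) (F_1551 IH)
theorem F_1560 (IH : D.IHyp) : ed Gen.h V_374 = V_373 :=
  (F_1546 IH).trans (F_1551 IH)
theorem F_1561 (IH : D.IHyp) : ed Gen.h V_373 = V_373 :=
  edge_congr (F_1560 IH) (F_1551 IH)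
theorem F_1564 (IH : D.IHyp) : V_373 = V_372 :=
  (F_1556 IH).symm
theorem F_1565 (IH : D.IHyp) : ed Gen.b V_373 = V_372 :=
  (F_1553 IH).trans (F_1564 IH)
theorem F_1566 (IH : D.IHyp) : ed Gen.b V_372 = V_372 :=
  edge_congr (F_1565 IH) (F_1564 IH)
theorem F_1567 (IH : D.IHyp) : V_371 = V_372 :=
  edge_fun (F_1527 IH) (F_1566 IH)
theorem F_1570 (IH : D.IHyp) : ed Gen.c V_372 = V_372 :=
  edge_congr (F_1529 IH) (F_1564 IH)
theorem F_1571 (IH : D.IHyp) : ed Gen.d V_373 = V_372 :=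
  (F_1559 IH).trans (F_1564 IH)
theorem F_1572 (IH : D.IHyp) : ed Gen.d V_372 = V_372 :=
  edge_congr (F_1571 IH) (F_1564 IH)
theorem F_1573 (IH : D.IHyp) : ed Gen.h V_373 = V_372 :=
  (F_1561 IH).trans (F_1564 IH)
theorem F_1574 (IH : D.IHyp) : ed Gen.h V_372 = V_372 :=
  edge_congr (F_1573 IH) (F_1564 IH)
theorem F_1575 (IH : D.IHyp) : ed Gen.i V_372 = V_375 :=
  edge_congr (F_1549 IH) (F_1564 IH)
theorem F_1577 (IH : D.IHyp) : V_372 = V_371 :=
  (F_1567 IH).symm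
theorem F_1578 (IH : D.IHyp) : ed Gen.b V_371 = V_371 :=
  edge_congr (F_1527 IH) (F_1577 IH)
theorem F_1579 (IH : D.IHyp) : ed Gen.c V_372 = V_371 :=
  (F_1570 IH).trans (F_1577 IH)
theorem F_1580 (IH : D.IHyp) : ed Gen.c V_371 = V_371 :=
  edge_congr (F_1579 IH) (F_1577 IH)
theorem F_1581 (IH : D.IHyp) : ed Gen.d V_372 = V_371 :=
  (F_1572 IH).trans (F_1577 IH)
theorem F_1582 (IH : D.IHyp) : ed Gen.d V_371 = V_371 :=
  edge_congr (F_1581 IH) (F_1577 IH)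
theorem F_1583 (IH : D.IHyp) : V_370 = V_371 :=
  edge_fun (F_1525 IH) (F_1582 IH)
theorem F_1586 (IH : D.IHyp) : ed Gen.h V_372 = V_371 :=
  (F_1574 IH).trans (F_1577 IH)
theorem F_1587 (IH : D.IHyp) : ed Gen.h V_371 = V_371 :=
  edge_congr (F_1586 IH) (F_1577 IH)
theorem F_1588 (IH : D.IHyp) : ed Gen.i V_371 = V_375 :=
  edge_congr (F_1575 IH) (F_1577 IH)
theorem F_1590 (IH : D.IHyp) : V_371 = V_370 :=
  (F_1583 IH).symm
theorem F_1591 (IH : D.IHyp) : ed Gen.b V_371 = V_370 :=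
  (F_1578 IH).trans (F_1590 IH)
theorem F_1592 (IH : D.IHyp) : ed Gen.b V_370 = V_370 :=
  edge_congr (F_1591 IH) (F_1590 IH)
theorem F_1593 (IH : D.IHyp) : ed Gen.c V_371 = V_370 :=
  (F_1580 IH).trans (F_1590 IH)
theorem F_1594 (IH : D.IHyp) : ed Gen.c V_370 = V_370 :=
  edge_congr (F_1593 IH) (F_1590 IH)
theorem F_1596 (IH : D.IHyp) : ed Gen.h V_371 = V_370 :=
  (F_1587 IH).trans (F_1590 IH)
theorem F_1597 (IH : D.IHyp) : ed Gen.h V_370 = V_370 :=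
  edge_congr (F_1596 IH) (F_1590 IH)
theorem F_1598 (IH : D.IHyp) : ed Gen.i V_370 = V_375 :=
  edge_congr (F_1588 IH) (F_1590 IH)
theorem F_1599 (IH : D.IHyp) : ed Gen.i V_375 = V_370 :=
  flipE D.rels D.S (hinv Gen.i) (F_1598 IH)
theorem F_1600 (IH : D.IHyp) : ed Gen.b V_369 = V_369 :=
  gap_rel RW_7 (path_edge (F_1523 IH) (path_edge (F_1592 IH) (path_edge (F_1522 IH) (path_nil _))))
theorem F_1601 (IH : D.IHyp) : ed Gen.c V_369 = V_369 :=
  gap_rel RW_10 (path_edge (F_1523 IH) (path_edge (F_1594 IH) (path_edge (F_1522 IH) (path_nil _))))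
theorem F_1602 (IH : D.IHyp) : ed Gen.h V_369 = V_369 :=
  gap_rel RW_8 (path_edge (F_1523 IH) (path_edge (F_1597 IH) (path_edge (F_1522 IH) (path_nil _))))
theorem F_1603 (IH : D.IHyp) : ed Gen.b V_368 = V_368 :=
  gap_rel RW_12 (path_edge (F_1521 IH) (path_edge (F_1600 IH) (path_edge (F_1520 IH) (path_nil _))))
theorem F_1604 (IH : D.IHyp) : ed Gen.c V_368 = V_368 :=
  gap_rel RW_18 (path_edge (F_1521 IH) (path_edge (F_1601 IH) (path_edge (F_1520 IH) (path_nil _))))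
theorem F_1605 (IH : D.IHyp) : ed Gen.h V_368 = V_368 :=
  gap_rel RW_13 (path_edge (F_1521 IH) (path_edge (F_1602 IH) (path_edge (F_1520 IH) (path_nil _))))
theorem F_1606 (IH : D.IHyp) : ed Gen.b V_367 = V_367 :=
  gap_rel RW_4 (path_edge (F_1519 IH) (path_edge (F_1603 IH) (path_edge (F_1518 IH) (path_nil _))))
theorem F_1607 (IH : D.IHyp) : ed Gen.d V_366 = V_366 :=
  gap_rel RW_28 (path_edge (F_1517 IH) (path_edge (F_1519 IH) (path_edge (F_1605 IH) (path_edge (F_1518 IH) (path_edge (F_1516 IH) (path_nil _))))))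
theorem F_1608 (IH : D.IHyp) : ed Gen.b V_366 = V_366 :=
  gap_rel RW_31 (path_edge (F_1517 IH) (path_edge (F_1606 IH) (path_edge (F_1516 IH) (path_nil _))))
theorem F_1609 (IH : D.IHyp) : ed Gen.b V_365 = V_365 :=
  gap_rel RW_33 (path_edge (F_1515 IH) (path_edge (F_1608 IH) (path_edge (F_1514 IH) (path_nil _))))
theorem F_1610 (IH : D.IHyp) : ed Gen.i V_364 = V_366 :=
  gap_rel RW_5 (path_edge (F_1513 IH) (path_edge (F_1515 IH) (path_edge (F_1607 IH) (path_nil _))))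
theorem F_1611 (IH : D.IHyp) : ed Gen.i V_366 = V_364 :=
  flipE D.rels D.S (hinv Gen.i) (F_1610 IH)
theorem F_1612 (IH : D.IHyp) : V_365 = V_364 :=
  edge_fun (F_1515 IH) (F_1611 IH)
theorem F_1613 (IH : D.IHyp) : ed Gen.b V_365 = V_364 :=
  (F_1609 IH).trans (F_1612 IH)
theorem F_1614 (IH : D.IHyp) : ed Gen.b V_364 = V_364 :=
  edge_congr (F_1613 IH) (F_1612 IH)
theorem F_1615 (IH : D.IHyp) : ed Gen.d V_364 = V_364 :=
  edge_congr (F_1513 IH) (F_1612 IH)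
theorem F_1616 (IH : D.IHyp) : ed Gen.i V_364 = V_366 :=
  edge_congr (F_1514 IH) (F_1612 IH)
theorem F_1617 (IH : D.IHyp) : ed Gen.i V_366 = V_364 :=
  flipE D.rels D.S (hinv Gen.i) (F_1616 IH)
theorem F_1618 (IH : D.IHyp) : ed Gen.c V_362 = V_362 :=
  gap_rel RW_3 (path_edge (F_1509 IH) (path_edge (F_1511 IH) (path_edge (F_1614 IH) (path_edge (F_1510 IH) (path_edge (F_1508 IH) (path_nil _))))))
theorem F_1619 (IH : D.IHyp) : ed Gen.f (D.P 217) = V_377 :=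
  rfl
theorem F_1620 (IH : D.IHyp) : ed Gen.f V_377 = (D.P 217) :=
  flipE D.rels D.S (hinv Gen.f) (F_1619 IH)
theorem F_1621 (IH : D.IHyp) : ed Gen.d (D.P 217) = (D.P 217) :=
  D.real_edge' IH Gen.d 217 217 (by decide +kernel)
theorem F_1625 (IH : D.IHyp) : ed Gen.i (D.P 217) = (D.P 227) :=
  D.real_edge' IH Gen.i 217 227 (by decide +kernel)
theorem F_1626 (IH : D.IHyp) : ed Gen.d V_377 = V_377 :=
  gap_rel RW_34 (path_edge (F_1619 IH) (path_edge (F_1621 IH) (path_edge (F_1620 IH) (path_nil _))))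
theorem F_1635 (IH : D.IHyp) : ed Gen.h (D.P 227) = (D.P 239) :=
  D.real_edge' IH Gen.h 227 239 (by decide +kernel)
theorem F_1636 (IH : D.IHyp) : ed Gen.i (D.P 239) = (D.P 239) :=
  D.real_edge' IH Gen.i 239 239 (by decide +kernel)
theorem F_1665 (IH : D.IHyp) : ed Gen.i V_377 = V_378 :=
  rfl
theorem F_1666 (IH : D.IHyp) : ed Gen.i V_378 = V_377 :=
  flipE D.rels D.S (hinv Gen.i) (F_1665 IH)
theorem F_1667 (IH : D.IHyp) : ed Gen.d V_378 = V_378 :=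
  gap_rel RW_35 (path_edge (F_1665 IH) (path_edge (F_1626 IH) (path_edge (F_1666 IH) (path_nil _))))
theorem F_1668 (IH : D.IHyp) : ed Gen.f (D.P 227) = V_378 :=
  gap_rel RW_36 (path_edge (F_1625 IH) (path_edge (F_1620 IH) (path_edge (F_1666 IH) (path_nil _))))
theorem F_1669 (IH : D.IHyp) : ed Gen.f V_378 = (D.P 227) :=
  flipE D.rels D.S (hinv Gen.f) (F_1668 IH)
theorem F_1694 (IH : D.IHyp) : ed Gen.e (D.P 239) = (D.P 223) :=
  D.real_edge' IH Gen.e 239 223 (by decide +kernel)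
theorem F_1826 (IH : D.IHyp) : ed Gen.f (D.P 239) = V_428 :=
  rfl
theorem F_1827 (IH : D.IHyp) : ed Gen.f V_428 = (D.P 239) :=
  flipE D.rels D.S (hinv Gen.f) (F_1826 IH)
theorem F_1828 (IH : D.IHyp) : ed Gen.h V_428 = V_378 :=
  gap_rel RW_13 (path_edge (F_1826 IH) (path_edge (F_1635 IH) (path_edge (F_1669 IH) (path_nil _))))
theorem F_1829 (IH : D.IHyp) : ed Gen.h V_378 = V_428 :=
  flipE D.rels D.S (hinv Gen.h) (F_1828 IH)
theorem F_1830 (IH : D.IHyp) : ed Gen.i V_428 = V_428 :=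
  gap_rel RW_14 (path_edge (F_1826 IH) (path_edge (F_1636 IH) (path_edge (F_1827 IH) (path_nil _))))
theorem F_1841 (IH : D.IHyp) : ed Gen.e (D.P 133) = (D.P 133) :=
  D.real_edge' IH Gen.e 133 133 (by decide +kernel)
theorem F_1842 (IH : D.IHyp) : ed Gen.b (D.P 144) = (D.P 163) :=
  D.real_edge' IH Gen.b 144 163 (by decide +kernel)
theorem F_1843 (IH : D.IHyp) : ed Gen.d V_428 = V_429 :=
  rfl
theorem F_1844 (IH : D.IHyp) : ed Gen.d V_429 = V_428 :=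
  flipE D.rels D.S (hinv Gen.d) (F_1843 IH)
theorem F_1845 (IH : D.IHyp) : ed Gen.i V_429 = V_429 :=
  gap_rel RW_5 (path_edge (F_1843 IH) (path_edge (F_1830 IH) (path_edge (F_1844 IH) (path_nil _))))
theorem F_1846 (IH : D.IHyp) : ed Gen.h V_429 = V_429 :=
  gap_rel RW_37 (path_edge (F_1843 IH) (path_edge (F_1829 IH) (path_edge (F_1667 IH) (path_edge (F_1828 IH) (path_edge (F_1844 IH) (path_nil _))))))
theorem F_1847 (IH : D.IHyp) : ed Gen.c V_428 = V_430 :=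
  rfl
theorem F_1848 (IH : D.IHyp) : ed Gen.c V_430 = V_428 :=
  flipE D.rels D.S (hinv Gen.c) (F_1847 IH)
theorem F_1852 (IH : D.IHyp) : ed Gen.b V_430 = V_431 :=
  rfl
theorem F_1853 (IH : D.IHyp) : ed Gen.b V_431 = V_430 :=
  flipE D.rels D.S (hinv Gen.b) (F_1852 IH)
theorem F_1857 (IH : D.IHyp) : ed Gen.d V_431 = V_432 :=
  rfl
theorem F_1858 (IH : D.IHyp) : ed Gen.d V_432 = V_431 :=
  flipE D.rels D.S (hinv Gen.d) (F_1857 IH)
theorem F_1860 (IH : D.IHyp) : ed Gen.e V_432 = V_433 :=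
  rfl
theorem F_1861 (IH : D.IHyp) : ed Gen.e V_433 = V_432 :=
  flipE D.rels D.S (hinv Gen.e) (F_1860 IH)
theorem F_1863 (IH : D.IHyp) : ed Gen.f V_433 = V_434 :=
  rfl
theorem F_1864 (IH : D.IHyp) : ed Gen.f V_434 = V_433 :=
  flipE D.rels D.S (hinv Gen.f) (F_1863 IH)
theorem F_1866 (IH : D.IHyp) : ed Gen.d V_434 = V_435 :=
  rfl
theorem F_1867 (IH : D.IHyp) : ed Gen.d V_435 = V_434 :=
  flipE D.rels D.S (hinv Gen.d) (F_1866 IH)
theorem F_1869 (IH : D.IHyp) : ed Gen.h V_435 = V_436 :=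
  rfl
theorem F_1870 (IH : D.IHyp) : ed Gen.h V_436 = V_435 :=
  flipE D.rels D.S (hinv Gen.h) (F_1869 IH)
theorem F_1871 (IH : D.IHyp) : ed Gen.i V_436 = V_437 :=
  rfl
theorem F_1872 (IH : D.IHyp) : ed Gen.i V_437 = V_436 :=
  flipE D.rels D.S (hinv Gen.i) (F_1871 IH)
theorem F_1874 (IH : D.IHyp) : ed Gen.d V_437 = V_438 :=
  rfl
theorem F_1875 (IH : D.IHyp) : ed Gen.d V_438 = V_437 :=
  flipE D.rels D.S (hinv Gen.d) (F_1874 IH)
theorem F_1876 (IH : D.IHyp) : ed Gen.c V_438 = V_439 :=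
  rfl
theorem F_1877 (IH : D.IHyp) : ed Gen.c V_439 = V_438 :=
  flipE D.rels D.S (hinv Gen.c) (F_1876 IH)
theorem F_1878 (IH : D.IHyp) : ed Gen.b V_439 = V_440 :=
  rfl
theorem F_1879 (IH : D.IHyp) : ed Gen.b V_440 = V_439 :=
  flipE D.rels D.S (hinv Gen.b) (F_1878 IH)
theorem F_1880 (IH : D.IHyp) : ed Gen.d V_440 = V_441 :=
  rfl
theorem F_1881 (IH : D.IHyp) : ed Gen.d V_441 = V_440 :=
  flipE D.rels D.S (hinv Gen.d) (F_1880 IH)
theorem F_1882 (IH : D.IHyp) : ed Gen.e V_441 = V_442 :=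
  rfl
theorem F_1883 (IH : D.IHyp) : ed Gen.e V_442 = V_441 :=
  flipE D.rels D.S (hinv Gen.e) (F_1882 IH)
theorem F_1884 (IH : D.IHyp) : ed Gen.f V_442 = V_443 :=
  rfl
theorem F_1885 (IH : D.IHyp) : ed Gen.f V_443 = V_442 :=
  flipE D.rels D.S (hinv Gen.f) (F_1884 IH)
theorem F_1886 (IH : D.IHyp) : ed Gen.d V_443 = V_444 :=
  rfl
theorem F_1887 (IH : D.IHyp) : ed Gen.d V_444 = V_443 :=
  flipE D.rels D.S (hinv Gen.d) (F_1886 IH)
theorem F_1888 (IH : D.IHyp) : ed Gen.h V_444 = V_445 :=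
  rfl
theorem F_1889 (IH : D.IHyp) : ed Gen.h V_445 = V_444 :=
  flipE D.rels D.S (hinv Gen.h) (F_1888 IH)
theorem F_1890 (IH : D.IHyp) : ed Gen.i V_445 = V_446 :=
  rfl
theorem F_1891 (IH : D.IHyp) : ed Gen.i V_446 = V_445 :=
  flipE D.rels D.S (hinv Gen.i) (F_1890 IH)
theorem F_1892 (IH : D.IHyp) : ed Gen.d V_446 = V_447 :=
  rfl
theorem F_1893 (IH : D.IHyp) : ed Gen.d V_447 = V_446 :=
  flipE D.rels D.S (hinv Gen.d) (F_1892 IH)
theorem F_1894 (IH : D.IHyp) : ed Gen.c V_447 = V_448 :=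
  rfl
theorem F_1895 (IH : D.IHyp) : ed Gen.c V_448 = V_447 :=
  flipE D.rels D.S (hinv Gen.c) (F_1894 IH)
theorem F_1896 (IH : D.IHyp) : ed Gen.b V_448 = V_449 :=
  rfl
theorem F_1897 (IH : D.IHyp) : ed Gen.b V_449 = V_448 :=
  flipE D.rels D.S (hinv Gen.b) (F_1896 IH)
theorem F_1898 (IH : D.IHyp) : ed Gen.d V_449 = V_450 :=
  rfl
theorem F_1899 (IH : D.IHyp) : ed Gen.d V_450 = V_449 :=
  flipE D.rels D.S (hinv Gen.d) (F_1898 IH)
theorem F_1900 (IH : D.IHyp) : ed Gen.e V_450 = V_451 :=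
  rfl
theorem F_1901 (IH : D.IHyp) : ed Gen.e V_451 = V_450 :=
  flipE D.rels D.S (hinv Gen.e) (F_1900 IH)
theorem F_1902 (IH : D.IHyp) : ed Gen.f V_451 = V_452 :=
  rfl
theorem F_1903 (IH : D.IHyp) : ed Gen.f V_452 = V_451 :=
  flipE D.rels D.S (hinv Gen.f) (F_1902 IH)
theorem F_1904 (IH : D.IHyp) : ed Gen.d V_452 = V_453 :=
  rfl
theorem F_1905 (IH : D.IHyp) : ed Gen.d V_453 = V_452 :=
  flipE D.rels D.S (hinv Gen.d) (F_1904 IH)
theorem F_1906 (IH : D.IHyp) : ed Gen.h V_453 = V_454 :=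
  rfl
theorem F_1907 (IH : D.IHyp) : ed Gen.h V_454 = V_453 :=
  flipE D.rels D.S (hinv Gen.h) (F_1906 IH)
theorem F_1908 (IH : D.IHyp) : ed Gen.i V_454 = V_455 :=
  rfl
theorem F_1909 (IH : D.IHyp) : ed Gen.i V_455 = V_454 :=
  flipE D.rels D.S (hinv Gen.i) (F_1908 IH)
theorem F_1910 (IH : D.IHyp) : ed Gen.d V_455 = V_456 :=
  rfl
theorem F_1911 (IH : D.IHyp) : ed Gen.d V_456 = V_455 :=
  flipE D.rels D.S (hinv Gen.d) (F_1910 IH)
theorem F_1912 (IH : D.IHyp) : ed Gen.c V_456 = V_457 :=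
  rfl
theorem F_1913 (IH : D.IHyp) : ed Gen.c V_457 = V_456 :=
  flipE D.rels D.S (hinv Gen.c) (F_1912 IH)
theorem F_1914 (IH : D.IHyp) : ed Gen.b V_457 = V_458 :=
  rfl
theorem F_1915 (IH : D.IHyp) : ed Gen.b V_458 = V_457 :=
  flipE D.rels D.S (hinv Gen.b) (F_1914 IH)
theorem F_1916 (IH : D.IHyp) : ed Gen.d V_458 = V_459 :=
  rfl
theorem F_1917 (IH : D.IHyp) : ed Gen.d V_459 = V_458 :=
  flipE D.rels D.S (hinv Gen.d) (F_1916 IH)
theorem F_1918 (IH : D.IHyp) : ed Gen.e V_459 = V_460 :=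
  rfl
theorem F_1919 (IH : D.IHyp) : ed Gen.e V_460 = V_459 :=
  flipE D.rels D.S (hinv Gen.e) (F_1918 IH)
theorem F_1920 (IH : D.IHyp) : ed Gen.f V_460 = V_461 :=
  rfl
theorem F_1921 (IH : D.IHyp) : ed Gen.f V_461 = V_460 :=
  flipE D.rels D.S (hinv Gen.f) (F_1920 IH)
theorem F_1922 (IH : D.IHyp) : ed Gen.d V_461 = V_462 :=
  rfl
theorem F_1923 (IH : D.IHyp) : ed Gen.d V_462 = V_461 :=
  flipE D.rels D.S (hinv Gen.d) (F_1922 IH)
theorem F_1924 (IH : D.IHyp) : ed Gen.h V_462 = V_463 :=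
  rfl
theorem F_1925 (IH : D.IHyp) : ed Gen.h V_463 = V_462 :=
  flipE D.rels D.S (hinv Gen.h) (F_1924 IH)
theorem F_1926 (IH : D.IHyp) : ed Gen.i V_463 = V_464 :=
  rfl
theorem F_1927 (IH : D.IHyp) : ed Gen.i V_464 = V_463 :=
  flipE D.rels D.S (hinv Gen.i) (F_1926 IH)
theorem F_1928 (IH : D.IHyp) : ed Gen.d V_464 = V_465 :=
  rfl
theorem F_1929 (IH : D.IHyp) : ed Gen.d V_465 = V_464 :=
  flipE D.rels D.S (hinv Gen.d) (F_1928 IH)
theorem F_1930 (IH : D.IHyp) : ed Gen.c V_465 = V_466 :=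
  rfl
theorem F_1931 (IH : D.IHyp) : ed Gen.c V_466 = V_465 :=
  flipE D.rels D.S (hinv Gen.c) (F_1930 IH)
theorem F_1932 (IH : D.IHyp) : ed Gen.b V_466 = V_467 :=
  rfl
theorem F_1933 (IH : D.IHyp) : ed Gen.b V_467 = V_466 :=
  flipE D.rels D.S (hinv Gen.b) (F_1932 IH)
theorem F_1934 (IH : D.IHyp) : ed Gen.d V_467 = V_468 :=
  rfl
theorem F_1935 (IH : D.IHyp) : ed Gen.d V_468 = V_467 :=
  flipE D.rels D.S (hinv Gen.d) (F_1934 IH)
theorem F_1936 (IH : D.IHyp) : ed Gen.e V_468 = V_469 :=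
  rfl
theorem F_1937 (IH : D.IHyp) : ed Gen.e V_469 = V_468 :=
  flipE D.rels D.S (hinv Gen.e) (F_1936 IH)
theorem F_1938 (IH : D.IHyp) : ed Gen.f V_469 = V_470 :=
  rfl
theorem F_1939 (IH : D.IHyp) : ed Gen.f V_470 = V_469 :=
  flipE D.rels D.S (hinv Gen.f) (F_1938 IH)
theorem F_1940 (IH : D.IHyp) : ed Gen.d V_470 = V_471 :=
  rfl
theorem F_1941 (IH : D.IHyp) : ed Gen.d V_471 = V_470 :=
  flipE D.rels D.S (hinv Gen.d) (F_1940 IH)
theorem F_1942 (IH : D.IHyp) : ed Gen.h V_471 = V_472 :=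
  rfl
theorem F_1943 (IH : D.IHyp) : ed Gen.h V_472 = V_471 :=
  flipE D.rels D.S (hinv Gen.h) (F_1942 IH)
theorem F_1944 (IH : D.IHyp) : ed Gen.i V_472 = V_473 :=
  rfl
theorem F_1945 (IH : D.IHyp) : ed Gen.i V_473 = V_472 :=
  flipE D.rels D.S (hinv Gen.i) (F_1944 IH)
theorem F_1946 (IH : D.IHyp) : ed Gen.d V_473 = V_474 :=
  rfl
theorem F_1947 (IH : D.IHyp) : ed Gen.d V_474 = V_473 :=
  flipE D.rels D.S (hinv Gen.d) (F_1946 IH)
theorem F_1948 (IH : D.IHyp) : ed Gen.c V_474 = V_475 :=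
  rfl
theorem F_1949 (IH : D.IHyp) : ed Gen.c V_475 = V_474 :=
  flipE D.rels D.S (hinv Gen.c) (F_1948 IH)
theorem F_1950 (IH : D.IHyp) : ed Gen.b V_475 = V_476 :=
  rfl
theorem F_1951 (IH : D.IHyp) : ed Gen.b V_476 = V_475 :=
  flipE D.rels D.S (hinv Gen.b) (F_1950 IH)
theorem F_1952 (IH : D.IHyp) : ed Gen.d V_476 = V_477 :=
  rfl
theorem F_1953 (IH : D.IHyp) : ed Gen.d V_477 = V_476 :=
  flipE D.rels D.S (hinv Gen.d) (F_1952 IH)
theorem F_1954 (IH : D.IHyp) : ed Gen.e V_477 = V_478 :=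
  rfl
theorem F_1955 (IH : D.IHyp) : ed Gen.e V_478 = V_477 :=
  flipE D.rels D.S (hinv Gen.e) (F_1954 IH)
theorem F_1956 (IH : D.IHyp) : ed Gen.f V_478 = V_479 :=
  rfl
theorem F_1957 (IH : D.IHyp) : ed Gen.f V_479 = V_478 :=
  flipE D.rels D.S (hinv Gen.f) (F_1956 IH)
theorem F_1958 (IH : D.IHyp) : ed Gen.d V_479 = V_480 :=
  rfl
theorem F_1959 (IH : D.IHyp) : ed Gen.d V_480 = V_479 :=
  flipE D.rels D.S (hinv Gen.d) (F_1958 IH)
theorem F_1960 (IH : D.IHyp) : ed Gen.h V_480 = V_481 :=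
  rfl
theorem F_1961 (IH : D.IHyp) : ed Gen.h V_481 = V_480 :=
  flipE D.rels D.S (hinv Gen.h) (F_1960 IH)
theorem F_1962 (IH : D.IHyp) : ed Gen.i V_481 = V_482 :=
  rfl
theorem F_1963 (IH : D.IHyp) : ed Gen.i V_482 = V_481 :=
  flipE D.rels D.S (hinv Gen.i) (F_1962 IH)
theorem F_1964 (IH : D.IHyp) : ed Gen.d V_482 = V_483 :=
  rfl
theorem F_1965 (IH : D.IHyp) : ed Gen.d V_483 = V_482 :=
  flipE D.rels D.S (hinv Gen.d) (F_1964 IH)
theorem F_1966 (IH : D.IHyp) : ed Gen.c V_483 = V_484 :=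
  rfl
theorem F_1967 (IH : D.IHyp) : ed Gen.c V_484 = V_483 :=
  flipE D.rels D.S (hinv Gen.c) (F_1966 IH)
theorem F_1968 (IH : D.IHyp) : ed Gen.b V_484 = V_485 :=
  rfl
theorem F_1969 (IH : D.IHyp) : ed Gen.b V_485 = V_484 :=
  flipE D.rels D.S (hinv Gen.b) (F_1968 IH)
theorem F_1970 (IH : D.IHyp) : ed Gen.d V_485 = V_486 :=
  rfl
theorem F_1971 (IH : D.IHyp) : ed Gen.d V_486 = V_485 :=
  flipE D.rels D.S (hinv Gen.d) (F_1970 IH)
theorem F_1972 (IH : D.IHyp) : ed Gen.e V_376 = V_486 :=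
  gap_rel RW_23 (path_edge (F_1540 IH) (path_edge (F_505 IH) (path_edge (F_372 IH) (path_edge (F_373 IH) (path_edge (F_506 IH) (path_edge (F_507 IH) (path_edge (F_503 IH) (path_edge (F_505 IH) (path_edge (F_369 IH) (path_edge (F_5 IH) (path_edge (F_113 IH) (path_edge (F_177 IH) (path_edge (F_189 IH) (path_edge (F_190 IH) (path_edge (F_327 IH) (path_edge (F_1842 IH) (path_edge (F_246 IH) (path_edge (F_818 IH) (path_edge (F_1173 IH) (path_edge (F_366 IH) (path_edge (F_1357 IH) (path_edge (F_197 IH) (path_edge (F_612 IH) (path_edge (F_199 IH) (path_edge (F_611 IH) (path_edge (F_544 IH) (path_edge (F_1694 IH) (path_edge (F_1827 IH) (path_edge (F_1844 IH) (path_edge (F_1846 IH) (path_edge (F_1845 IH) (path_edge (F_1843 IH) (path_edge (F_1848 IH) (path_edge (F_1853 IH) (path_edge (F_1858 IH) (path_edge (F_1861 IH) (path_edge (F_1864 IH) (path_edge (F_1867 IH) (path_edge (F_1870 IH) (path_edge (F_1872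 IH) (path_edge (F_1875 IH) (path_edge (F_1877 IH) (path_edge (F_1879 IH) (path_edge (F_1881 IH) (path_edge (F_1883 IH) (path_edge (F_1885 IH) (path_edge (F_1887 IH) (path_edge (F_1889 IH) (path_edge (F_1891 IH) (path_edge (F_1893 IH) (path_edge (F_1895 IH) (path_edge (F_1897 IH) (path_edge (F_1899 IH) (path_edge (F_1901 IH) (path_edge (F_1903 IH) (path_edge (F_1905 IH) (path_edge (F_1907 IH) (path_edge (F_1909 IH) (path_edge (F_1911 IH) (path_edge (F_1913 IH) (path_edge (F_1915 IH) (path_edge (F_1917 IH) (path_edge (F_1919 IH) (path_edge (F_1921 IH) (path_edge (F_1923 IH) (path_edge (F_1925 IH) (path_edge (F_1927 IH) (path_edge (F_1929 IH) (path_edge (F_1931 IH) (path_edge (F_1933 IH) (path_edge (F_1935 IH) (path_edge (F_1937 IH) (path_edge (F_1939 IH) (path_edge (F_1941 IH) (path_edge (F_1943 IH) (path_edge (F_1945 IH) (path_edge (F_1947 IH) (path_edge (F_1949 IH) (path_edge (F_1951 IH) (path_edge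 (F_1953 IH) (path_edge (F_1955 IH) (path_edge (F_1957 IH) (path_edge (F_1959 IH) (path_edge (F_1961 IH) (path_edge (F_1963 IH) (path_edge (F_1965 IH) (path_edge (F_1967 IH) (path_edge (F_1969 IH) (path_edge (F_1971 IH) (path_nil _))))))))))))))))))))))))))))))))))))))))))))))))))))))))))))))))))))))))))))))))))))))))))
theorem F_1973 (IH : D.IHyp) : ed Gen.e V_486 = V_376 :=
  flipE D.rels D.S (hinv Gen.e) (F_1972 IH)
theorem F_1974 (IH : D.IHyp) : ed Gen.b V_486 = V_486 :=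
  gap_rel RW_7 (path_edge (F_1972 IH) (path_edge (F_1538 IH) (path_edge (F_1973 IH) (path_nil _))))
theorem F_1975 (IH : D.IHyp) : ed Gen.c V_486 = V_486 :=
  gap_rel RW_10 (path_edge (F_1972 IH) (path_edge (F_1543 IH) (path_edge (F_1973 IH) (path_nil _))))
theorem F_1976 (IH : D.IHyp) : ed Gen.d V_484 = V_486 :=
  gap_rel RW_22 (path_edge (F_1969 IH) (path_edge (F_1971 IH) (path_edge (F_1974 IH) (path_nil _))))
theorem F_1977 (IH : D.IHyp) : ed Gen.d V_486 = V_484 :=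
  flipE D.rels D.S (hinv Gen.d) (F_1976 IH)
theorem F_1978 (IH : D.IHyp) : V_485 = V_484 :=
  edge_fun (F_1971 IH) (F_1977 IH)
theorem F_1979 (IH : D.IHyp) : ed Gen.b V_484 = V_484 :=
  edge_congr (F_1969 IH) (F_1978 IH)
theorem F_1980 (IH : D.IHyp) : ed Gen.d V_484 = V_486 :=
  edge_congr (F_1970 IH) (F_1978 IH)
theorem F_1981 (IH : D.IHyp) : ed Gen.d V_486 = V_484 :=
  flipE D.rels D.S (hinv Gen.d) (F_1980 IH)
theorem F_1982 (IH : D.IHyp) : ed Gen.i V_486 = V_486 :=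
  gap_rel RW_9 (path_edge (F_1972 IH) (path_edge (F_1542 IH) (path_edge (F_1973 IH) (path_nil _))))
theorem F_1983 (IH : D.IHyp) : ed Gen.i V_484 = V_484 :=
  gap_rel RW_5 (path_edge (F_1981 IH) (path_edge (F_1982 IH) (path_edge (F_1976 IH) (path_nil _))))
theorem F_1984 (IH : D.IHyp) : ed Gen.c V_482 = V_484 :=
  gap_rel RW_6 (path_edge (F_1965 IH) (path_edge (F_1967 IH) (path_edge (F_1981 IH) (path_edge (F_1975 IH) (path_edge (F_1976 IH) (path_nil _))))))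
theorem F_1985 (IH : D.IHyp) : ed Gen.c V_484 = V_482 :=
  flipE D.rels D.S (hinv Gen.c) (F_1984 IH)
theorem F_1986 (IH : D.IHyp) : V_483 = V_482 :=
  edge_fun (F_1967 IH) (F_1985 IH)
theorem F_1987 (IH : D.IHyp) : ed Gen.c V_482 = V_484 :=
  edge_congr (F_1966 IH) (F_1986 IH)
theorem F_1988 (IH : D.IHyp) : ed Gen.c V_484 = V_482 :=
  flipE D.rels D.S (hinv Gen.c) (F_1987 IH)
theorem F_1989 (IH : D.IHyp) : ed Gen.d V_482 = V_482 :=
  edge_congr (F_1965 IH) (F_1986 IH)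
theorem F_1990 (IH : D.IHyp) : ed Gen.e V_484 = V_376 :=
  gap_rel RW_29 (path_edge (F_1981 IH) (path_edge (F_1972 IH) (path_edge (F_1537 IH) (path_edge (F_514 IH) (path_edge (F_1536 IH) (path_nil _))))))
theorem F_1991 (IH : D.IHyp) : ed Gen.e V_376 = V_484 :=
  flipE D.rels D.S (hinv Gen.e) (F_1990 IH)
theorem F_1992 (IH : D.IHyp) : V_486 = V_484 :=
  edge_fun (F_1972 IH) (F_1991 IH)
theorem F_1995 (IH : D.IHyp) : ed Gen.c V_486 = V_484 :=
  (F_1975 IH).trans (F_1992 IH)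
theorem F_1996 (IH : D.IHyp) : ed Gen.c V_484 = V_484 :=
  edge_congr (F_1995 IH) (F_1992 IH)
theorem F_1997 (IH : D.IHyp) : V_482 = V_484 :=
  edge_fun (F_1988 IH) (F_1996 IH)
theorem F_2005 (IH : D.IHyp) : V_484 = V_482 :=
  (F_1997 IH).symm
theorem F_2006 (IH : D.IHyp) : ed Gen.b V_484 = V_482 :=
  (F_1979 IH).trans (F_2005 IH)
theorem F_2007 (IH : D.IHyp) : ed Gen.b V_482 = V_482 :=
  edge_congr (F_2006 IH) (F_2005 IH)
theorem F_2008 (IH : D.IHyp) : ed Gen.c V_482 = V_482 :=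
  edge_congr (F_1988 IH) (F_2005 IH)
theorem F_2011 (IH : D.IHyp) : ed Gen.e V_482 = V_376 :=
  edge_congr (F_1990 IH) (F_2005 IH)
theorem F_2013 (IH : D.IHyp) : ed Gen.i V_484 = V_482 :=
  (F_1983 IH).trans (F_2005 IH)
theorem F_2014 (IH : D.IHyp) : ed Gen.i V_482 = V_482 :=
  edge_congr (F_2013 IH) (F_2005 IH)
theorem F_2015 (IH : D.IHyp) : V_481 = V_482 :=
  edge_fun (F_1963 IH) (F_2014 IH)
theorem F_2018 (IH : D.IHyp) : V_482 = V_481 :=
  (F_2015 IH).symm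
theorem F_2019 (IH : D.IHyp) : ed Gen.b V_482 = V_481 :=
  (F_2007 IH).trans (F_2018 IH)
theorem F_2020 (IH : D.IHyp) : ed Gen.b V_481 = V_481 :=
  edge_congr (F_2019 IH) (F_2018 IH)
theorem F_2021 (IH : D.IHyp) : ed Gen.c V_482 = V_481 :=
  (F_2008 IH).trans (F_2018 IH)
theorem F_2022 (IH : D.IHyp) : ed Gen.c V_481 = V_481 :=
  edge_congr (F_2021 IH) (F_2018 IH)
theorem F_2023 (IH : D.IHyp) : ed Gen.d V_482 = V_481 :=
  (F_1989 IH).trans (F_2018 IH)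
theorem F_2024 (IH : D.IHyp) : ed Gen.d V_481 = V_481 :=
  edge_congr (F_2023 IH) (F_2018 IH)
theorem F_2025 (IH : D.IHyp) : ed Gen.e V_481 = V_376 :=
  edge_congr (F_2011 IH) (F_2018 IH)
theorem F_2026 (IH : D.IHyp) : ed Gen.e V_376 = V_481 :=
  flipE D.rels D.S (hinv Gen.e) (F_2025 IH)
theorem F_2027 (IH : D.IHyp) : ed Gen.i V_481 = V_481 :=
  edge_congr (F_1963 IH) (F_2018 IH)
theorem F_2028 (IH : D.IHyp) : ed Gen.h V_479 = V_479 :=
  gap_rel RW_37 (path_edge (F_1959 IH) (path_edge (F_1961 IH) (path_edge (F_2024 IH) (path_edge (F_1960 IH) (path_edge (F_1958 IH) (path_nil _))))))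
theorem F_2029 (IH : D.IHyp) : ed Gen.e V_480 = V_375 :=
  gap_rel RW_26 (path_edge (F_1961 IH) (path_edge (F_2026 IH) (path_edge (F_1534 IH) (path_nil _))))
theorem F_2030 (IH : D.IHyp) : ed Gen.e V_375 = V_480 :=
  flipE D.rels D.S (hinv Gen.e) (F_2029 IH)
theorem F_2031 (IH : D.IHyp) : ed Gen.b V_480 = V_480 :=
  gap_rel RW_31 (path_edge (F_1961 IH) (path_edge (F_2020 IH) (path_edge (F_1960 IH) (path_nil _))))
theorem F_2032 (IH : D.IHyp) : ed Gen.c V_480 = V_480 :=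
  gap_rel RW_19 (path_edge (F_1961 IH) (path_edge (F_2022 IH) (path_edge (F_1960 IH) (path_nil _))))
theorem F_2033 (IH : D.IHyp) : ed Gen.b V_479 = V_479 :=
  gap_rel RW_4 (path_edge (F_1959 IH) (path_edge (F_2031 IH) (path_edge (F_1958 IH) (path_nil _))))
theorem F_2035 (IH : D.IHyp) : ed Gen.h V_478 = V_478 :=
  gap_rel RW_13 (path_edge (F_1957 IH) (path_edge (F_2028 IH) (path_edge (F_1956 IH) (path_nil _))))
theorem F_2036 (IH : D.IHyp) : ed Gen.e V_479 = V_479 :=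
  gap_rel RW_29 (path_edge (F_1959 IH) (path_edge (F_2030 IH) (path_edge (F_1545 IH) (path_edge (F_2029 IH) (path_edge (F_1958 IH) (path_nil _))))))
theorem F_2038 (IH : D.IHyp) : ed Gen.i V_369 = V_480 :=
  gap_rel RW_9 (path_edge (F_1523 IH) (path_edge (F_1599 IH) (path_edge (F_2029 IH) (path_nil _))))
theorem F_2039 (IH : D.IHyp) : ed Gen.i V_480 = V_369 :=
  flipE D.rels D.S (hinv Gen.i) (F_2038 IH)
theorem F_2096 (IH : D.IHyp) : ed Gen.f V_247 = V_488 :=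
  rfl
theorem F_2097 (IH : D.IHyp) : ed Gen.f V_488 = V_247 :=
  flipE D.rels D.S (hinv Gen.f) (F_2096 IH)
theorem F_2098 (IH : D.IHyp) : ed Gen.c V_251 = V_488 :=
  gap_rel RW_18 (path_edge (F_509 IH) (path_edge (F_381 IH) (path_edge (F_2097 IH) (path_nil _))))
theorem F_2099 (IH : D.IHyp) : ed Gen.c V_488 = V_251 :=
  flipE D.rels D.S (hinv Gen.c) (F_2098 IH)
theorem F_2100 (IH : D.IHyp) : ed Gen.d V_488 = V_488 :=
  gap_rel RW_34 (path_edge (F_2096 IH) (path_edge (F_387 IH) (path_edge (F_2097 IH) (path_nil _))))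
theorem F_2101 (IH : D.IHyp) : ed Gen.h V_488 = V_488 :=
  gap_rel RW_13 (path_edge (F_2096 IH) (path_edge (F_384 IH) (path_edge (F_2097 IH) (path_nil _))))
theorem F_2102 (IH : D.IHyp) : ed Gen.i V_488 = V_488 :=
  gap_rel RW_14 (path_edge (F_2096 IH) (path_edge (F_385 IH) (path_edge (F_2097 IH) (path_nil _))))
theorem F_2103 (IH : D.IHyp) : ed Gen.e V_488 = V_488 :=
  gap_rel RW_15 (path_edge (F_2096 IH) (path_edge (F_374 IH) (path_edge (F_4 IH) (path_edge (F_375 IH) (path_edge (F_2097 IH) (path_nil _))))))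
theorem F_2104 (IH : D.IHyp) : ed Gen.h V_250 = V_489 :=
  rfl
theorem F_2105 (IH : D.IHyp) : ed Gen.h V_489 = V_250 :=
  flipE D.rels D.S (hinv Gen.h) (F_2104 IH)
theorem F_2106 (IH : D.IHyp) : ed Gen.b V_489 = V_489 :=
  gap_rel RW_31 (path_edge (F_2104 IH) (path_edge (F_503 IH) (path_edge (F_2105 IH) (path_nil _))))
theorem F_2107 (IH : D.IHyp) : ed Gen.c V_489 = V_489 :=
  gap_rel RW_19 (path_edge (F_2104 IH) (path_edge (F_507 IH) (path_edge (F_2105 IH) (path_nil _))))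
theorem F_2108 (IH : D.IHyp) : ed Gen.f V_375 = V_489 :=
  gap_rel RW_27 (path_edge (F_1535 IH) (path_edge (F_1540 IH) (path_edge (F_2105 IH) (path_nil _))))
theorem F_2109 (IH : D.IHyp) : ed Gen.f V_489 = V_375 :=
  flipE D.rels D.S (hinv Gen.f) (F_2108 IH)
theorem F_2110 (IH : D.IHyp) : ed Gen.d V_489 = V_489 :=
  gap_rel RW_28 (path_edge (F_2104 IH) (path_edge (F_505 IH) (path_edge (F_372 IH) (path_edge (F_506 IH) (path_edge (F_2105 IH) (path_nil _))))))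
theorem F_2111 (IH : D.IHyp) : ed Gen.b V_488 = V_490 :=
  rfl
theorem F_2112 (IH : D.IHyp) : ed Gen.b V_490 = V_488 :=
  flipE D.rels D.S (hinv Gen.b) (F_2111 IH)
theorem F_2113 (IH : D.IHyp) : ed Gen.d V_490 = V_490 :=
  gap_rel RW_22 (path_edge (F_2111 IH) (path_edge (F_2100 IH) (path_edge (F_2112 IH) (path_nil _))))
theorem F_2114 (IH : D.IHyp) : ed Gen.e V_490 = V_490 :=
  gap_rel RW_38 (path_edge (F_2111 IH) (path_edge (F_2103 IH) (path_edge (F_2112 IH) (path_nil _))))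
theorem F_2115 (IH : D.IHyp) : ed Gen.f V_490 = (D.P 112) :=
  gap_rel RW_39 (path_edge (F_2111 IH) (path_edge (F_2096 IH) (path_edge (F_377 IH) (path_nil _))))
theorem F_2116 (IH : D.IHyp) : ed Gen.f (D.P 112) = V_490 :=
  flipE D.rels D.S (hinv Gen.f) (F_2115 IH)
theorem F_2120 (IH : D.IHyp) : ed Gen.f (D.P 193) = V_491 :=
  rfl
theorem F_2121 (IH : D.IHyp) : ed Gen.f V_491 = (D.P 193) :=
  flipE D.rels D.S (hinv Gen.f) (F_2120 IH)
theorem F_2123 (IH : D.IHyp) : ed Gen.c (D.P 192) = V_491 :=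
  gap_rel RW_18 (path_edge (F_407 IH) (path_edge (F_792 IH) (path_edge (F_2121 IH) (path_nil _))))
theorem F_2124 (IH : D.IHyp) : ed Gen.c V_491 = (D.P 192) :=
  flipE D.rels D.S (hinv Gen.c) (F_2123 IH)
theorem F_2356 (IH : D.IHyp) : ed Gen.b (D.P 131) = V_543 :=
  rfl
theorem F_2357 (IH : D.IHyp) : ed Gen.b V_543 = (D.P 131) :=
  flipE D.rels D.S (hinv Gen.b) (F_2356 IH)
theorem F_2358 (IH : D.IHyp) : ed Gen.d V_543 = V_543 :=
  gap_rel RW_22 (path_edge (F_2356 IH) (path_edge (F_1276 IH) (path_edge (F_2357 IH) (path_nil _))))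
theorem F_2359 (IH : D.IHyp) : ed Gen.b (D.P 133) = (D.P 108) :=
  D.real_edge' IH Gen.b 133 108 (by decide +kernel)
theorem F_2360 (IH : D.IHyp) : ed Gen.f (D.P 108) = (D.P 131) :=
  D.real_edge' IH Gen.f 108 131 (by decide +kernel)
theorem F_2361 (IH : D.IHyp) : ed Gen.f V_543 = (D.P 133) :=
  gap_rel RW_39 (path_edge (F_2356 IH) (path_edge (F_2360 IH) (path_edge (F_2359 IH) (path_nil _))))
theorem F_2362 (IH : D.IHyp) : ed Gen.f (D.P 133) = V_543 :=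
  flipE D.rels D.S (hinv Gen.f) (F_2361 IH)
theorem F_2363 (IH : D.IHyp) : ed Gen.h V_543 = V_543 :=
  gap_rel RW_40 (path_edge (F_2356 IH) (path_edge (F_1278 IH) (path_edge (F_2357 IH) (path_nil _))))
theorem F_2401 (IH : D.IHyp) : ed Gen.e V_543 = V_544 :=
  rfl
theorem F_2402 (IH : D.IHyp) : ed Gen.e V_544 = V_543 :=
  flipE D.rels D.S (hinv Gen.e) (F_2401 IH)
theorem F_2404 (IH : D.IHyp) : ed Gen.h V_544 = V_544 :=
  gap_rel RW_8 (path_edge (F_2401 IH) (path_edge (F_2363 IH) (path_edge (F_2402 IH) (path_nil _))))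
theorem F_2406 (IH : D.IHyp) : ed Gen.f V_544 = V_544 :=
  gap_rel RW_41 (path_edge (F_2401 IH) (path_edge (F_2362 IH) (path_edge (F_1841 IH) (path_edge (F_2361 IH) (path_edge (F_2402 IH) (path_nil _))))))
theorem F_2407 (IH : D.IHyp) : ed Gen.d V_544 = V_545 :=
  rfl
theorem F_2408 (IH : D.IHyp) : ed Gen.d V_545 = V_544 :=
  flipE D.rels D.S (hinv Gen.d) (F_2407 IH)
theorem F_2411 (IH : D.IHyp) : ed Gen.e V_545 = V_545 :=
  gap_rel RW_29 (path_edge (F_2407 IH) (path_edge (F_2401 IH) (path_edge (F_2358 IH) (path_edge (F_2402 IH) (path_edge (F_2408 IH) (path_nil _))))))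
theorem F_2412 (IH : D.IHyp) : ed Gen.h V_545 = V_546 :=
  rfl
theorem F_2413 (IH : D.IHyp) : ed Gen.h V_546 = V_545 :=
  flipE D.rels D.S (hinv Gen.h) (F_2412 IH)
theorem F_2414 (IH : D.IHyp) : ed Gen.e V_546 = V_546 :=
  gap_rel RW_26 (path_edge (F_2412 IH) (path_edge (F_2411 IH) (path_edge (F_2413 IH) (path_nil _))))
theorem F_2416 (IH : D.IHyp) : ed Gen.d V_546 = V_546 :=
  gap_rel RW_28 (path_edge (F_2412 IH) (path_edge (F_2407 IH) (path_edge (F_2404 IH) (path_edge (F_2408 IH) (path_edge (F_2413 IH) (path_nil _))))))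
theorem F_2417 (IH : D.IHyp) : ed Gen.i V_546 = V_547 :=
  rfl
theorem F_2418 (IH : D.IHyp) : ed Gen.i V_547 = V_546 :=
  flipE D.rels D.S (hinv Gen.i) (F_2417 IH)
theorem F_2419 (IH : D.IHyp) : ed Gen.d V_547 = V_547 :=
  gap_rel RW_35 (path_edge (F_2417 IH) (path_edge (F_2416 IH) (path_edge (F_2418 IH) (path_nil _))))
theorem F_2420 (IH : D.IHyp) : ed Gen.e V_547 = V_547 :=
  gap_rel RW_25 (path_edge (F_2417 IH) (path_edge (F_2414 IH) (path_edge (F_2418 IH) (path_nil _))))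
theorem F_2423 (IH : D.IHyp) : ed Gen.c V_547 = V_548 :=
  rfl
theorem F_2424 (IH : D.IHyp) : ed Gen.c V_548 = V_547 :=
  flipE D.rels D.S (hinv Gen.c) (F_2423 IH)
theorem F_2425 (IH : D.IHyp) : ed Gen.e V_548 = V_548 :=
  gap_rel RW_24 (path_edge (F_2423 IH) (path_edge (F_2420 IH) (path_edge (F_2424 IH) (path_nil _))))
theorem F_2428 (IH : D.IHyp) : ed Gen.b V_548 = V_549 :=
  rfl
theorem F_2429 (IH : D.IHyp) : ed Gen.b V_549 = V_548 :=
  flipE D.rels D.S (hinv Gen.b) (F_2428 IH)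
theorem F_2430 (IH : D.IHyp) : ed Gen.e V_549 = V_549 :=
  gap_rel RW_38 (path_edge (F_2428 IH) (path_edge (F_2425 IH) (path_edge (F_2429 IH) (path_nil _))))
theorem F_2433 (IH : D.IHyp) : ed Gen.d V_549 = V_550 :=
  rfl
theorem F_2434 (IH : D.IHyp) : ed Gen.d V_550 = V_549 :=
  flipE D.rels D.S (hinv Gen.d) (F_2433 IH)
theorem F_2436 (IH : D.IHyp) : ed Gen.e V_550 = V_551 :=
  rfl
theorem F_2437 (IH : D.IHyp) : ed Gen.e V_551 = V_550 :=
  flipE D.rels D.S (hinv Gen.e) (F_2436 IH)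
theorem F_2438 (IH : D.IHyp) : ed Gen.d V_551 = V_551 :=
  gap_rel RW_11 (path_edge (F_2436 IH) (path_edge (F_2433 IH) (path_edge (F_2430 IH) (path_edge (F_2434 IH) (path_edge (F_2437 IH) (path_nil _))))))
theorem F_2439 (IH : D.IHyp) : ed Gen.f V_551 = V_552 :=
  rfl
theorem F_2440 (IH : D.IHyp) : ed Gen.f V_552 = V_551 :=
  flipE D.rels D.S (hinv Gen.f) (F_2439 IH)
theorem F_2441 (IH : D.IHyp) : ed Gen.d V_552 = V_552 :=
  gap_rel RW_34 (path_edge (F_2439 IH) (path_edge (F_2438 IH) (path_edge (F_2440 IH) (path_nil _))))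
theorem F_2443 (IH : D.IHyp) : ed Gen.h V_552 = V_553 :=
  rfl
theorem F_2444 (IH : D.IHyp) : ed Gen.h V_553 = V_552 :=
  flipE D.rels D.S (hinv Gen.h) (F_2443 IH)
theorem F_2446 (IH : D.IHyp) : ed Gen.i V_553 = V_554 :=
  rfl
theorem F_2447 (IH : D.IHyp) : ed Gen.i V_554 = V_553 :=
  flipE D.rels D.S (hinv Gen.i) (F_2446 IH)
theorem F_2449 (IH : D.IHyp) : ed Gen.d V_554 = V_555 :=
  rfl
theorem F_2450 (IH : D.IHyp) : ed Gen.d V_555 = V_554 :=
  flipE D.rels D.S (hinv Gen.d) (F_2449 IH)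
theorem F_2451 (IH : D.IHyp) : ed Gen.c V_555 = V_556 :=
  rfl
theorem F_2452 (IH : D.IHyp) : ed Gen.c V_556 = V_555 :=
  flipE D.rels D.S (hinv Gen.c) (F_2451 IH)
theorem F_2453 (IH : D.IHyp) : ed Gen.b V_556 = V_557 :=
  rfl
theorem F_2454 (IH : D.IHyp) : ed Gen.b V_557 = V_556 :=
  flipE D.rels D.S (hinv Gen.b) (F_2453 IH)
theorem F_2455 (IH : D.IHyp) : ed Gen.d V_557 = V_558 :=
  rfl
theorem F_2456 (IH : D.IHyp) : ed Gen.d V_558 = V_557 :=
  flipE D.rels D.S (hinv Gen.d) (F_2455 IH)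
theorem F_2457 (IH : D.IHyp) : ed Gen.e V_558 = V_559 :=
  rfl
theorem F_2458 (IH : D.IHyp) : ed Gen.e V_559 = V_558 :=
  flipE D.rels D.S (hinv Gen.e) (F_2457 IH)
theorem F_2459 (IH : D.IHyp) : ed Gen.f V_559 = V_560 :=
  rfl
theorem F_2460 (IH : D.IHyp) : ed Gen.f V_560 = V_559 :=
  flipE D.rels D.S (hinv Gen.f) (F_2459 IH)
theorem F_2461 (IH : D.IHyp) : ed Gen.d V_560 = V_561 :=
  rfl
theorem F_2462 (IH : D.IHyp) : ed Gen.d V_561 = V_560 :=
  flipE D.rels D.S (hinv Gen.d) (F_2461 IH)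
theorem F_2463 (IH : D.IHyp) : ed Gen.h V_561 = V_562 :=
  rfl
theorem F_2464 (IH : D.IHyp) : ed Gen.h V_562 = V_561 :=
  flipE D.rels D.S (hinv Gen.h) (F_2463 IH)
theorem F_2465 (IH : D.IHyp) : ed Gen.i V_562 = V_563 :=
  rfl
theorem F_2466 (IH : D.IHyp) : ed Gen.i V_563 = V_562 :=
  flipE D.rels D.S (hinv Gen.i) (F_2465 IH)
theorem F_2467 (IH : D.IHyp) : ed Gen.d V_563 = V_564 :=
  rfl
theorem F_2468 (IH : D.IHyp) : ed Gen.d V_564 = V_563 :=
  flipE D.rels D.S (hinv Gen.d) (F_2467 IH)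
theorem F_2469 (IH : D.IHyp) : ed Gen.c V_564 = V_565 :=
  rfl
theorem F_2470 (IH : D.IHyp) : ed Gen.c V_565 = V_564 :=
  flipE D.rels D.S (hinv Gen.c) (F_2469 IH)
theorem F_2471 (IH : D.IHyp) : ed Gen.b V_565 = V_566 :=
  rfl
theorem F_2472 (IH : D.IHyp) : ed Gen.b V_566 = V_565 :=
  flipE D.rels D.S (hinv Gen.b) (F_2471 IH)
theorem F_2473 (IH : D.IHyp) : ed Gen.d V_566 = V_567 :=
  rfl
theorem F_2474 (IH : D.IHyp) : ed Gen.d V_567 = V_566 :=
  flipE D.rels D.S (hinv Gen.d) (F_2473 IH)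
theorem F_2475 (IH : D.IHyp) : ed Gen.e V_567 = V_568 :=
  rfl
theorem F_2476 (IH : D.IHyp) : ed Gen.e V_568 = V_567 :=
  flipE D.rels D.S (hinv Gen.e) (F_2475 IH)
theorem F_2477 (IH : D.IHyp) : ed Gen.f V_568 = V_569 :=
  rfl
theorem F_2478 (IH : D.IHyp) : ed Gen.f V_569 = V_568 :=
  flipE D.rels D.S (hinv Gen.f) (F_2477 IH)
theorem F_2479 (IH : D.IHyp) : ed Gen.d V_569 = V_570 :=
  rfl
theorem F_2480 (IH : D.IHyp) : ed Gen.d V_570 = V_569 :=
  flipE D.rels D.S (hinv Gen.d) (F_2479 IH)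
theorem F_2481 (IH : D.IHyp) : ed Gen.h V_570 = V_571 :=
  rfl
theorem F_2482 (IH : D.IHyp) : ed Gen.h V_571 = V_570 :=
  flipE D.rels D.S (hinv Gen.h) (F_2481 IH)
theorem F_2483 (IH : D.IHyp) : ed Gen.i V_571 = V_572 :=
  rfl
theorem F_2484 (IH : D.IHyp) : ed Gen.i V_572 = V_571 :=
  flipE D.rels D.S (hinv Gen.i) (F_2483 IH)
theorem F_2485 (IH : D.IHyp) : ed Gen.d V_572 = V_573 :=
  rfl
theorem F_2486 (IH : D.IHyp) : ed Gen.d V_573 = V_572 :=
  flipE D.rels D.S (hinv Gen.d) (F_2485 IH)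
theorem F_2487 (IH : D.IHyp) : ed Gen.c V_573 = V_479 :=
  gap_rel RW_42 (path_edge (F_2485 IH) (path_edge (F_2483 IH) (path_edge (F_2481 IH) (path_edge (F_2479 IH) (path_edge (F_2477 IH) (path_edge (F_2475 IH) (path_edge (F_2473 IH) (path_edge (F_2471 IH) (path_edge (F_2469 IH) (path_edge (F_2467 IH) (path_edge (F_2465 IH) (path_edge (F_2463 IH) (path_edge (F_2461 IH) (path_edge (F_2459 IH) (path_edge (F_2457 IH) (path_edge (F_2455 IH) (path_edge (F_2453 IH) (path_edge (F_2451 IH) (path_edge (F_2449 IH) (path_edge (F_2446 IH) (path_edge (F_2443 IH) (path_edge (F_2441 IH) (path_edge (F_2439 IH) (path_edge (F_2436 IH) (path_edge (F_2433 IH) (path_edge (F_2428 IH) (path_edge (F_2423 IH) (path_edge (F_2419 IH) (path_edge (F_2417 IH) (path_edge (F_2412 IH) (path_edge (F_2407 IH) (path_edge (F_2406 IH) (path_edge (F_2401 IH) (path_edge (F_2358 IH) (path_edge (F_2356 IH) (path_edge (F_492 IH) (path_edge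 (F_491 IH) (path_edge (F_490 IH) (path_edge (F_489 IH) (path_edge (F_488 IH) (path_edge (F_487 IH) (path_edge (F_486 IH) (path_edge (F_427 IH) (path_edge (F_485 IH) (path_edge (F_484 IH) (path_edge (F_483 IH) (path_edge (F_482 IH) (path_edge (F_481 IH) (path_edge (F_270 IH) (path_edge (F_480 IH) (path_edge (F_479 IH) (path_edge (F_478 IH) (path_edge (F_477 IH) (path_edge (F_476 IH) (path_edge (F_475 IH) (path_edge (F_474 IH) (path_edge (F_473 IH) (path_edge (F_44 IH) (path_edge (F_277 IH) (path_edge (F_472 IH) (path_edge (F_276 IH) (path_edge (F_471 IH) (path_edge (F_470 IH) (path_edge (F_469 IH) (path_edge (F_468 IH) (path_edge (F_467 IH) (path_edge (F_53 IH) (path_edge (F_51 IH) (path_edge (F_466 IH) (path_edge (F_92 IH) (path_edge (F_465 IH) (path_edge (F_464 IH) (path_edge (F_463 IH) (path_edge (F_462 IH) (path_edge (F_390 IH) (path_edge (F_79 IH) (path_edge (F_379 IH) (path_edge (F_383 IH)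 (path_edge (F_459 IH) (path_edge (F_378 IH) (path_edge (F_380 IH) (path_edge (F_506 IH) (path_edge (F_504 IH) (path_edge (F_2105 IH) (path_edge (F_2110 IH) (path_edge (F_2108 IH) (path_edge (F_2029 IH) (path_edge (F_1958 IH) (path_edge (F_2033 IH) (path_nil _))))))))))))))))))))))))))))))))))))))))))))))))))))))))))))))))))))))))))))))))))))))))))
theorem F_2488 (IH : D.IHyp) : ed Gen.c V_479 = V_573 :=
  flipE D.rels D.S (hinv Gen.c) (F_2487 IH)
theorem F_2489 (IH : D.IHyp) : ed Gen.e V_573 = V_573 :=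
  gap_rel RW_24 (path_edge (F_2488 IH) (path_edge (F_2036 IH) (path_edge (F_2487 IH) (path_nil _))))
theorem F_2490 (IH : D.IHyp) : ed Gen.h V_573 = V_573 :=
  gap_rel RW_1 (path_edge (F_2488 IH) (path_edge (F_2028 IH) (path_edge (F_2487 IH) (path_nil _))))
theorem F_2491 (IH : D.IHyp) : V_573 = V_572 :=
  loop_rel RW_21 (path_edge (F_2486 IH) (path_edge (F_2488 IH) (path_edge (F_1959 IH) (path_edge (F_2032 IH) (path_edge (F_1958 IH) (path_edge (F_2487 IH) (path_nil _)))))))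
theorem F_2492 (IH : D.IHyp) : ed Gen.c V_572 = V_479 :=
  edge_congr (F_2487 IH) (F_2491 IH)
theorem F_2493 (IH : D.IHyp) : ed Gen.c V_479 = V_572 :=
  flipE D.rels D.S (hinv Gen.c) (F_2492 IH)
theorem F_2495 (IH : D.IHyp) : ed Gen.e V_573 = V_572 :=
  (F_2489 IH).trans (F_2491 IH)
theorem F_2496 (IH : D.IHyp) : ed Gen.e V_572 = V_572 :=
  edge_congr (F_2495 IH) (F_2491 IH)
theorem F_2497 (IH : D.IHyp) : ed Gen.h V_573 = V_572 :=
  (F_2490 IH).trans (F_2491 IH)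
theorem F_2498 (IH : D.IHyp) : ed Gen.h V_572 = V_572 :=
  edge_congr (F_2497 IH) (F_2491 IH)
theorem F_2499 (IH : D.IHyp) : ed Gen.i V_570 = V_570 :=
  gap_rel RW_43 (path_edge (F_2482 IH) (path_edge (F_2484 IH) (path_edge (F_2498 IH) (path_edge (F_2483 IH) (path_edge (F_2481 IH) (path_nil _))))))
theorem F_2501 (IH : D.IHyp) : ed Gen.e V_571 = V_571 :=
  gap_rel RW_25 (path_edge (F_2484 IH) (path_edge (F_2496 IH) (path_edge (F_2483 IH) (path_nil _))))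
theorem F_2502 (IH : D.IHyp) : ed Gen.i V_569 = V_569 :=
  gap_rel RW_5 (path_edge (F_2480 IH) (path_edge (F_2499 IH) (path_edge (F_2479 IH) (path_nil _))))
theorem F_2503 (IH : D.IHyp) : ed Gen.e V_570 = V_570 :=
  gap_rel RW_26 (path_edge (F_2482 IH) (path_edge (F_2501 IH) (path_edge (F_2481 IH) (path_nil _))))
theorem F_2506 (IH : D.IHyp) : ed Gen.i V_568 = V_568 :=
  gap_rel RW_14 (path_edge (F_2478 IH) (path_edge (F_2502 IH) (path_edge (F_2477 IH) (path_nil _))))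
theorem F_2508 (IH : D.IHyp) : ed Gen.i V_567 = V_567 :=
  gap_rel RW_9 (path_edge (F_2476 IH) (path_edge (F_2506 IH) (path_edge (F_2475 IH) (path_nil _))))
theorem F_2509 (IH : D.IHyp) : ed Gen.i V_566 = V_566 :=
  gap_rel RW_5 (path_edge (F_2474 IH) (path_edge (F_2508 IH) (path_edge (F_2473 IH) (path_nil _))))
theorem F_2510 (IH : D.IHyp) : ed Gen.i V_565 = V_565 :=
  gap_rel RW_44 (path_edge (F_2472 IH) (path_edge (F_2509 IH) (path_edge (F_2471 IH) (path_nil _))))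
theorem F_2511 (IH : D.IHyp) : ed Gen.i V_564 = V_564 :=
  gap_rel RW_2 (path_edge (F_2470 IH) (path_edge (F_2510 IH) (path_edge (F_2469 IH) (path_nil _))))
theorem F_2512 (IH : D.IHyp) : ed Gen.d V_562 = V_564 :=
  gap_rel RW_35 (path_edge (F_2466 IH) (path_edge (F_2468 IH) (path_edge (F_2511 IH) (path_nil _))))
theorem F_2513 (IH : D.IHyp) : ed Gen.d V_564 = V_562 :=
  flipE D.rels D.S (hinv Gen.d) (F_2512 IH)
theorem F_2514 (IH : D.IHyp) : V_563 = V_562 :=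
  edge_fun (F_2468 IH) (F_2513 IH)
theorem F_2515 (IH : D.IHyp) : ed Gen.d V_562 = V_564 :=
  edge_congr (F_2467 IH) (F_2514 IH)
theorem F_2516 (IH : D.IHyp) : ed Gen.d V_564 = V_562 :=
  flipE D.rels D.S (hinv Gen.d) (F_2515 IH)
theorem F_2518 (IH : D.IHyp) : ed Gen.i V_489 = V_574 :=
  rfl
theorem F_2519 (IH : D.IHyp) : ed Gen.i V_574 = V_489 :=
  flipE D.rels D.S (hinv Gen.i) (F_2518 IH)
theorem F_2523 (IH : D.IHyp) : ed Gen.f V_370 = V_574 :=
  gap_rel RW_36 (path_edge (F_1599 IH) (path_edge (F_2109 IH) (path_edge (F_2519 IH) (path_nil _))))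
theorem F_2524 (IH : D.IHyp) : ed Gen.f V_574 = V_370 :=
  flipE D.rels D.S (hinv Gen.f) (F_2523 IH)
theorem F_2526 (IH : D.IHyp) : ed Gen.e V_574 = V_575 :=
  rfl
theorem F_2527 (IH : D.IHyp) : ed Gen.e V_575 = V_574 :=
  flipE D.rels D.S (hinv Gen.e) (F_2526 IH)
theorem F_2531 (IH : D.IHyp) : ed Gen.f V_575 = V_576 :=
  rfl
theorem F_2532 (IH : D.IHyp) : ed Gen.f V_576 = V_575 :=
  flipE D.rels D.S (hinv Gen.f) (F_2531 IH)
theorem F_2536 (IH : D.IHyp) : ed Gen.e V_368 = V_576 :=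
  gap_rel RW_15 (path_edge (F_1521 IH) (path_edge (F_1523 IH) (path_edge (F_2524 IH) (path_edge (F_2527 IH) (path_edge (F_2532 IH) (path_nil _))))))
theorem F_2537 (IH : D.IHyp) : ed Gen.e V_576 = V_368 :=
  flipE D.rels D.S (hinv Gen.e) (F_2536 IH)
theorem F_2692 (IH : D.IHyp) : ed Gen.e V_489 = V_638 :=
  rfl
theorem F_2693 (IH : D.IHyp) : ed Gen.e V_638 = V_489 :=
  flipE D.rels D.S (hinv Gen.e) (F_2692 IH)
theorem F_2694 (IH : D.IHyp) : ed Gen.b V_638 = V_638 :=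
  gap_rel RW_7 (path_edge (F_2692 IH) (path_edge (F_2106 IH) (path_edge (F_2693 IH) (path_nil _))))
theorem F_2695 (IH : D.IHyp) : ed Gen.c V_638 = V_638 :=
  gap_rel RW_10 (path_edge (F_2692 IH) (path_edge (F_2107 IH) (path_edge (F_2693 IH) (path_nil _))))
theorem F_2696 (IH : D.IHyp) : ed Gen.h V_638 = V_249 :=
  gap_rel RW_8 (path_edge (F_2692 IH) (path_edge (F_2104 IH) (path_edge (F_501 IH) (path_nil _))))
theorem F_2697 (IH : D.IHyp) : ed Gen.h V_249 = V_638 :=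
  flipE D.rels D.S (hinv Gen.h) (F_2696 IH)
theorem F_2698 (IH : D.IHyp) : ed Gen.i V_638 = V_575 :=
  gap_rel RW_9 (path_edge (F_2692 IH) (path_edge (F_2519 IH) (path_edge (F_2527 IH) (path_nil _))))
theorem F_2699 (IH : D.IHyp) : ed Gen.i V_575 = V_638 :=
  flipE D.rels D.S (hinv Gen.i) (F_2698 IH)
theorem F_2700 (IH : D.IHyp) : ed Gen.f V_638 = V_282 :=
  gap_rel RW_27 (path_edge (F_2697 IH) (path_edge (F_737 IH) (path_edge (F_729 IH) (path_nil _))))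
theorem F_2702 (IH : D.IHyp) : ed Gen.f V_281 = V_575 :=
  gap_rel RW_36 (path_edge (F_728 IH) (path_edge (F_2700 IH) (path_edge (F_2699 IH) (path_nil _))))
theorem F_2703 (IH : D.IHyp) : ed Gen.f V_575 = V_281 :=
  flipE D.rels D.S (hinv Gen.f) (F_2702 IH)
theorem F_2704 (IH : D.IHyp) : V_576 = V_281 :=
  edge_fun (F_2531 IH) (F_2703 IH)
theorem F_2712 (IH : D.IHyp) : ed Gen.e V_281 = V_368 :=
  edge_congr (F_2537 IH) (F_2704 IH)
theorem F_2713 (IH : D.IHyp) : ed Gen.e V_368 = V_281 :=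
  flipE D.rels D.S (hinv Gen.e) (F_2712 IH)
theorem F_2724 (IH : D.IHyp) : ed Gen.d V_638 = V_639 :=
  rfl
theorem F_2725 (IH : D.IHyp) : ed Gen.d V_639 = V_638 :=
  flipE D.rels D.S (hinv Gen.d) (F_2724 IH)
theorem F_2726 (IH : D.IHyp) : ed Gen.b V_639 = V_639 :=
  gap_rel RW_4 (path_edge (F_2724 IH) (path_edge (F_2694 IH) (path_edge (F_2725 IH) (path_nil _))))
theorem F_2728 (IH : D.IHyp) : ed Gen.h V_639 = V_328 :=
  gap_rel RW_37 (path_edge (F_2724 IH) (path_edge (F_2697 IH) (path_edge (F_497 IH) (path_edge (F_998 IH) (path_edge (F_991 IH) (path_nil _))))))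
theorem F_2729 (IH : D.IHyp) : ed Gen.h V_328 = V_639 :=
  flipE D.rels D.S (hinv Gen.h) (F_2728 IH)
theorem F_2730 (IH : D.IHyp) : ed Gen.c V_639 = V_640 :=
  rfl
theorem F_2731 (IH : D.IHyp) : ed Gen.c V_640 = V_639 :=
  flipE D.rels D.S (hinv Gen.c) (F_2730 IH)
theorem F_2733 (IH : D.IHyp) : ed Gen.h V_640 = V_327 :=
  gap_rel RW_1 (path_edge (F_2730 IH) (path_edge (F_2729 IH) (path_edge (F_978 IH) (path_nil _))))
theorem F_2734 (IH : D.IHyp) : ed Gen.h V_327 = V_640 :=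
  flipE D.rels D.S (hinv Gen.h) (F_2733 IH)
theorem F_2735 (IH : D.IHyp) : ed Gen.d V_640 = V_640 :=
  gap_rel RW_21 (path_edge (F_2730 IH) (path_edge (F_2724 IH) (path_edge (F_2695 IH) (path_edge (F_2725 IH) (path_edge (F_2731 IH) (path_nil _))))))
theorem F_2736 (IH : D.IHyp) : ed Gen.i V_640 = V_641 :=
  rfl
theorem F_2737 (IH : D.IHyp) : ed Gen.i V_641 = V_640 :=
  flipE D.rels D.S (hinv Gen.i) (F_2736 IH)
theorem F_2740 (IH : D.IHyp) : ed Gen.h V_641 = V_642 :=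
  rfl
theorem F_2743 (IH : D.IHyp) : ed Gen.d V_642 = V_643 :=
  rfl
theorem F_2746 (IH : D.IHyp) : ed Gen.f V_643 = V_644 :=
  rfl
theorem F_2749 (IH : D.IHyp) : ed Gen.e V_644 = V_645 :=
  rfl
theorem F_2752 (IH : D.IHyp) : ed Gen.d V_645 = V_646 :=
  rfl
theorem F_2754 (IH : D.IHyp) : ed Gen.b V_646 = V_647 :=
  rfl
theorem F_2756 (IH : D.IHyp) : ed Gen.c V_647 = V_648 :=
  rfl
theorem F_2758 (IH : D.IHyp) : ed Gen.d V_648 = V_649 :=
  rfl
theorem F_2760 (IH : D.IHyp) : ed Gen.i V_649 = V_650 :=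
  rfl
theorem F_2762 (IH : D.IHyp) : ed Gen.h V_650 = V_651 :=
  rfl
theorem F_2764 (IH : D.IHyp) : ed Gen.d V_651 = V_652 :=
  rfl
theorem F_2766 (IH : D.IHyp) : ed Gen.f V_652 = V_653 :=
  rfl
theorem F_2768 (IH : D.IHyp) : ed Gen.e V_653 = V_654 :=
  rfl
theorem F_2770 (IH : D.IHyp) : ed Gen.d V_654 = V_655 :=
  rfl
theorem F_2772 (IH : D.IHyp) : ed Gen.b V_655 = V_656 :=
  rfl
theorem F_2774 (IH : D.IHyp) : ed Gen.c V_656 = V_657 :=
  rfl
theorem F_2776 (IH : D.IHyp) : ed Gen.d V_657 = V_658 :=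
  rfl
theorem F_2778 (IH : D.IHyp) : ed Gen.i V_658 = V_659 :=
  rfl
theorem F_2780 (IH : D.IHyp) : ed Gen.h V_659 = V_660 :=
  rfl
theorem F_2782 (IH : D.IHyp) : ed Gen.d V_660 = V_661 :=
  rfl
theorem F_2784 (IH : D.IHyp) : ed Gen.f V_661 = V_662 :=
  rfl
theorem F_2786 (IH : D.IHyp) : ed Gen.e V_662 = V_663 :=
  rfl
theorem F_2788 (IH : D.IHyp) : ed Gen.d V_663 = V_664 :=
  rfl
theorem F_2790 (IH : D.IHyp) : ed Gen.b V_664 = V_665 :=
  rfl
theorem F_2792 (IH : D.IHyp) : ed Gen.c V_665 = V_666 :=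
  rfl
theorem F_2794 (IH : D.IHyp) : ed Gen.d V_666 = V_667 :=
  rfl
theorem F_2796 (IH : D.IHyp) : ed Gen.i V_667 = V_668 :=
  rfl
theorem F_2798 (IH : D.IHyp) : ed Gen.h V_668 = V_669 :=
  rfl
theorem F_2800 (IH : D.IHyp) : ed Gen.d V_669 = V_670 :=
  rfl
theorem F_2802 (IH : D.IHyp) : ed Gen.f V_670 = V_671 :=
  rfl
theorem F_2804 (IH : D.IHyp) : ed Gen.e V_671 = V_672 :=
  rfl
theorem F_2806 (IH : D.IHyp) : ed Gen.d V_672 = V_673 :=
  rfl
theorem F_2808 (IH : D.IHyp) : ed Gen.b V_673 = V_674 :=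
  rfl
theorem F_2810 (IH : D.IHyp) : ed Gen.c V_674 = V_675 :=
  rfl
theorem F_2812 (IH : D.IHyp) : ed Gen.d V_675 = V_676 :=
  rfl
theorem F_2814 (IH : D.IHyp) : ed Gen.i V_676 = V_677 :=
  rfl
theorem F_2816 (IH : D.IHyp) : ed Gen.h V_677 = V_678 :=
  rfl
theorem F_2818 (IH : D.IHyp) : ed Gen.d V_678 = V_679 :=
  rfl
theorem F_2820 (IH : D.IHyp) : ed Gen.f V_679 = V_680 :=
  rfl
theorem F_2822 (IH : D.IHyp) : ed Gen.e V_680 = V_681 :=
  rfl
theorem F_2824 (IH : D.IHyp) : ed Gen.d V_681 = V_682 :=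
  rfl
theorem F_2826 (IH : D.IHyp) : ed Gen.b V_682 = (D.P 224) :=
  gap_rel RW_45 (path_edge (F_2824 IH) (path_edge (F_2822 IH) (path_edge (F_2820 IH) (path_edge (F_2818 IH) (path_edge (F_2816 IH) (path_edge (F_2814 IH) (path_edge (F_2812 IH) (path_edge (F_2810 IH) (path_edge (F_2808 IH) (path_edge (F_2806 IH) (path_edge (F_2804 IH) (path_edge (F_2802 IH) (path_edge (F_2800 IH) (path_edge (F_2798 IH) (path_edge (F_2796 IH) (path_edge (F_2794 IH) (path_edge (F_2792 IH) (path_edge (F_2790 IH) (path_edge (F_2788 IH) (path_edge (F_2786 IH) (path_edge (F_2784 IH) (path_edge (F_2782 IH) (path_edge (F_2780 IH) (path_edge (F_2778 IH) (path_edge (F_2776 IH) (path_edge (F_2774 IH) (path_edge (F_2772 IH) (path_edge (F_2770 IH) (path_edge (F_2768 IH) (path_edge (F_2766 IH) (path_edge (F_2764 IH) (path_edge (F_2762 IH) (path_edge (F_2760 IH) (path_edge (F_2758 IH) (path_edge (F_2756 IH) (path_edge (F_2754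 IH) (path_edge (F_2752 IH) (path_edge (F_2749 IH) (path_edge (F_2746 IH) (path_edge (F_2743 IH) (path_edge (F_2740 IH) (path_edge (F_2736 IH) (path_edge (F_2735 IH) (path_edge (F_2730 IH) (path_edge (F_2726 IH) (path_edge (F_2724 IH) (path_edge (F_2692 IH) (path_edge (F_2108 IH) (path_edge (F_1545 IH) (path_edge (F_1535 IH) (path_edge (F_1542 IH) (path_edge (F_1537 IH) (path_edge (F_2099 IH) (path_edge (F_2112 IH) (path_edge (F_2113 IH) (path_edge (F_2114 IH) (path_edge (F_2116 IH) (path_edge (F_459 IH) (path_edge (F_461 IH) (path_edge (F_460 IH) (path_edge (F_459 IH) (path_edge (F_458 IH) (path_edge (F_378 IH) (path_edge (F_387 IH) (path_edge (F_374 IH) (path_edge (F_4 IH) (path_edge (F_121 IH) (path_edge (F_388 IH) (path_edge (F_1230 IH) (path_edge (F_442 IH) (path_edge (F_1076 IH) (path_edge (F_1355 IH) (path_edge (F_309 IH) (path_edge (F_1354 IH) (path_edge (F_1064 IH) (path_edge (F_345 IH)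 (path_edge (F_1353 IH) (path_edge (F_1352 IH) (path_edge (F_1253 IH) (path_edge (F_449 IH) (path_edge (F_1351 IH) (path_edge (F_1350 IH) (path_edge (F_452 IH) (path_edge (F_1349 IH) (path_edge (F_564 IH) (path_edge (F_1348 IH) (path_edge (F_455 IH) (path_edge (F_1330 IH) (path_edge (F_781 IH) (path_nil _))))))))))))))))))))))))))))))))))))))))))))))))))))))))))))))))))))))))))))))))))))))))))
theorem F_2827 (IH : D.IHyp) : ed Gen.b (D.P 224) = V_682 :=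
  flipE D.rels D.S (hinv Gen.b) (F_2826 IH)
theorem F_2835 (IH : D.IHyp) : ed Gen.h V_285 = V_682 :=
  gap_rel RW_40 (path_edge (F_761 IH) (path_edge (F_616 IH) (path_edge (F_2826 IH) (path_nil _))))
theorem F_2836 (IH : D.IHyp) : ed Gen.h V_682 = V_285 :=
  flipE D.rels D.S (hinv Gen.h) (F_2835 IH)
theorem F_2837 (IH : D.IHyp) : ed Gen.i V_682 = V_682 :=
  gap_rel RW_44 (path_edge (F_2827 IH) (path_edge (F_615 IH) (path_edge (F_2826 IH) (path_nil _))))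
theorem F_2869 (IH : D.IHyp) : ed Gen.h (D.P 232) = V_683 :=
  rfl
theorem F_2870 (IH : D.IHyp) : ed Gen.h V_683 = (D.P 232) :=
  flipE D.rels D.S (hinv Gen.h) (F_2869 IH)
theorem F_2872 (IH : D.IHyp) : ed Gen.e (D.P 232) = (D.P 232) :=
  D.real_edge' IH Gen.e 232 232 (by decide +kernel)
theorem F_2873 (IH : D.IHyp) : ed Gen.f (D.P 232) = (D.P 232) :=
  D.real_edge' IH Gen.f 232 232 (by decide +kernel)
theorem F_2874 (IH : D.IHyp) : ed Gen.b V_683 = V_683 :=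
  gap_rel RW_31 (path_edge (F_2869 IH) (path_edge (F_1435 IH) (path_edge (F_2870 IH) (path_nil _))))
theorem F_2877 (IH : D.IHyp) : ed Gen.e V_683 = V_683 :=
  gap_rel RW_26 (path_edge (F_2869 IH) (path_edge (F_2872 IH) (path_edge (F_2870 IH) (path_nil _))))
theorem F_2878 (IH : D.IHyp) : ed Gen.f V_683 = V_683 :=
  gap_rel RW_27 (path_edge (F_2869 IH) (path_edge (F_2873 IH) (path_edge (F_2870 IH) (path_nil _))))
theorem F_2912 (IH : D.IHyp) : ed Gen.d V_683 = V_684 :=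
  rfl
theorem F_2913 (IH : D.IHyp) : ed Gen.d V_684 = V_683 :=
  flipE D.rels D.S (hinv Gen.d) (F_2912 IH)
theorem F_2914 (IH : D.IHyp) : ed Gen.b V_684 = V_684 :=
  gap_rel RW_4 (path_edge (F_2912 IH) (path_edge (F_2874 IH) (path_edge (F_2913 IH) (path_nil _))))
theorem F_2915 (IH : D.IHyp) : ed Gen.f V_684 = V_684 :=
  gap_rel RW_17 (path_edge (F_2912 IH) (path_edge (F_2878 IH) (path_edge (F_2913 IH) (path_nil _))))
theorem F_2916 (IH : D.IHyp) : ed Gen.e V_684 = V_685 :=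
  rfl
theorem F_2917 (IH : D.IHyp) : ed Gen.e V_685 = V_684 :=
  flipE D.rels D.S (hinv Gen.e) (F_2916 IH)
theorem F_2918 (IH : D.IHyp) : ed Gen.b V_685 = V_685 :=
  gap_rel RW_7 (path_edge (F_2916 IH) (path_edge (F_2914 IH) (path_edge (F_2917 IH) (path_nil _))))
theorem F_2919 (IH : D.IHyp) : ed Gen.d V_685 = V_685 :=
  gap_rel RW_11 (path_edge (F_2916 IH) (path_edge (F_2912 IH) (path_edge (F_2877 IH) (path_edge (F_2913 IH) (path_edge (F_2917 IH) (path_nil _))))))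
theorem F_2920 (IH : D.IHyp) : ed Gen.c V_685 = V_686 :=
  rfl
theorem F_2921 (IH : D.IHyp) : ed Gen.c V_686 = V_685 :=
  flipE D.rels D.S (hinv Gen.c) (F_2920 IH)
theorem F_2922 (IH : D.IHyp) : ed Gen.d V_686 = V_687 :=
  rfl
theorem F_2923 (IH : D.IHyp) : ed Gen.d V_687 = V_686 :=
  flipE D.rels D.S (hinv Gen.d) (F_2922 IH)
theorem F_2924 (IH : D.IHyp) : ed Gen.c V_687 = V_687 :=
  gap_rel RW_6 (path_edge (F_2922 IH) (path_edge (F_2920 IH) (path_edge (F_2919 IH) (path_edge (F_2921 IH) (path_edge (F_2923 IH) (path_nil _))))))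
theorem F_2925 (IH : D.IHyp) : ed Gen.i V_687 = V_688 :=
  rfl
theorem F_2928 (IH : D.IHyp) : ed Gen.h V_688 = V_689 :=
  rfl
theorem F_2929 (IH : D.IHyp) : ed Gen.h V_689 = V_688 :=
  flipE D.rels D.S (hinv Gen.h) (F_2928 IH)
theorem F_2931 (IH : D.IHyp) : ed Gen.d V_689 = V_690 :=
  rfl
theorem F_2932 (IH : D.IHyp) : ed Gen.d V_690 = V_689 :=
  flipE D.rels D.S (hinv Gen.d) (F_2931 IH)
theorem F_2933 (IH : D.IHyp) : ed Gen.f V_690 = V_691 :=
  rfl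
theorem F_2935 (IH : D.IHyp) : ed Gen.e V_691 = V_692 :=
  rfl
theorem F_2937 (IH : D.IHyp) : ed Gen.d V_692 = V_693 :=
  rfl
theorem F_2939 (IH : D.IHyp) : ed Gen.b V_693 = V_694 :=
  rfl
theorem F_2941 (IH : D.IHyp) : ed Gen.c V_694 = V_695 :=
  rfl
theorem F_2943 (IH : D.IHyp) : ed Gen.d V_695 = V_696 :=
  rfl
theorem F_2945 (IH : D.IHyp) : ed Gen.i V_696 = V_697 :=
  rfl
theorem F_2947 (IH : D.IHyp) : ed Gen.h V_697 = V_698 :=
  rfl
theorem F_2949 (IH : D.IHyp) : ed Gen.d V_698 = V_699 :=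
  rfl
theorem F_2951 (IH : D.IHyp) : ed Gen.f V_699 = V_700 :=
  rfl
theorem F_2953 (IH : D.IHyp) : ed Gen.e V_700 = V_701 :=
  rfl
theorem F_2955 (IH : D.IHyp) : ed Gen.d V_701 = V_702 :=
  rfl
theorem F_2957 (IH : D.IHyp) : ed Gen.b V_702 = V_703 :=
  rfl
theorem F_2959 (IH : D.IHyp) : ed Gen.c V_703 = V_704 :=
  rfl
theorem F_2961 (IH : D.IHyp) : ed Gen.d V_704 = V_705 :=
  rfl
theorem F_2963 (IH : D.IHyp) : ed Gen.i V_705 = V_706 :=
  rfl
theorem F_2965 (IH : D.IHyp) : ed Gen.h V_706 = V_707 :=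
  rfl
theorem F_2967 (IH : D.IHyp) : ed Gen.d V_707 = V_708 :=
  rfl
theorem F_2969 (IH : D.IHyp) : ed Gen.f V_708 = V_709 :=
  rfl
theorem F_2971 (IH : D.IHyp) : ed Gen.e V_709 = V_710 :=
  rfl
theorem F_2973 (IH : D.IHyp) : ed Gen.d V_710 = V_711 :=
  rfl
theorem F_2974 (IH : D.IHyp) : ed Gen.d V_711 = V_710 :=
  flipE D.rels D.S (hinv Gen.d) (F_2973 IH)
theorem F_2975 (IH : D.IHyp) : ed Gen.b V_711 = V_712 :=
  rfl
theorem F_2976 (IH : D.IHyp) : ed Gen.b V_712 = V_711 :=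
  flipE D.rels D.S (hinv Gen.b) (F_2975 IH)
theorem F_2977 (IH : D.IHyp) : ed Gen.c V_712 = V_713 :=
  rfl
theorem F_2978 (IH : D.IHyp) : ed Gen.c V_713 = V_712 :=
  flipE D.rels D.S (hinv Gen.c) (F_2977 IH)
theorem F_2979 (IH : D.IHyp) : ed Gen.d V_713 = V_714 :=
  rfl
theorem F_2980 (IH : D.IHyp) : ed Gen.d V_714 = V_713 :=
  flipE D.rels D.S (hinv Gen.d) (F_2979 IH)
theorem F_2981 (IH : D.IHyp) : ed Gen.i V_714 = V_715 :=
  rfl
theorem F_2982 (IH : D.IHyp) : ed Gen.i V_715 = V_714 :=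
  flipE D.rels D.S (hinv Gen.i) (F_2981 IH)
theorem F_2983 (IH : D.IHyp) : ed Gen.h V_715 = V_716 :=
  rfl
theorem F_2985 (IH : D.IHyp) : ed Gen.d V_716 = V_717 :=
  rfl
theorem F_2986 (IH : D.IHyp) : ed Gen.d V_717 = V_716 :=
  flipE D.rels D.S (hinv Gen.d) (F_2985 IH)
theorem F_2987 (IH : D.IHyp) : ed Gen.f V_717 = V_481 :=
  gap_rel RW_16 (path_edge (F_2985 IH) (path_edge (F_2983 IH) (path_edge (F_2981 IH) (path_edge (F_2979 IH) (path_edge (F_2977 IH) (path_edge (F_2975 IH) (path_edge (F_2973 IH) (path_edge (F_2971 IH) (path_edge (F_2969 IH) (path_edge (F_2967 IH) (path_edge (F_2965 IH) (path_edge (F_2963 IH) (path_edge (F_2961 IH) (path_edge (F_2959 IH) (path_edge (F_2957 IH) (path_edge (F_2955 IH) (path_edge (F_2953 IH) (path_edge (F_2951 IH) (path_edge (F_2949 IH) (path_edge (F_2947 IH) (path_edge (F_2945 IH) (path_edge (F_2943 IH) (path_edge (F_2941 IH) (path_edge (F_2939 IH) (path_edge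 (F_2937 IH) (path_edge (F_2935 IH) (path_edge (F_2933 IH) (path_edge (F_2931 IH) (path_edge (F_2928 IH) (path_edge (F_2925 IH) (path_edge (F_2922 IH) (path_edge (F_2920 IH) (path_edge (F_2918 IH) (path_edge (F_2919 IH) (path_edge (F_2916 IH) (path_edge (F_2915 IH) (path_edge (F_2912 IH) (path_edge (F_2869 IH) (path_edge (F_440 IH) (path_edge (F_439 IH) (path_edge (F_438 IH) (path_edge (F_437 IH) (path_edge (F_239 IH) (path_edge (F_436 IH) (path_edge (F_435 IH) (path_edge (F_71 IH) (path_edge (F_434 IH) (path_edge (F_433 IH) (path_edge (F_228 IH) (path_edge (F_432 IH) (path_edge (F_431 IH) (path_edge (F_430 IH) (path_edge (F_429 IH) (path_edge (F_428 IH) (path_edge (F_427 IH) (path_edge (F_426 IH) (path_edge (F_425 IH) (path_edge (F_424 IH) (path_edge (F_423 IH) (path_edge (F_422 IH) (path_edge (F_421 IH) (path_edge (F_420 IH) (path_edge (F_419 IH) (path_edge (F_418 IH) (path_edge (F_417 IH) (path_edge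 (F_416 IH) (path_edge (F_415 IH) (path_edge (F_414 IH) (path_edge (F_413 IH) (path_edge (F_257 IH) (path_edge (F_412 IH) (path_edge (F_411 IH) (path_edge (F_38 IH) (path_edge (F_410 IH) (path_edge (F_409 IH) (path_edge (F_408 IH) (path_edge (F_85 IH) (path_edge (F_294 IH) (path_edge (F_28 IH) (path_edge (F_375 IH) (path_edge (F_2097 IH) (path_edge (F_2100 IH) (path_edge (F_2101 IH) (path_edge (F_2102 IH) (path_edge (F_2100 IH) (path_edge (F_2098 IH) (path_edge (F_511 IH) (path_edge (F_1536 IH) (path_edge (F_2025 IH) (path_nil _))))))))))))))))))))))))))))))))))))))))))))))))))))))))))))))))))))))))))))))))))))))))))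
theorem F_2988 (IH : D.IHyp) : ed Gen.f V_481 = V_717 :=
  flipE D.rels D.S (hinv Gen.f) (F_2987 IH)
theorem F_2989 (IH : D.IHyp) : ed Gen.b V_717 = V_717 :=
  gap_rel RW_12 (path_edge (F_2988 IH) (path_edge (F_2020 IH) (path_edge (F_2987 IH) (path_nil _))))
theorem F_2990 (IH : D.IHyp) : ed Gen.c V_717 = V_717 :=
  gap_rel RW_18 (path_edge (F_2988 IH) (path_edge (F_2022 IH) (path_edge (F_2987 IH) (path_nil _))))
theorem F_2991 (IH : D.IHyp) : ed Gen.b V_716 = V_716 :=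
  gap_rel RW_4 (path_edge (F_2986 IH) (path_edge (F_2989 IH) (path_edge (F_2985 IH) (path_nil _))))
theorem F_2992 (IH : D.IHyp) : ed Gen.f V_716 = V_481 :=
  gap_rel RW_17 (path_edge (F_2986 IH) (path_edge (F_2988 IH) (path_edge (F_2024 IH) (path_nil _))))
theorem F_2993 (IH : D.IHyp) : ed Gen.f V_481 = V_716 :=
  flipE D.rels D.S (hinv Gen.f) (F_2992 IH)
theorem F_2994 (IH : D.IHyp) : V_717 = V_716 :=
  edge_fun (F_2988 IH) (F_2993 IH)
theorem F_2997 (IH : D.IHyp) : ed Gen.c V_717 = V_716 :=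
  (F_2990 IH).trans (F_2994 IH)
theorem F_2998 (IH : D.IHyp) : ed Gen.c V_716 = V_716 :=
  edge_congr (F_2997 IH) (F_2994 IH)
theorem F_2999 (IH : D.IHyp) : ed Gen.d V_716 = V_716 :=
  edge_congr (F_2986 IH) (F_2994 IH)
theorem F_3000 (IH : D.IHyp) : ed Gen.f V_716 = V_481 :=
  edge_congr (F_2987 IH) (F_2994 IH)
theorem F_3001 (IH : D.IHyp) : ed Gen.f V_481 = V_716 :=
  flipE D.rels D.S (hinv Gen.f) (F_3000 IH)
theorem F_3002 (IH : D.IHyp) : ed Gen.f V_480 = V_715 :=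
  gap_rel RW_27 (path_edge (F_1961 IH) (path_edge (F_2992 IH) (path_edge (F_2983 IH) (path_nil _))))
theorem F_3003 (IH : D.IHyp) : ed Gen.f V_715 = V_480 :=
  flipE D.rels D.S (hinv Gen.f) (F_3002 IH)
theorem F_3004 (IH : D.IHyp) : ed Gen.i V_716 = V_716 :=
  gap_rel RW_14 (path_edge (F_3001 IH) (path_edge (F_2027 IH) (path_edge (F_2992 IH) (path_nil _))))
theorem F_3007 (IH : D.IHyp) : ed Gen.e V_716 = V_283 :=
  gap_rel RW_15 (path_edge (F_3001 IH) (path_edge (F_2026 IH) (path_edge (F_1540 IH) (path_edge (F_501 IH) (path_edge (F_737 IH) (path_nil _))))))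
theorem F_3012 (IH : D.IHyp) : ed Gen.d V_478 = V_715 :=
  gap_rel RW_34 (path_edge (F_1957 IH) (path_edge (F_1959 IH) (path_edge (F_3003 IH) (path_nil _))))
theorem F_3013 (IH : D.IHyp) : ed Gen.d V_715 = V_478 :=
  flipE D.rels D.S (hinv Gen.d) (F_3012 IH)
theorem F_3014 (IH : D.IHyp) : ed Gen.f V_714 = V_369 :=
  gap_rel RW_36 (path_edge (F_2982 IH) (path_edge (F_3002 IH) (path_edge (F_2038 IH) (path_nil _))))
theorem F_3015 (IH : D.IHyp) : ed Gen.f V_369 = V_714 :=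
  flipE D.rels D.S (hinv Gen.f) (F_3014 IH)
theorem F_3016 (IH : D.IHyp) : V_368 = V_714 :=
  edge_fun (F_1521 IH) (F_3015 IH)
theorem F_3017 (IH : D.IHyp) : V_714 = V_368 :=
  (F_3016 IH).symm
theorem F_3018 (IH : D.IHyp) : ed Gen.d V_368 = V_713 :=
  edge_congr (F_2980 IH) (F_3017 IH)
theorem F_3019 (IH : D.IHyp) : V_367 = V_713 :=
  edge_fun (F_1519 IH) (F_3018 IH)
theorem F_3024 (IH : D.IHyp) : ed Gen.i V_368 = V_715 :=
  edge_congr (F_2981 IH) (F_3017 IH)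
theorem F_3026 (IH : D.IHyp) : V_713 = V_367 :=
  (F_3019 IH).symm
theorem F_3027 (IH : D.IHyp) : ed Gen.c V_367 = V_712 :=
  edge_congr (F_2978 IH) (F_3026 IH)
theorem F_3028 (IH : D.IHyp) : ed Gen.c V_712 = V_367 :=
  flipE D.rels D.S (hinv Gen.c) (F_3027 IH)
theorem F_3030 (IH : D.IHyp) : ed Gen.i V_478 = V_367 :=
  gap_rel RW_5 (path_edge (F_3013 IH) (path_edge (F_3024 IH) (path_edge (F_1518 IH) (path_nil _))))
theorem F_3031 (IH : D.IHyp) : ed Gen.i V_367 = V_478 :=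
  flipE D.rels D.S (hinv Gen.i) (F_3030 IH)
theorem F_3032 (IH : D.IHyp) : ed Gen.h V_364 = V_367 :=
  gap_rel RW_32 (path_edge (F_1617 IH) (path_edge (F_1517 IH) (path_edge (F_3030 IH) (path_edge (F_2035 IH) (path_edge (F_3031 IH) (path_nil _))))))
theorem F_3033 (IH : D.IHyp) : ed Gen.h V_367 = V_364 :=
  flipE D.rels D.S (hinv Gen.h) (F_3032 IH)
theorem F_3034 (IH : D.IHyp) : V_366 = V_364 :=
  edge_fun (F_1517 IH) (F_3033 IH)
theorem F_3039 (IH : D.IHyp) : ed Gen.h V_364 = V_367 :=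
  edge_congr (F_1516 IH) (F_3034 IH)
theorem F_3040 (IH : D.IHyp) : ed Gen.h V_367 = V_364 :=
  flipE D.rels D.S (hinv Gen.h) (F_3039 IH)
theorem F_3041 (IH : D.IHyp) : ed Gen.i V_364 = V_364 :=
  edge_congr (F_1617 IH) (F_3034 IH)
theorem F_3042 (IH : D.IHyp) : ed Gen.d V_712 = V_712 :=
  gap_rel RW_21 (path_edge (F_3027 IH) (path_edge (F_1519 IH) (path_edge (F_1604 IH) (path_edge (F_1518 IH) (path_edge (F_3028 IH) (path_nil _))))))
theorem F_3043 (IH : D.IHyp) : ed Gen.h V_712 = V_363 :=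
  gap_rel RW_1 (path_edge (F_3027 IH) (path_edge (F_3032 IH) (path_edge (F_1510 IH) (path_nil _))))
theorem F_3044 (IH : D.IHyp) : ed Gen.h V_363 = V_712 :=
  flipE D.rels D.S (hinv Gen.h) (F_3043 IH)
theorem F_3046 (IH : D.IHyp) : ed Gen.b V_710 = V_712 :=
  gap_rel RW_4 (path_edge (F_2974 IH) (path_edge (F_2976 IH) (path_edge (F_3042 IH) (path_nil _))))
theorem F_3047 (IH : D.IHyp) : ed Gen.b V_712 = V_710 :=
  flipE D.rels D.S (hinv Gen.b) (F_3046 IH)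
theorem F_3048 (IH : D.IHyp) : V_711 = V_710 :=
  edge_fun (F_2976 IH) (F_3047 IH)
theorem F_3049 (IH : D.IHyp) : ed Gen.b V_710 = V_712 :=
  edge_congr (F_2975 IH) (F_3048 IH)
theorem F_3050 (IH : D.IHyp) : ed Gen.b V_712 = V_710 :=
  flipE D.rels D.S (hinv Gen.b) (F_3049 IH)
theorem F_3053 (IH : D.IHyp) : ed Gen.d V_710 = V_710 :=
  edge_congr (F_2974 IH) (F_3048 IH)
theorem F_3054 (IH : D.IHyp) : ed Gen.h V_710 = V_362 :=
  gap_rel RW_40 (path_edge (F_3050 IH) (path_edge (F_3044 IH) (path_edge (F_1508 IH) (path_nil _))))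
theorem F_3055 (IH : D.IHyp) : ed Gen.h V_362 = V_710 :=
  flipE D.rels D.S (hinv Gen.h) (F_3054 IH)
theorem F_3056 (IH : D.IHyp) : ed Gen.i V_363 = V_363 :=
  gap_rel RW_2 (path_edge (F_1511 IH) (path_edge (F_3041 IH) (path_edge (F_1510 IH) (path_nil _))))
theorem F_3057 (IH : D.IHyp) : ed Gen.i V_362 = V_362 :=
  gap_rel RW_44 (path_edge (F_1509 IH) (path_edge (F_3056 IH) (path_edge (F_1508 IH) (path_nil _))))
theorem F_3059 (IH : D.IHyp) : ed Gen.h V_361 = V_361 :=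
  gap_rel RW_37 (path_edge (F_1507 IH) (path_edge (F_3054 IH) (path_edge (F_3053 IH) (path_edge (F_3055 IH) (path_edge (F_1506 IH) (path_nil _))))))
theorem F_3060 (IH : D.IHyp) : ed Gen.i V_361 = V_361 :=
  gap_rel RW_5 (path_edge (F_1507 IH) (path_edge (F_3057 IH) (path_edge (F_1506 IH) (path_nil _))))
theorem F_3062 (IH : D.IHyp) : ed Gen.h V_360 = V_360 :=
  gap_rel RW_8 (path_edge (F_1505 IH) (path_edge (F_3059 IH) (path_edge (F_1504 IH) (path_nil _))))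
theorem F_3063 (IH : D.IHyp) : ed Gen.i V_360 = V_360 :=
  gap_rel RW_9 (path_edge (F_1505 IH) (path_edge (F_3060 IH) (path_edge (F_1504 IH) (path_nil _))))
theorem F_3064 (IH : D.IHyp) : ed Gen.h V_359 = V_359 :=
  gap_rel RW_13 (path_edge (F_1503 IH) (path_edge (F_3062 IH) (path_edge (F_1502 IH) (path_nil _))))
theorem F_3065 (IH : D.IHyp) : ed Gen.i V_359 = V_359 :=
  gap_rel RW_14 (path_edge (F_1503 IH) (path_edge (F_3063 IH) (path_edge (F_1502 IH) (path_nil _))))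
theorem F_3066 (IH : D.IHyp) : ed Gen.i V_358 = V_358 :=
  gap_rel RW_5 (path_edge (F_1501 IH) (path_edge (F_3065 IH) (path_edge (F_1500 IH) (path_nil _))))
theorem F_3067 (IH : D.IHyp) : ed Gen.d V_357 = V_357 :=
  gap_rel RW_28 (path_edge (F_1499 IH) (path_edge (F_1501 IH) (path_edge (F_3064 IH) (path_edge (F_1500 IH) (path_edge (F_1498 IH) (path_nil _))))))
theorem F_3068 (IH : D.IHyp) : ed Gen.h V_356 = V_356 :=
  gap_rel RW_32 (path_edge (F_1497 IH) (path_edge (F_1499 IH) (path_edge (F_3066 IH) (path_edge (F_1498 IH) (path_edge (F_1496 IH) (path_nil _))))))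
theorem F_3069 (IH : D.IHyp) : ed Gen.i V_355 = V_357 :=
  gap_rel RW_5 (path_edge (F_1495 IH) (path_edge (F_1497 IH) (path_edge (F_3067 IH) (path_nil _))))
theorem F_3070 (IH : D.IHyp) : ed Gen.i V_357 = V_355 :=
  flipE D.rels D.S (hinv Gen.i) (F_3069 IH)
theorem F_3071 (IH : D.IHyp) : V_356 = V_355 :=
  edge_fun (F_1497 IH) (F_3070 IH)
theorem F_3072 (IH : D.IHyp) : ed Gen.d V_355 = V_355 :=
  edge_congr (F_1495 IH) (F_3071 IH)
theorem F_3073 (IH : D.IHyp) : ed Gen.h V_356 = V_355 :=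
  (F_3068 IH).trans (F_3071 IH)
theorem F_3074 (IH : D.IHyp) : ed Gen.h V_355 = V_355 :=
  edge_congr (F_3073 IH) (F_3071 IH)
theorem F_3077 (IH : D.IHyp) : ed Gen.h V_354 = V_354 :=
  gap_rel RW_1 (path_edge (F_1493 IH) (path_edge (F_3074 IH) (path_edge (F_1492 IH) (path_nil _))))
theorem F_3078 (IH : D.IHyp) : ed Gen.h V_353 = V_353 :=
  gap_rel RW_40 (path_edge (F_1491 IH) (path_edge (F_3077 IH) (path_edge (F_1490 IH) (path_nil _))))
theorem F_3086 (IH : D.IHyp) : ed Gen.i V_330 = V_719 :=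
  rfl
theorem F_3087 (IH : D.IHyp) : ed Gen.i V_719 = V_330 :=
  flipE D.rels D.S (hinv Gen.i) (F_3086 IH)
theorem F_3089 (IH : D.IHyp) : ed Gen.c (D.P 188) = V_719 :=
  gap_rel RW_20 (path_edge (F_990 IH) (path_edge (F_988 IH) (path_edge (F_3087 IH) (path_nil _))))
theorem F_3298 (IH : D.IHyp) : ed Gen.i V_479 = V_757 :=
  rfl
theorem F_3299 (IH : D.IHyp) : ed Gen.i V_757 = V_479 :=
  flipE D.rels D.S (hinv Gen.i) (F_3298 IH)
theorem F_3301 (IH : D.IHyp) : ed Gen.c V_571 = V_757 :=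
  gap_rel RW_20 (path_edge (F_2484 IH) (path_edge (F_2493 IH) (path_edge (F_3299 IH) (path_nil _))))
theorem F_3302 (IH : D.IHyp) : ed Gen.c V_757 = V_571 :=
  flipE D.rels D.S (hinv Gen.c) (F_3301 IH)
theorem F_3303 (IH : D.IHyp) : ed Gen.d V_369 = V_757 :=
  gap_rel RW_35 (path_edge (F_2039 IH) (path_edge (F_1958 IH) (path_edge (F_3299 IH) (path_nil _))))
theorem F_3304 (IH : D.IHyp) : ed Gen.d V_757 = V_369 :=
  flipE D.rels D.S (hinv Gen.d) (F_3303 IH)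
theorem F_3305 (IH : D.IHyp) : ed Gen.e V_757 = V_757 :=
  gap_rel RW_25 (path_edge (F_3298 IH) (path_edge (F_2036 IH) (path_edge (F_3299 IH) (path_nil _))))
theorem F_3306 (IH : D.IHyp) : ed Gen.f V_367 = V_757 :=
  gap_rel RW_36 (path_edge (F_3030 IH) (path_edge (F_1957 IH) (path_edge (F_3299 IH) (path_nil _))))
theorem F_3307 (IH : D.IHyp) : ed Gen.f V_757 = V_367 :=
  flipE D.rels D.S (hinv Gen.f) (F_3306 IH)
theorem F_3308 (IH : D.IHyp) : ed Gen.f V_571 = V_712 :=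
  gap_rel RW_0 (path_edge (F_3302 IH) (path_edge (F_3306 IH) (path_edge (F_3028 IH) (path_nil _))))
theorem F_3309 (IH : D.IHyp) : ed Gen.f V_712 = V_571 :=
  flipE D.rels D.S (hinv Gen.f) (F_3308 IH)
theorem F_3310 (IH : D.IHyp) : ed Gen.f V_363 = V_570 :=
  gap_rel RW_27 (path_edge (F_3043 IH) (path_edge (F_3308 IH) (path_edge (F_2481 IH) (path_nil _))))
theorem F_3311 (IH : D.IHyp) : ed Gen.f V_570 = V_363 :=
  flipE D.rels D.S (hinv Gen.f) (F_3310 IH)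
theorem F_3312 (IH : D.IHyp) : ed Gen.d V_363 = V_568 :=
  gap_rel RW_34 (path_edge (F_3311 IH) (path_edge (F_2479 IH) (path_edge (F_2477 IH) (path_nil _))))
theorem F_3313 (IH : D.IHyp) : ed Gen.d V_568 = V_363 :=
  flipE D.rels D.S (hinv Gen.d) (F_3312 IH)
theorem F_3314 (IH : D.IHyp) : ed Gen.c V_568 = V_568 :=
  gap_rel RW_6 (path_edge (F_3312 IH) (path_edge (F_1511 IH) (path_edge (F_1615 IH) (path_edge (F_1510 IH) (path_edge (F_3313 IH) (path_nil _))))))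
theorem F_3315 (IH : D.IHyp) : ed Gen.b V_361 = V_568 :=
  gap_rel RW_4 (path_edge (F_1507 IH) (path_edge (F_1509 IH) (path_edge (F_3313 IH) (path_nil _))))
theorem F_3316 (IH : D.IHyp) : ed Gen.b V_568 = V_361 :=
  flipE D.rels D.S (hinv Gen.b) (F_3315 IH)
theorem F_3317 (IH : D.IHyp) : ed Gen.b V_360 = V_567 :=
  gap_rel RW_7 (path_edge (F_1505 IH) (path_edge (F_3316 IH) (path_edge (F_2475 IH) (path_nil _))))
theorem F_3320 (IH : D.IHyp) : ed Gen.c V_569 = V_569 :=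
  gap_rel RW_18 (path_edge (F_2477 IH) (path_edge (F_3314 IH) (path_edge (F_2478 IH) (path_nil _))))
theorem F_3321 (IH : D.IHyp) : ed Gen.d V_565 = V_360 :=
  gap_rel RW_22 (path_edge (F_2472 IH) (path_edge (F_2474 IH) (path_edge (F_3317 IH) (path_nil _))))
theorem F_3322 (IH : D.IHyp) : ed Gen.d V_360 = V_565 :=
  flipE D.rels D.S (hinv Gen.d) (F_3321 IH)
theorem F_3323 (IH : D.IHyp) : ed Gen.f V_565 = V_358 :=
  gap_rel RW_17 (path_edge (F_3322 IH) (path_edge (F_1502 IH) (path_edge (F_1500 IH) (path_nil _))))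
theorem F_3324 (IH : D.IHyp) : ed Gen.f V_358 = V_565 :=
  flipE D.rels D.S (hinv Gen.f) (F_3323 IH)
theorem F_3325 (IH : D.IHyp) : ed Gen.h V_757 = V_758 :=
  rfl
theorem F_3326 (IH : D.IHyp) : ed Gen.h V_758 = V_757 :=
  flipE D.rels D.S (hinv Gen.h) (F_3325 IH)
theorem F_3330 (IH : D.IHyp) : ed Gen.e V_758 = V_758 :=
  gap_rel RW_26 (path_edge (F_3325 IH) (path_edge (F_3305 IH) (path_edge (F_3326 IH) (path_nil _))))
theorem F_3331 (IH : D.IHyp) : ed Gen.f V_364 = V_758 :=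
  gap_rel RW_27 (path_edge (F_3040 IH) (path_edge (F_3307 IH) (path_edge (F_3326 IH) (path_nil _))))
theorem F_3332 (IH : D.IHyp) : ed Gen.f V_758 = V_364 :=
  flipE D.rels D.S (hinv Gen.f) (F_3331 IH)
theorem F_3333 (IH : D.IHyp) : ed Gen.d V_758 = V_758 :=
  gap_rel RW_28 (path_edge (F_3325 IH) (path_edge (F_3303 IH) (path_edge (F_1602 IH) (path_edge (F_3304 IH) (path_edge (F_3326 IH) (path_nil _))))))
theorem F_3335 (IH : D.IHyp) : ed Gen.e V_364 = V_759 :=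
  rfl
theorem F_3336 (IH : D.IHyp) : ed Gen.e V_759 = V_364 :=
  flipE D.rels D.S (hinv Gen.e) (F_3335 IH)
theorem F_3337 (IH : D.IHyp) : ed Gen.b V_759 = V_759 :=
  gap_rel RW_7 (path_edge (F_3335 IH) (path_edge (F_1614 IH) (path_edge (F_3336 IH) (path_nil _))))
theorem F_3338 (IH : D.IHyp) : ed Gen.i V_759 = V_759 :=
  gap_rel RW_9 (path_edge (F_3335 IH) (path_edge (F_3041 IH) (path_edge (F_3336 IH) (path_nil _))))
theorem F_3339 (IH : D.IHyp) : ed Gen.f V_759 = V_759 :=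
  gap_rel RW_41 (path_edge (F_3335 IH) (path_edge (F_3332 IH) (path_edge (F_3330 IH) (path_edge (F_3331 IH) (path_edge (F_3336 IH) (path_nil _))))))
theorem F_3340 (IH : D.IHyp) : ed Gen.d V_759 = V_760 :=
  rfl
theorem F_3341 (IH : D.IHyp) : ed Gen.d V_760 = V_759 :=
  flipE D.rels D.S (hinv Gen.d) (F_3340 IH)
theorem F_3342 (IH : D.IHyp) : ed Gen.b V_760 = V_760 :=
  gap_rel RW_4 (path_edge (F_3340 IH) (path_edge (F_3337 IH) (path_edge (F_3341 IH) (path_nil _))))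
theorem F_3343 (IH : D.IHyp) : ed Gen.f V_760 = V_760 :=
  gap_rel RW_17 (path_edge (F_3340 IH) (path_edge (F_3339 IH) (path_edge (F_3341 IH) (path_nil _))))
theorem F_3344 (IH : D.IHyp) : ed Gen.i V_760 = V_760 :=
  gap_rel RW_5 (path_edge (F_3340 IH) (path_edge (F_3338 IH) (path_edge (F_3341 IH) (path_nil _))))
theorem F_3346 (IH : D.IHyp) : ed Gen.c V_760 = V_761 :=
  rfl
theorem F_3347 (IH : D.IHyp) : ed Gen.c V_761 = V_760 :=
  flipE D.rels D.S (hinv Gen.c) (F_3346 IH)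
theorem F_3349 (IH : D.IHyp) : ed Gen.f V_761 = V_761 :=
  gap_rel RW_0 (path_edge (F_3346 IH) (path_edge (F_3343 IH) (path_edge (F_3347 IH) (path_nil _))))
theorem F_3350 (IH : D.IHyp) : ed Gen.i V_761 = V_761 :=
  gap_rel RW_2 (path_edge (F_3346 IH) (path_edge (F_3344 IH) (path_edge (F_3347 IH) (path_nil _))))
theorem F_3351 (IH : D.IHyp) : ed Gen.d V_761 = V_762 :=
  rfl
theorem F_3352 (IH : D.IHyp) : ed Gen.d V_762 = V_761 :=
  flipE D.rels D.S (hinv Gen.d) (F_3351 IH)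
theorem F_3353 (IH : D.IHyp) : ed Gen.f V_762 = V_762 :=
  gap_rel RW_17 (path_edge (F_3351 IH) (path_edge (F_3349 IH) (path_edge (F_3352 IH) (path_nil _))))
theorem F_3354 (IH : D.IHyp) : ed Gen.i V_762 = V_762 :=
  gap_rel RW_5 (path_edge (F_3351 IH) (path_edge (F_3350 IH) (path_edge (F_3352 IH) (path_nil _))))
theorem F_3355 (IH : D.IHyp) : ed Gen.h V_762 = V_763 :=
  rfl
theorem F_3356 (IH : D.IHyp) : ed Gen.h V_763 = V_762 :=
  flipE D.rels D.S (hinv Gen.h) (F_3355 IH)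
theorem F_3357 (IH : D.IHyp) : ed Gen.f V_763 = V_763 :=
  gap_rel RW_27 (path_edge (F_3355 IH) (path_edge (F_3353 IH) (path_edge (F_3356 IH) (path_nil _))))
theorem F_3358 (IH : D.IHyp) : ed Gen.d V_763 = V_764 :=
  rfl
theorem F_3359 (IH : D.IHyp) : ed Gen.d V_764 = V_763 :=
  flipE D.rels D.S (hinv Gen.d) (F_3358 IH)
theorem F_3360 (IH : D.IHyp) : ed Gen.f V_764 = V_764 :=
  gap_rel RW_17 (path_edge (F_3358 IH) (path_edge (F_3357 IH) (path_edge (F_3359 IH) (path_nil _))))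
theorem F_3361 (IH : D.IHyp) : ed Gen.e V_764 = V_765 :=
  rfl
theorem F_3362 (IH : D.IHyp) : ed Gen.e V_765 = V_764 :=
  flipE D.rels D.S (hinv Gen.e) (F_3361 IH)
theorem F_3363 (IH : D.IHyp) : ed Gen.d V_765 = V_766 :=
  rfl
theorem F_3364 (IH : D.IHyp) : ed Gen.d V_766 = V_765 :=
  flipE D.rels D.S (hinv Gen.d) (F_3363 IH)
theorem F_3365 (IH : D.IHyp) : ed Gen.b V_766 = V_767 :=
  rfl
theorem F_3366 (IH : D.IHyp) : ed Gen.b V_767 = V_766 :=
  flipE D.rels D.S (hinv Gen.b) (F_3365 IH)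
theorem F_3367 (IH : D.IHyp) : ed Gen.c V_767 = V_768 :=
  rfl
theorem F_3368 (IH : D.IHyp) : ed Gen.c V_768 = V_767 :=
  flipE D.rels D.S (hinv Gen.c) (F_3367 IH)
theorem F_3369 (IH : D.IHyp) : ed Gen.d V_768 = V_769 :=
  rfl
theorem F_3370 (IH : D.IHyp) : ed Gen.d V_769 = V_768 :=
  flipE D.rels D.S (hinv Gen.d) (F_3369 IH)
theorem F_3371 (IH : D.IHyp) : ed Gen.i V_769 = V_770 :=
  rfl
theorem F_3372 (IH : D.IHyp) : ed Gen.i V_770 = V_769 :=
  flipE D.rels D.S (hinv Gen.i) (F_3371 IH)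
theorem F_3373 (IH : D.IHyp) : ed Gen.h V_770 = V_771 :=
  rfl
theorem F_3374 (IH : D.IHyp) : ed Gen.h V_771 = V_770 :=
  flipE D.rels D.S (hinv Gen.h) (F_3373 IH)
theorem F_3375 (IH : D.IHyp) : ed Gen.d V_771 = V_772 :=
  rfl
theorem F_3376 (IH : D.IHyp) : ed Gen.d V_772 = V_771 :=
  flipE D.rels D.S (hinv Gen.d) (F_3375 IH)
theorem F_3377 (IH : D.IHyp) : ed Gen.f V_772 = V_773 :=
  rfl
theorem F_3378 (IH : D.IHyp) : ed Gen.f V_773 = V_772 :=
  flipE D.rels D.S (hinv Gen.f) (F_3377 IH)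
theorem F_3379 (IH : D.IHyp) : ed Gen.e V_773 = V_774 :=
  rfl
theorem F_3380 (IH : D.IHyp) : ed Gen.e V_774 = V_773 :=
  flipE D.rels D.S (hinv Gen.e) (F_3379 IH)
theorem F_3381 (IH : D.IHyp) : ed Gen.d V_774 = V_775 :=
  rfl
theorem F_3382 (IH : D.IHyp) : ed Gen.d V_775 = V_774 :=
  flipE D.rels D.S (hinv Gen.d) (F_3381 IH)
theorem F_3383 (IH : D.IHyp) : ed Gen.b V_775 = V_776 :=
  rfl
theorem F_3384 (IH : D.IHyp) : ed Gen.b V_776 = V_775 :=
  flipE D.rels D.S (hinv Gen.b) (F_3383 IH)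
theorem F_3385 (IH : D.IHyp) : ed Gen.c V_776 = V_777 :=
  rfl
theorem F_3386 (IH : D.IHyp) : ed Gen.c V_777 = V_776 :=
  flipE D.rels D.S (hinv Gen.c) (F_3385 IH)
theorem F_3387 (IH : D.IHyp) : ed Gen.d V_777 = V_778 :=
  rfl
theorem F_3388 (IH : D.IHyp) : ed Gen.d V_778 = V_777 :=
  flipE D.rels D.S (hinv Gen.d) (F_3387 IH)
theorem F_3389 (IH : D.IHyp) : ed Gen.i V_778 = V_779 :=
  rfl
theorem F_3390 (IH : D.IHyp) : ed Gen.i V_779 = V_778 :=
  flipE D.rels D.S (hinv Gen.i) (F_3389 IH)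
theorem F_3391 (IH : D.IHyp) : ed Gen.h V_779 = V_780 :=
  rfl
theorem F_3392 (IH : D.IHyp) : ed Gen.h V_780 = V_779 :=
  flipE D.rels D.S (hinv Gen.h) (F_3391 IH)
theorem F_3393 (IH : D.IHyp) : ed Gen.d V_780 = V_781 :=
  rfl
theorem F_3394 (IH : D.IHyp) : ed Gen.d V_781 = V_780 :=
  flipE D.rels D.S (hinv Gen.d) (F_3393 IH)
theorem F_3395 (IH : D.IHyp) : ed Gen.f V_781 = V_782 :=
  rfl
theorem F_3396 (IH : D.IHyp) : ed Gen.f V_782 = V_781 :=
  flipE D.rels D.S (hinv Gen.f) (F_3395 IH)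
theorem F_3397 (IH : D.IHyp) : ed Gen.e V_782 = V_783 :=
  rfl
theorem F_3398 (IH : D.IHyp) : ed Gen.e V_783 = V_782 :=
  flipE D.rels D.S (hinv Gen.e) (F_3397 IH)
theorem F_3399 (IH : D.IHyp) : ed Gen.d V_783 = V_784 :=
  rfl
theorem F_3400 (IH : D.IHyp) : ed Gen.d V_784 = V_783 :=
  flipE D.rels D.S (hinv Gen.d) (F_3399 IH)
theorem F_3401 (IH : D.IHyp) : ed Gen.b V_784 = V_785 :=
  rfl
theorem F_3402 (IH : D.IHyp) : ed Gen.b V_785 = V_784 :=
  flipE D.rels D.S (hinv Gen.b) (F_3401 IH)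
theorem F_3403 (IH : D.IHyp) : ed Gen.c V_785 = V_786 :=
  rfl
theorem F_3404 (IH : D.IHyp) : ed Gen.c V_786 = V_785 :=
  flipE D.rels D.S (hinv Gen.c) (F_3403 IH)
theorem F_3405 (IH : D.IHyp) : ed Gen.d V_786 = V_787 :=
  rfl
theorem F_3406 (IH : D.IHyp) : ed Gen.d V_787 = V_786 :=
  flipE D.rels D.S (hinv Gen.d) (F_3405 IH)
theorem F_3407 (IH : D.IHyp) : ed Gen.i V_787 = V_788 :=
  rfl
theorem F_3408 (IH : D.IHyp) : ed Gen.i V_788 = V_787 :=
  flipE D.rels D.S (hinv Gen.i) (F_3407 IH)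
theorem F_3409 (IH : D.IHyp) : ed Gen.h V_788 = V_789 :=
  rfl
theorem F_3410 (IH : D.IHyp) : ed Gen.h V_789 = V_788 :=
  flipE D.rels D.S (hinv Gen.h) (F_3409 IH)
theorem F_3411 (IH : D.IHyp) : ed Gen.d V_789 = V_790 :=
  rfl
theorem F_3412 (IH : D.IHyp) : ed Gen.d V_790 = V_789 :=
  flipE D.rels D.S (hinv Gen.d) (F_3411 IH)
theorem F_3413 (IH : D.IHyp) : ed Gen.f V_790 = V_791 :=
  rfl
theorem F_3414 (IH : D.IHyp) : ed Gen.f V_791 = V_790 :=
  flipE D.rels D.S (hinv Gen.f) (F_3413 IH)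
theorem F_3415 (IH : D.IHyp) : ed Gen.e V_791 = V_792 :=
  rfl
theorem F_3416 (IH : D.IHyp) : ed Gen.e V_792 = V_791 :=
  flipE D.rels D.S (hinv Gen.e) (F_3415 IH)
theorem F_3417 (IH : D.IHyp) : ed Gen.d V_792 = V_793 :=
  rfl
theorem F_3418 (IH : D.IHyp) : ed Gen.d V_793 = V_792 :=
  flipE D.rels D.S (hinv Gen.d) (F_3417 IH)
theorem F_3419 (IH : D.IHyp) : ed Gen.b V_793 = V_794 :=
  rfl
theorem F_3420 (IH : D.IHyp) : ed Gen.b V_794 = V_793 :=
  flipE D.rels D.S (hinv Gen.b) (F_3419 IH)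
theorem F_3421 (IH : D.IHyp) : ed Gen.c V_794 = V_795 :=
  rfl
theorem F_3422 (IH : D.IHyp) : ed Gen.c V_795 = V_794 :=
  flipE D.rels D.S (hinv Gen.c) (F_3421 IH)
theorem F_3423 (IH : D.IHyp) : ed Gen.d V_795 = V_796 :=
  rfl
theorem F_3424 (IH : D.IHyp) : ed Gen.d V_796 = V_795 :=
  flipE D.rels D.S (hinv Gen.d) (F_3423 IH)
theorem F_3425 (IH : D.IHyp) : ed Gen.i V_796 = V_797 :=
  rfl
theorem F_3426 (IH : D.IHyp) : ed Gen.i V_797 = V_796 :=
  flipE D.rels D.S (hinv Gen.i) (F_3425 IH)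
theorem F_3427 (IH : D.IHyp) : ed Gen.h V_797 = V_798 :=
  rfl
theorem F_3428 (IH : D.IHyp) : ed Gen.h V_798 = V_797 :=
  flipE D.rels D.S (hinv Gen.h) (F_3427 IH)
theorem F_3429 (IH : D.IHyp) : ed Gen.d V_798 = V_799 :=
  rfl
theorem F_3430 (IH : D.IHyp) : ed Gen.d V_799 = V_798 :=
  flipE D.rels D.S (hinv Gen.d) (F_3429 IH)
theorem F_3431 (IH : D.IHyp) : ed Gen.f V_799 = V_800 :=
  rfl
theorem F_3432 (IH : D.IHyp) : ed Gen.f V_800 = V_799 :=
  flipE D.rels D.S (hinv Gen.f) (F_3431 IH)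
theorem F_3433 (IH : D.IHyp) : ed Gen.e V_800 = V_801 :=
  rfl
theorem F_3434 (IH : D.IHyp) : ed Gen.e V_801 = V_800 :=
  flipE D.rels D.S (hinv Gen.e) (F_3433 IH)
theorem F_3435 (IH : D.IHyp) : ed Gen.d V_801 = V_802 :=
  rfl
theorem F_3436 (IH : D.IHyp) : ed Gen.d V_802 = V_801 :=
  flipE D.rels D.S (hinv Gen.d) (F_3435 IH)
theorem F_3437 (IH : D.IHyp) : ed Gen.b V_802 = V_803 :=
  rfl
theorem F_3438 (IH : D.IHyp) : ed Gen.b V_803 = V_802 :=
  flipE D.rels D.S (hinv Gen.b) (F_3437 IH)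
theorem F_3439 (IH : D.IHyp) : ed Gen.c V_803 = V_804 :=
  rfl
theorem F_3440 (IH : D.IHyp) : ed Gen.c V_804 = V_803 :=
  flipE D.rels D.S (hinv Gen.c) (F_3439 IH)
theorem F_3441 (IH : D.IHyp) : ed Gen.d V_804 = V_805 :=
  rfl
theorem F_3442 (IH : D.IHyp) : ed Gen.d V_805 = V_804 :=
  flipE D.rels D.S (hinv Gen.d) (F_3441 IH)
theorem F_3443 (IH : D.IHyp) : ed Gen.i V_805 = V_806 :=
  rfl
theorem F_3444 (IH : D.IHyp) : ed Gen.i V_806 = V_805 :=
  flipE D.rels D.S (hinv Gen.i) (F_3443 IH)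
theorem F_3445 (IH : D.IHyp) : ed Gen.h V_806 = V_807 :=
  rfl
theorem F_3446 (IH : D.IHyp) : ed Gen.h V_807 = V_806 :=
  flipE D.rels D.S (hinv Gen.h) (F_3445 IH)
theorem F_3447 (IH : D.IHyp) : ed Gen.d V_807 = V_808 :=
  rfl
theorem F_3448 (IH : D.IHyp) : ed Gen.d V_808 = V_807 :=
  flipE D.rels D.S (hinv Gen.d) (F_3447 IH)
theorem F_3449 (IH : D.IHyp) : ed Gen.f V_808 = V_809 :=
  rfl
theorem F_3450 (IH : D.IHyp) : ed Gen.f V_809 = V_808 :=
  flipE D.rels D.S (hinv Gen.f) (F_3449 IH)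
theorem F_3451 (IH : D.IHyp) : ed Gen.e V_809 = V_810 :=
  rfl
theorem F_3452 (IH : D.IHyp) : ed Gen.e V_810 = V_809 :=
  flipE D.rels D.S (hinv Gen.e) (F_3451 IH)
theorem F_3453 (IH : D.IHyp) : ed Gen.d V_810 = V_811 :=
  rfl
theorem F_3454 (IH : D.IHyp) : ed Gen.d V_811 = V_810 :=
  flipE D.rels D.S (hinv Gen.d) (F_3453 IH)
theorem F_3455 (IH : D.IHyp) : ed Gen.b V_811 = V_812 :=
  rfl
theorem F_3456 (IH : D.IHyp) : ed Gen.b V_812 = V_811 :=
  flipE D.rels D.S (hinv Gen.b) (F_3455 IH)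
theorem F_3457 (IH : D.IHyp) : ed Gen.c V_812 = V_813 :=
  rfl
theorem F_3458 (IH : D.IHyp) : ed Gen.c V_813 = V_812 :=
  flipE D.rels D.S (hinv Gen.c) (F_3457 IH)
theorem F_3459 (IH : D.IHyp) : ed Gen.d V_813 = V_814 :=
  rfl
theorem F_3460 (IH : D.IHyp) : ed Gen.d V_814 = V_813 :=
  flipE D.rels D.S (hinv Gen.d) (F_3459 IH)
theorem F_3461 (IH : D.IHyp) : ed Gen.i V_814 = V_815 :=
  rfl
theorem F_3462 (IH : D.IHyp) : ed Gen.i V_815 = V_814 :=
  flipE D.rels D.S (hinv Gen.i) (F_3461 IH)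
theorem F_3463 (IH : D.IHyp) : ed Gen.h V_815 = V_816 :=
  rfl
theorem F_3464 (IH : D.IHyp) : ed Gen.h V_816 = V_815 :=
  flipE D.rels D.S (hinv Gen.h) (F_3463 IH)
theorem F_3465 (IH : D.IHyp) : ed Gen.d V_816 = V_817 :=
  rfl
theorem F_3466 (IH : D.IHyp) : ed Gen.d V_817 = V_816 :=
  flipE D.rels D.S (hinv Gen.d) (F_3465 IH)
theorem F_3467 (IH : D.IHyp) : ed Gen.f V_817 = V_818 :=
  rfl
theorem F_3468 (IH : D.IHyp) : ed Gen.f V_818 = V_817 :=
  flipE D.rels D.S (hinv Gen.f) (F_3467 IH)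
theorem F_3469 (IH : D.IHyp) : ed Gen.e V_818 = V_819 :=
  rfl
theorem F_3470 (IH : D.IHyp) : ed Gen.e V_819 = V_818 :=
  flipE D.rels D.S (hinv Gen.e) (F_3469 IH)
theorem F_3471 (IH : D.IHyp) : ed Gen.d V_819 = V_820 :=
  rfl
theorem F_3472 (IH : D.IHyp) : ed Gen.d V_820 = V_819 :=
  flipE D.rels D.S (hinv Gen.d) (F_3471 IH)
theorem F_3473 (IH : D.IHyp) : ed Gen.b V_820 = V_821 :=
  rfl
theorem F_3474 (IH : D.IHyp) : ed Gen.b V_821 = V_820 :=
  flipE D.rels D.S (hinv Gen.b) (F_3473 IH)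
theorem F_3475 (IH : D.IHyp) : ed Gen.c V_821 = V_822 :=
  rfl
theorem F_3476 (IH : D.IHyp) : ed Gen.c V_822 = V_821 :=
  flipE D.rels D.S (hinv Gen.c) (F_3475 IH)
theorem F_3477 (IH : D.IHyp) : ed Gen.d V_719 = V_822 :=
  gap_rel RW_46 (path_edge (F_3086 IH) (path_edge (F_997 IH) (path_edge (F_498 IH) (path_edge (F_737 IH) (path_edge (F_3007 IH) (path_edge (F_2999 IH) (path_edge (F_2991 IH) (path_edge (F_2998 IH) (path_edge (F_2999 IH) (path_edge (F_3004 IH) (path_edge (F_2983 IH) (path_edge (F_3012 IH) (path_edge (F_1957 IH) (path_edge (F_2036 IH) (path_edge (F_1959 IH) (path_edge (F_2031 IH) (path_edge (F_2032 IH) (path_edge (F_1958 IH) (path_edge (F_3299 IH) (path_edge (F_3326 IH) (path_edge (F_3333 IH) (path_edge (F_3331 IH) (path_edge (F_3336 IH) (path_edge (F_3341 IH) (path_edge (F_3342 IH) (path_edge (F_3347 IH) (path_edge (F_3352 IH) (path_edge (F_3354 IH) (path_edge (F_3356 IH) (path_edge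 (F_3359 IH) (path_edge (F_3360 IH) (path_edge (F_3362 IH) (path_edge (F_3364 IH) (path_edge (F_3366 IH) (path_edge (F_3368 IH) (path_edge (F_3370 IH) (path_edge (F_3372 IH) (path_edge (F_3374 IH) (path_edge (F_3376 IH) (path_edge (F_3378 IH) (path_edge (F_3380 IH) (path_edge (F_3382 IH) (path_edge (F_3384 IH) (path_edge (F_3386 IH) (path_edge (F_3388 IH) (path_edge (F_3390 IH) (path_edge (F_3392 IH) (path_edge (F_3394 IH) (path_edge (F_3396 IH) (path_edge (F_3398 IH) (path_edge (F_3400 IH) (path_edge (F_3402 IH) (path_edge (F_3404 IH) (path_edge (F_3406 IH) (path_edge (F_3408 IH) (path_edge (F_3410 IH) (path_edge (F_3412 IH) (path_edge (F_3414 IH) (path_edge (F_3416 IH) (path_edge (F_3418 IH) (path_edge (F_3420 IH) (path_edge (F_3422 IH) (path_edge (F_3424 IH) (path_edge (F_3426 IH) (path_edge (F_3428 IH) (path_edge (F_3430 IH) (path_edge (F_3432 IH) (path_edge (F_3434 IH) (path_edge (F_3436 IH)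 (path_edge (F_3438 IH) (path_edge (F_3440 IH) (path_edge (F_3442 IH) (path_edge (F_3444 IH) (path_edge (F_3446 IH) (path_edge (F_3448 IH) (path_edge (F_3450 IH) (path_edge (F_3452 IH) (path_edge (F_3454 IH) (path_edge (F_3456 IH) (path_edge (F_3458 IH) (path_edge (F_3460 IH) (path_edge (F_3462 IH) (path_edge (F_3464 IH) (path_edge (F_3466 IH) (path_edge (F_3468 IH) (path_edge (F_3470 IH) (path_edge (F_3472 IH) (path_edge (F_3474 IH) (path_edge (F_3476 IH) (path_nil _))))))))))))))))))))))))))))))))))))))))))))))))))))))))))))))))))))))))))))))))))))))))))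
theorem F_3478 (IH : D.IHyp) : ed Gen.d V_822 = V_719 :=
  flipE D.rels D.S (hinv Gen.d) (F_3477 IH)
theorem F_3482 (IH : D.IHyp) : ed Gen.i V_328 = V_822 :=
  gap_rel RW_5 (path_edge (F_996 IH) (path_edge (F_3087 IH) (path_edge (F_3478 IH) (path_nil _))))
theorem F_3483 (IH : D.IHyp) : ed Gen.i V_822 = V_328 :=
  flipE D.rels D.S (hinv Gen.i) (F_3482 IH)
theorem F_3487 (IH : D.IHyp) : ed Gen.i V_327 = V_821 :=
  gap_rel RW_2 (path_edge (F_979 IH) (path_edge (F_3483 IH) (path_edge (F_3475 IH) (path_nil _))))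
theorem F_3490 (IH : D.IHyp) : ed Gen.d V_821 = V_325 :=
  gap_rel RW_21 (path_edge (F_3476 IH) (path_edge (F_3477 IH) (path_edge (F_3089 IH) (path_edge (F_1048 IH) (path_edge (F_1113 IH) (path_nil _))))))
theorem F_3668 (IH : D.IHyp) : ed Gen.d V_575 = V_823 :=
  rfl
theorem F_3671 (IH : D.IHyp) : ed Gen.f V_823 = V_280 :=
  gap_rel RW_17 (path_edge (F_3668 IH) (path_edge (F_2702 IH) (path_edge (F_725 IH) (path_nil _))))
theorem F_3673 (IH : D.IHyp) : ed Gen.i V_823 = V_639 :=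
  gap_rel RW_5 (path_edge (F_3668 IH) (path_edge (F_2698 IH) (path_edge (F_2725 IH) (path_nil _))))
theorem F_3674 (IH : D.IHyp) : ed Gen.i V_639 = V_823 :=
  flipE D.rels D.S (hinv Gen.i) (F_3673 IH)
theorem F_3676 (IH : D.IHyp) : ed Gen.c V_823 = V_641 :=
  gap_rel RW_20 (path_edge (F_3674 IH) (path_edge (F_2731 IH) (path_edge (F_2737 IH) (path_nil _))))
theorem F_3677 (IH : D.IHyp) : ed Gen.c V_641 = V_823 :=
  flipE D.rels D.S (hinv Gen.c) (F_3676 IH)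
theorem F_3678 (IH : D.IHyp) : ed Gen.f V_279 = V_641 :=
  gap_rel RW_0 (path_edge (F_724 IH) (path_edge (F_3671 IH) (path_edge (F_3677 IH) (path_nil _))))
theorem F_3680 (IH : D.IHyp) : ed Gen.b V_641 = V_824 :=
  rfl
theorem F_3684 (IH : D.IHyp) : ed Gen.f V_824 = V_277 :=
  gap_rel RW_39 (path_edge (F_3680 IH) (path_edge (F_3678 IH) (path_edge (F_751 IH) (path_nil _))))
theorem F_3706 (IH : D.IHyp) : ed Gen.h V_277 = V_825 :=
  rfl
theorem F_3709 (IH : D.IHyp) : ed Gen.i V_825 = V_826 :=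
  rfl
theorem F_3712 (IH : D.IHyp) : ed Gen.d V_826 = V_827 :=
  rfl
theorem F_3714 (IH : D.IHyp) : ed Gen.c V_827 = V_828 :=
  rfl
theorem F_3717 (IH : D.IHyp) : ed Gen.b V_828 = V_829 :=
  rfl
theorem F_3720 (IH : D.IHyp) : ed Gen.e V_829 = V_830 :=
  rfl
theorem F_3722 (IH : D.IHyp) : ed Gen.f V_830 = V_831 :=
  rfl
theorem F_3724 (IH : D.IHyp) : ed Gen.d V_831 = V_832 :=
  rfl
theorem F_3726 (IH : D.IHyp) : ed Gen.h V_832 = V_833 :=
  rfl
theorem F_3728 (IH : D.IHyp) : ed Gen.i V_833 = V_834 :=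
  rfl
theorem F_3730 (IH : D.IHyp) : ed Gen.d V_834 = V_835 :=
  rfl
theorem F_3732 (IH : D.IHyp) : ed Gen.c V_835 = V_836 :=
  rfl
theorem F_3876 (IH : D.IHyp) : ed Gen.f V_252 = V_885 :=
  rfl
theorem F_3877 (IH : D.IHyp) : ed Gen.f V_885 = V_252 :=
  flipE D.rels D.S (hinv Gen.f) (F_3876 IH)
theorem F_3879 (IH : D.IHyp) : ed Gen.h V_885 = V_885 :=
  gap_rel RW_13 (path_edge (F_3876 IH) (path_edge (F_534 IH) (path_edge (F_3877 IH) (path_nil _))))
theorem F_3880 (IH : D.IHyp) : ed Gen.i V_885 = V_885 :=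
  gap_rel RW_14 (path_edge (F_3876 IH) (path_edge (F_535 IH) (path_edge (F_3877 IH) (path_nil _))))
theorem F_3881 (IH : D.IHyp) : ed Gen.c V_252 = V_886 :=
  rfl
theorem F_3882 (IH : D.IHyp) : ed Gen.c V_886 = V_252 :=
  flipE D.rels D.S (hinv Gen.c) (F_3881 IH)
theorem F_3883 (IH : D.IHyp) : ed Gen.e V_886 = (D.P 241) :=
  gap_rel RW_24 (path_edge (F_3881 IH) (path_edge (F_515 IH) (path_edge (F_530 IH) (path_nil _))))
theorem F_3893 (IH : D.IHyp) : ed Gen.f V_253 = V_888 :=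
  rfl
theorem F_3894 (IH : D.IHyp) : ed Gen.f V_888 = V_253 :=
  flipE D.rels D.S (hinv Gen.f) (F_3893 IH)
theorem F_3896 (IH : D.IHyp) : ed Gen.d V_885 = V_888 :=
  gap_rel RW_34 (path_edge (F_3876 IH) (path_edge (F_666 IH) (path_edge (F_3894 IH) (path_nil _))))
theorem F_3897 (IH : D.IHyp) : ed Gen.d V_888 = V_885 :=
  flipE D.rels D.S (hinv Gen.d) (F_3896 IH)
theorem F_3899 (IH : D.IHyp) : ed Gen.b V_886 = V_889 :=
  rfl
theorem F_3900 (IH : D.IHyp) : ed Gen.b V_889 = V_886 :=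
  flipE D.rels D.S (hinv Gen.b) (F_3899 IH)
theorem F_3906 (IH : D.IHyp) : ed Gen.d V_886 = V_890 :=
  rfl
theorem F_3907 (IH : D.IHyp) : ed Gen.d V_890 = V_886 :=
  flipE D.rels D.S (hinv Gen.d) (F_3906 IH)
theorem F_3909 (IH : D.IHyp) : ed Gen.c V_255 = V_890 :=
  gap_rel RW_6 (path_edge (F_672 IH) (path_edge (F_669 IH) (path_edge (F_665 IH) (path_edge (F_3882 IH) (path_edge (F_3907 IH) (path_nil _))))))
theorem F_3910 (IH : D.IHyp) : ed Gen.c V_890 = V_255 :=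
  flipE D.rels D.S (hinv Gen.c) (F_3909 IH)
theorem F_3911 (IH : D.IHyp) : ed Gen.e V_253 = V_891 :=
  rfl
theorem F_3912 (IH : D.IHyp) : ed Gen.e V_891 = V_253 :=
  flipE D.rels D.S (hinv Gen.e) (F_3911 IH)
theorem F_3915 (IH : D.IHyp) : ed Gen.d (D.P 233) = V_891 :=
  gap_rel RW_11 (path_edge (F_549 IH) (path_edge (F_518 IH) (path_edge (F_516 IH) (path_edge (F_666 IH) (path_edge (F_3912 IH) (path_nil _))))))
theorem F_3916 (IH : D.IHyp) : ed Gen.d V_891 = (D.P 233) :=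
  flipE D.rels D.S (hinv Gen.d) (F_3915 IH)
theorem F_3918 (IH : D.IHyp) : ed Gen.c (D.P 233) = (D.P 222) :=
  D.real_edge' IH Gen.c 233 222 (by decide +kernel)
theorem F_3919 (IH : D.IHyp) : ed Gen.f V_891 = V_891 :=
  gap_rel RW_17 (path_edge (F_3915 IH) (path_edge (F_558 IH) (path_edge (F_3916 IH) (path_nil _))))
theorem F_3920 (IH : D.IHyp) : ed Gen.c V_891 = V_332 :=
  gap_rel RW_6 (path_edge (F_3915 IH) (path_edge (F_1387 IH) (path_edge (F_1383 IH) (path_edge (F_1375 IH) (path_edge (F_1440 IH) (path_nil _))))))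
theorem F_3922 (IH : D.IHyp) : ed Gen.h (D.P 233) = (D.P 219) :=
  D.real_edge' IH Gen.h 233 219 (by decide +kernel)
theorem F_3923 (IH : D.IHyp) : ed Gen.h V_684 = V_891 :=
  gap_rel RW_37 (path_edge (F_2912 IH) (path_edge (F_2869 IH) (path_edge (F_1433 IH) (path_edge (F_3922 IH) (path_edge (F_3916 IH) (path_nil _))))))
theorem F_3925 (IH : D.IHyp) : ed Gen.e V_888 = V_888 :=
  gap_rel RW_15 (path_edge (F_3893 IH) (path_edge (F_3912 IH) (path_edge (F_3919 IH) (path_edge (F_3911 IH) (path_edge (F_3894 IH) (path_nil _))))))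
theorem F_3929 (IH : D.IHyp) : ed Gen.e V_332 = V_254 :=
  gap_rel RW_24 (path_edge (F_3920 IH) (path_edge (F_3911 IH) (path_edge (F_670 IH) (path_nil _))))
theorem F_3930 (IH : D.IHyp) : ed Gen.e V_254 = V_332 :=
  flipE D.rels D.S (hinv Gen.e) (F_3929 IH)
theorem F_3931 (IH : D.IHyp) : ed Gen.c V_333 = V_684 :=
  gap_rel RW_19 (path_edge (F_1443 IH) (path_edge (F_3920 IH) (path_edge (F_3923 IH) (path_nil _))))
theorem F_3932 (IH : D.IHyp) : ed Gen.c V_684 = V_333 :=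
  flipE D.rels D.S (hinv Gen.c) (F_3931 IH)
theorem F_3933 (IH : D.IHyp) : ed Gen.h V_253 = V_685 :=
  gap_rel RW_8 (path_edge (F_3912 IH) (path_edge (F_3923 IH) (path_edge (F_2917 IH) (path_nil _))))
theorem F_3934 (IH : D.IHyp) : ed Gen.h V_685 = V_253 :=
  flipE D.rels D.S (hinv Gen.h) (F_3933 IH)
theorem F_3935 (IH : D.IHyp) : ed Gen.h V_254 = V_334 :=
  gap_rel RW_8 (path_edge (F_3929 IH) (path_edge (F_1444 IH) (path_edge (F_1448 IH) (path_nil _))))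
theorem F_3937 (IH : D.IHyp) : ed Gen.c V_334 = V_685 :=
  gap_rel RW_10 (path_edge (F_1447 IH) (path_edge (F_3932 IH) (path_edge (F_2917 IH) (path_nil _))))
theorem F_3938 (IH : D.IHyp) : ed Gen.c V_685 = V_334 :=
  flipE D.rels D.S (hinv Gen.c) (F_3937 IH)
theorem F_3939 (IH : D.IHyp) : V_686 = V_334 :=
  edge_fun (F_2920 IH) (F_3938 IH)
theorem F_3940 (IH : D.IHyp) : ed Gen.c V_334 = V_685 :=
  edge_congr (F_2921 IH) (F_3939 IH)
theorem F_3941 (IH : D.IHyp) : ed Gen.c V_685 = V_334 :=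
  flipE D.rels D.S (hinv Gen.c) (F_3940 IH)
theorem F_3942 (IH : D.IHyp) : ed Gen.d V_334 = V_687 :=
  edge_congr (F_2922 IH) (F_3939 IH)
theorem F_3943 (IH : D.IHyp) : V_335 = V_687 :=
  edge_fun (F_1449 IH) (F_3942 IH)
theorem F_3945 (IH : D.IHyp) : V_687 = V_335 :=
  (F_3943 IH).symm
theorem F_3946 (IH : D.IHyp) : ed Gen.c V_687 = V_335 :=
  (F_2924 IH).trans (F_3945 IH)
theorem F_3947 (IH : D.IHyp) : ed Gen.c V_335 = V_335 :=
  edge_congr (F_3946 IH) (F_3945 IH)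
theorem F_3949 (IH : D.IHyp) : ed Gen.i V_335 = V_688 :=
  edge_congr (F_2925 IH) (F_3945 IH)
theorem F_3950 (IH : D.IHyp) : ed Gen.i V_688 = V_335 :=
  flipE D.rels D.S (hinv Gen.i) (F_3949 IH)
theorem F_3955 (IH : D.IHyp) : ed Gen.e V_688 = V_688 :=
  gap_rel RW_25 (path_edge (F_3949 IH) (path_edge (F_1451 IH) (path_edge (F_3950 IH) (path_nil _))))
theorem F_3956 (IH : D.IHyp) : ed Gen.b V_337 = V_337 :=
  gap_rel RW_47 (path_edge (F_1455 IH) (path_edge (F_1452 IH) (path_edge (F_3947 IH) (path_edge (F_1453 IH) (path_edge (F_1456 IH) (path_nil _))))))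
theorem F_3957 (IH : D.IHyp) : ed Gen.e V_689 = V_689 :=
  gap_rel RW_26 (path_edge (F_2928 IH) (path_edge (F_3955 IH) (path_edge (F_2929 IH) (path_nil _))))
theorem F_3960 (IH : D.IHyp) : ed Gen.b V_338 = V_338 :=
  gap_rel RW_4 (path_edge (F_1458 IH) (path_edge (F_3956 IH) (path_edge (F_1459 IH) (path_nil _))))
theorem F_3963 (IH : D.IHyp) : ed Gen.b V_339 = V_339 :=
  gap_rel RW_33 (path_edge (F_1460 IH) (path_edge (F_3960 IH) (path_edge (F_1461 IH) (path_nil _))))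
theorem F_3965 (IH : D.IHyp) : ed Gen.b V_340 = V_340 :=
  gap_rel RW_31 (path_edge (F_1462 IH) (path_edge (F_3963 IH) (path_edge (F_1463 IH) (path_nil _))))
theorem F_3967 (IH : D.IHyp) : ed Gen.b V_341 = V_341 :=
  gap_rel RW_4 (path_edge (F_1464 IH) (path_edge (F_3965 IH) (path_edge (F_1465 IH) (path_nil _))))
theorem F_3969 (IH : D.IHyp) : ed Gen.b V_342 = V_342 :=
  gap_rel RW_12 (path_edge (F_1466 IH) (path_edge (F_3967 IH) (path_edge (F_1467 IH) (path_nil _))))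
theorem F_3971 (IH : D.IHyp) : ed Gen.b V_343 = V_343 :=
  gap_rel RW_7 (path_edge (F_1468 IH) (path_edge (F_3969 IH) (path_edge (F_1469 IH) (path_nil _))))
theorem F_3973 (IH : D.IHyp) : ed Gen.d V_345 = V_343 :=
  gap_rel RW_22 (path_edge (F_1472 IH) (path_edge (F_1470 IH) (path_edge (F_3971 IH) (path_nil _))))
theorem F_3974 (IH : D.IHyp) : ed Gen.d V_343 = V_345 :=
  flipE D.rels D.S (hinv Gen.d) (F_3973 IH)
theorem F_3975 (IH : D.IHyp) : V_344 = V_345 :=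
  edge_fun (F_1470 IH) (F_3974 IH)
theorem F_3976 (IH : D.IHyp) : V_345 = V_344 :=
  (F_3975 IH).symm
theorem F_3978 (IH : D.IHyp) : ed Gen.c V_344 = V_346 :=
  edge_congr (F_1474 IH) (F_3976 IH)
theorem F_3979 (IH : D.IHyp) : ed Gen.c V_346 = V_344 :=
  flipE D.rels D.S (hinv Gen.c) (F_3978 IH)
theorem F_4194 (IH : D.IHyp) : ed Gen.d V_889 = V_940 :=
  rfl
theorem F_4195 (IH : D.IHyp) : ed Gen.d V_940 = V_889 :=
  flipE D.rels D.S (hinv Gen.d) (F_4194 IH)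
theorem F_4199 (IH : D.IHyp) : ed Gen.e V_940 = V_941 :=
  rfl
theorem F_4200 (IH : D.IHyp) : ed Gen.e V_941 = V_940 :=
  flipE D.rels D.S (hinv Gen.e) (F_4199 IH)
theorem F_4202 (IH : D.IHyp) : ed Gen.f V_941 = V_942 :=
  rfl
theorem F_4203 (IH : D.IHyp) : ed Gen.f V_942 = V_941 :=
  flipE D.rels D.S (hinv Gen.f) (F_4202 IH)
theorem F_4205 (IH : D.IHyp) : ed Gen.d V_942 = V_943 :=
  rfl
theorem F_4206 (IH : D.IHyp) : ed Gen.d V_943 = V_942 :=
  flipE D.rels D.S (hinv Gen.d) (F_4205 IH)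
theorem F_4208 (IH : D.IHyp) : ed Gen.h V_943 = V_944 :=
  rfl
theorem F_4209 (IH : D.IHyp) : ed Gen.h V_944 = V_943 :=
  flipE D.rels D.S (hinv Gen.h) (F_4208 IH)
theorem F_4210 (IH : D.IHyp) : ed Gen.i V_944 = V_945 :=
  rfl
theorem F_4211 (IH : D.IHyp) : ed Gen.i V_945 = V_944 :=
  flipE D.rels D.S (hinv Gen.i) (F_4210 IH)
theorem F_4213 (IH : D.IHyp) : ed Gen.d V_945 = V_946 :=
  rfl
theorem F_4214 (IH : D.IHyp) : ed Gen.d V_946 = V_945 :=
  flipE D.rels D.S (hinv Gen.d) (F_4213 IH)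
theorem F_4215 (IH : D.IHyp) : ed Gen.c V_946 = V_947 :=
  rfl
theorem F_4216 (IH : D.IHyp) : ed Gen.c V_947 = V_946 :=
  flipE D.rels D.S (hinv Gen.c) (F_4215 IH)
theorem F_4217 (IH : D.IHyp) : ed Gen.b V_947 = V_948 :=
  rfl
theorem F_4218 (IH : D.IHyp) : ed Gen.b V_948 = V_947 :=
  flipE D.rels D.S (hinv Gen.b) (F_4217 IH)
theorem F_4219 (IH : D.IHyp) : ed Gen.d V_948 = V_949 :=
  rfl
theorem F_4220 (IH : D.IHyp) : ed Gen.d V_949 = V_948 :=
  flipE D.rels D.S (hinv Gen.d) (F_4219 IH)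
theorem F_4221 (IH : D.IHyp) : ed Gen.e V_949 = V_950 :=
  rfl
theorem F_4222 (IH : D.IHyp) : ed Gen.e V_950 = V_949 :=
  flipE D.rels D.S (hinv Gen.e) (F_4221 IH)
theorem F_4223 (IH : D.IHyp) : ed Gen.f V_950 = V_951 :=
  rfl
theorem F_4224 (IH : D.IHyp) : ed Gen.f V_951 = V_950 :=
  flipE D.rels D.S (hinv Gen.f) (F_4223 IH)
theorem F_4225 (IH : D.IHyp) : ed Gen.d V_951 = V_952 :=
  rfl
theorem F_4226 (IH : D.IHyp) : ed Gen.d V_952 = V_951 :=
  flipE D.rels D.S (hinv Gen.d) (F_4225 IH)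
theorem F_4227 (IH : D.IHyp) : ed Gen.h V_952 = V_953 :=
  rfl
theorem F_4228 (IH : D.IHyp) : ed Gen.h V_953 = V_952 :=
  flipE D.rels D.S (hinv Gen.h) (F_4227 IH)
theorem F_4229 (IH : D.IHyp) : ed Gen.i V_953 = V_954 :=
  rfl
theorem F_4230 (IH : D.IHyp) : ed Gen.i V_954 = V_953 :=
  flipE D.rels D.S (hinv Gen.i) (F_4229 IH)
theorem F_4231 (IH : D.IHyp) : ed Gen.d V_954 = V_955 :=
  rfl
theorem F_4232 (IH : D.IHyp) : ed Gen.d V_955 = V_954 :=
  flipE D.rels D.S (hinv Gen.d) (F_4231 IH)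
theorem F_4233 (IH : D.IHyp) : ed Gen.c V_955 = V_956 :=
  rfl
theorem F_4234 (IH : D.IHyp) : ed Gen.c V_956 = V_955 :=
  flipE D.rels D.S (hinv Gen.c) (F_4233 IH)
theorem F_4235 (IH : D.IHyp) : ed Gen.b V_956 = V_957 :=
  rfl
theorem F_4236 (IH : D.IHyp) : ed Gen.b V_957 = V_956 :=
  flipE D.rels D.S (hinv Gen.b) (F_4235 IH)
theorem F_4237 (IH : D.IHyp) : ed Gen.d V_957 = V_958 :=
  rfl
theorem F_4238 (IH : D.IHyp) : ed Gen.d V_958 = V_957 :=
  flipE D.rels D.S (hinv Gen.d) (F_4237 IH)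
theorem F_4239 (IH : D.IHyp) : ed Gen.e V_958 = V_959 :=
  rfl
theorem F_4240 (IH : D.IHyp) : ed Gen.e V_959 = V_958 :=
  flipE D.rels D.S (hinv Gen.e) (F_4239 IH)
theorem F_4241 (IH : D.IHyp) : ed Gen.f V_959 = V_960 :=
  rfl
theorem F_4242 (IH : D.IHyp) : ed Gen.f V_960 = V_959 :=
  flipE D.rels D.S (hinv Gen.f) (F_4241 IH)
theorem F_4243 (IH : D.IHyp) : ed Gen.d V_960 = V_961 :=
  rfl
theorem F_4244 (IH : D.IHyp) : ed Gen.d V_961 = V_960 :=
  flipE D.rels D.S (hinv Gen.d) (F_4243 IH)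
theorem F_4245 (IH : D.IHyp) : ed Gen.h V_961 = V_962 :=
  rfl
theorem F_4246 (IH : D.IHyp) : ed Gen.h V_962 = V_961 :=
  flipE D.rels D.S (hinv Gen.h) (F_4245 IH)
theorem F_4247 (IH : D.IHyp) : ed Gen.i V_962 = V_963 :=
  rfl
theorem F_4248 (IH : D.IHyp) : ed Gen.i V_963 = V_962 :=
  flipE D.rels D.S (hinv Gen.i) (F_4247 IH)
theorem F_4249 (IH : D.IHyp) : ed Gen.d V_963 = V_964 :=
  rfl
theorem F_4250 (IH : D.IHyp) : ed Gen.d V_964 = V_963 :=
  flipE D.rels D.S (hinv Gen.d) (F_4249 IH)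
theorem F_4251 (IH : D.IHyp) : ed Gen.c V_964 = V_965 :=
  rfl
theorem F_4252 (IH : D.IHyp) : ed Gen.c V_965 = V_964 :=
  flipE D.rels D.S (hinv Gen.c) (F_4251 IH)
theorem F_4253 (IH : D.IHyp) : ed Gen.b V_965 = V_966 :=
  rfl
theorem F_4254 (IH : D.IHyp) : ed Gen.b V_966 = V_965 :=
  flipE D.rels D.S (hinv Gen.b) (F_4253 IH)
theorem F_4255 (IH : D.IHyp) : ed Gen.d V_966 = V_967 :=
  rfl
theorem F_4256 (IH : D.IHyp) : ed Gen.d V_967 = V_966 :=
  flipE D.rels D.S (hinv Gen.d) (F_4255 IH)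
theorem F_4257 (IH : D.IHyp) : ed Gen.e V_967 = V_968 :=
  rfl
theorem F_4258 (IH : D.IHyp) : ed Gen.e V_968 = V_967 :=
  flipE D.rels D.S (hinv Gen.e) (F_4257 IH)
theorem F_4259 (IH : D.IHyp) : ed Gen.f V_968 = V_969 :=
  rfl
theorem F_4260 (IH : D.IHyp) : ed Gen.f V_969 = V_968 :=
  flipE D.rels D.S (hinv Gen.f) (F_4259 IH)
theorem F_4261 (IH : D.IHyp) : ed Gen.d V_969 = V_970 :=
  rfl
theorem F_4262 (IH : D.IHyp) : ed Gen.d V_970 = V_969 :=
  flipE D.rels D.S (hinv Gen.d) (F_4261 IH)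
theorem F_4263 (IH : D.IHyp) : ed Gen.h V_970 = V_971 :=
  rfl
theorem F_4264 (IH : D.IHyp) : ed Gen.h V_971 = V_970 :=
  flipE D.rels D.S (hinv Gen.h) (F_4263 IH)
theorem F_4265 (IH : D.IHyp) : ed Gen.i V_971 = V_972 :=
  rfl
theorem F_4266 (IH : D.IHyp) : ed Gen.i V_972 = V_971 :=
  flipE D.rels D.S (hinv Gen.i) (F_4265 IH)
theorem F_4267 (IH : D.IHyp) : ed Gen.d V_972 = V_973 :=
  rfl
theorem F_4268 (IH : D.IHyp) : ed Gen.d V_973 = V_972 :=
  flipE D.rels D.S (hinv Gen.d) (F_4267 IH)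
theorem F_4269 (IH : D.IHyp) : ed Gen.c V_973 = V_974 :=
  rfl
theorem F_4270 (IH : D.IHyp) : ed Gen.c V_974 = V_973 :=
  flipE D.rels D.S (hinv Gen.c) (F_4269 IH)
theorem F_4271 (IH : D.IHyp) : ed Gen.b V_974 = V_975 :=
  rfl
theorem F_4272 (IH : D.IHyp) : ed Gen.b V_975 = V_974 :=
  flipE D.rels D.S (hinv Gen.b) (F_4271 IH)
theorem F_4273 (IH : D.IHyp) : ed Gen.d V_975 = V_976 :=
  rfl
theorem F_4274 (IH : D.IHyp) : ed Gen.d V_976 = V_975 :=
  flipE D.rels D.S (hinv Gen.d) (F_4273 IH)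
theorem F_4275 (IH : D.IHyp) : ed Gen.e V_976 = V_977 :=
  rfl
theorem F_4276 (IH : D.IHyp) : ed Gen.e V_977 = V_976 :=
  flipE D.rels D.S (hinv Gen.e) (F_4275 IH)
theorem F_4277 (IH : D.IHyp) : ed Gen.f V_977 = V_978 :=
  rfl
theorem F_4278 (IH : D.IHyp) : ed Gen.f V_978 = V_977 :=
  flipE D.rels D.S (hinv Gen.f) (F_4277 IH)
theorem F_4279 (IH : D.IHyp) : ed Gen.d V_978 = V_979 :=
  rfl
theorem F_4280 (IH : D.IHyp) : ed Gen.d V_979 = V_978 :=
  flipE D.rels D.S (hinv Gen.d) (F_4279 IH)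
theorem F_4281 (IH : D.IHyp) : ed Gen.h V_979 = V_980 :=
  rfl
theorem F_4282 (IH : D.IHyp) : ed Gen.h V_980 = V_979 :=
  flipE D.rels D.S (hinv Gen.h) (F_4281 IH)
theorem F_4283 (IH : D.IHyp) : ed Gen.i V_980 = V_981 :=
  rfl
theorem F_4284 (IH : D.IHyp) : ed Gen.i V_981 = V_980 :=
  flipE D.rels D.S (hinv Gen.i) (F_4283 IH)
theorem F_4285 (IH : D.IHyp) : ed Gen.d V_981 = V_982 :=
  rfl
theorem F_4286 (IH : D.IHyp) : ed Gen.d V_982 = V_981 :=
  flipE D.rels D.S (hinv Gen.d) (F_4285 IH)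
theorem F_4287 (IH : D.IHyp) : ed Gen.c V_982 = V_983 :=
  rfl
theorem F_4288 (IH : D.IHyp) : ed Gen.c V_983 = V_982 :=
  flipE D.rels D.S (hinv Gen.c) (F_4287 IH)
theorem F_4289 (IH : D.IHyp) : ed Gen.b V_983 = V_984 :=
  rfl
theorem F_4290 (IH : D.IHyp) : ed Gen.b V_984 = V_983 :=
  flipE D.rels D.S (hinv Gen.b) (F_4289 IH)
theorem F_4291 (IH : D.IHyp) : ed Gen.d V_984 = V_985 :=
  rfl
theorem F_4292 (IH : D.IHyp) : ed Gen.d V_985 = V_984 :=
  flipE D.rels D.S (hinv Gen.d) (F_4291 IH)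
theorem F_4293 (IH : D.IHyp) : ed Gen.e V_985 = V_986 :=
  rfl
theorem F_4294 (IH : D.IHyp) : ed Gen.e V_986 = V_985 :=
  flipE D.rels D.S (hinv Gen.e) (F_4293 IH)
theorem F_4295 (IH : D.IHyp) : ed Gen.f V_986 = V_987 :=
  rfl
theorem F_4296 (IH : D.IHyp) : ed Gen.f V_987 = V_986 :=
  flipE D.rels D.S (hinv Gen.f) (F_4295 IH)
theorem F_4297 (IH : D.IHyp) : ed Gen.d V_987 = V_988 :=
  rfl
theorem F_4298 (IH : D.IHyp) : ed Gen.d V_988 = V_987 :=
  flipE D.rels D.S (hinv Gen.d) (F_4297 IH)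
theorem F_4299 (IH : D.IHyp) : ed Gen.h V_988 = V_989 :=
  rfl
theorem F_4300 (IH : D.IHyp) : ed Gen.h V_989 = V_988 :=
  flipE D.rels D.S (hinv Gen.h) (F_4299 IH)
theorem F_4301 (IH : D.IHyp) : ed Gen.i V_989 = V_990 :=
  rfl
theorem F_4302 (IH : D.IHyp) : ed Gen.i V_990 = V_989 :=
  flipE D.rels D.S (hinv Gen.i) (F_4301 IH)
theorem F_4303 (IH : D.IHyp) : ed Gen.d V_990 = V_991 :=
  rfl
theorem F_4304 (IH : D.IHyp) : ed Gen.d V_991 = V_990 :=
  flipE D.rels D.S (hinv Gen.d) (F_4303 IH)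
theorem F_4305 (IH : D.IHyp) : ed Gen.c V_991 = V_992 :=
  rfl
theorem F_4306 (IH : D.IHyp) : ed Gen.c V_992 = V_991 :=
  flipE D.rels D.S (hinv Gen.c) (F_4305 IH)
theorem F_4307 (IH : D.IHyp) : ed Gen.b V_992 = V_993 :=
  rfl
theorem F_4308 (IH : D.IHyp) : ed Gen.b V_993 = V_992 :=
  flipE D.rels D.S (hinv Gen.b) (F_4307 IH)
theorem F_4309 (IH : D.IHyp) : ed Gen.d V_993 = V_994 :=
  rfl
theorem F_4310 (IH : D.IHyp) : ed Gen.d V_994 = V_993 :=
  flipE D.rels D.S (hinv Gen.d) (F_4309 IH)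
theorem F_4311 (IH : D.IHyp) : ed Gen.e V_994 = V_995 :=
  rfl
theorem F_4312 (IH : D.IHyp) : ed Gen.e V_995 = V_994 :=
  flipE D.rels D.S (hinv Gen.e) (F_4311 IH)
theorem F_4313 (IH : D.IHyp) : ed Gen.f V_995 = V_996 :=
  rfl
theorem F_4314 (IH : D.IHyp) : ed Gen.f V_996 = V_995 :=
  flipE D.rels D.S (hinv Gen.f) (F_4313 IH)
theorem F_4315 (IH : D.IHyp) : ed Gen.d V_996 = V_997 :=
  rfl
theorem F_4316 (IH : D.IHyp) : ed Gen.d V_997 = V_996 :=
  flipE D.rels D.S (hinv Gen.d) (F_4315 IH)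
theorem F_4317 (IH : D.IHyp) : ed Gen.h V_997 = V_998 :=
  rfl
theorem F_4318 (IH : D.IHyp) : ed Gen.h V_998 = V_997 :=
  flipE D.rels D.S (hinv Gen.h) (F_4317 IH)
theorem F_4319 (IH : D.IHyp) : ed Gen.i V_998 = V_999 :=
  rfl
theorem F_4320 (IH : D.IHyp) : ed Gen.i V_999 = V_998 :=
  flipE D.rels D.S (hinv Gen.i) (F_4319 IH)
theorem F_4321 (IH : D.IHyp) : ed Gen.d V_999 = V_1000 :=
  rfl
theorem F_4322 (IH : D.IHyp) : ed Gen.d V_1000 = V_999 :=
  flipE D.rels D.S (hinv Gen.d) (F_4321 IH)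
theorem F_4323 (IH : D.IHyp) : ed Gen.c V_1000 = V_1001 :=
  rfl
theorem F_4324 (IH : D.IHyp) : ed Gen.c V_1001 = V_1000 :=
  flipE D.rels D.S (hinv Gen.c) (F_4323 IH)
theorem F_4325 (IH : D.IHyp) : ed Gen.b V_1001 = V_1002 :=
  rfl
theorem F_4326 (IH : D.IHyp) : ed Gen.b V_1002 = V_1001 :=
  flipE D.rels D.S (hinv Gen.b) (F_4325 IH)
theorem F_4327 (IH : D.IHyp) : ed Gen.d V_1002 = V_1003 :=
  rfl
theorem F_4328 (IH : D.IHyp) : ed Gen.d V_1003 = V_1002 :=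
  flipE D.rels D.S (hinv Gen.d) (F_4327 IH)
theorem F_4329 (IH : D.IHyp) : ed Gen.e V_1003 = V_1004 :=
  rfl
theorem F_4330 (IH : D.IHyp) : ed Gen.e V_1004 = V_1003 :=
  flipE D.rels D.S (hinv Gen.e) (F_4329 IH)
theorem F_4331 (IH : D.IHyp) : ed Gen.f V_1004 = V_1005 :=
  rfl
theorem F_4332 (IH : D.IHyp) : ed Gen.f V_1005 = V_1004 :=
  flipE D.rels D.S (hinv Gen.f) (F_4331 IH)
theorem F_4333 (IH : D.IHyp) : ed Gen.d V_1005 = V_1006 :=
  rfl
theorem F_4334 (IH : D.IHyp) : ed Gen.d V_1006 = V_1005 :=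
  flipE D.rels D.S (hinv Gen.d) (F_4333 IH)
theorem F_4335 (IH : D.IHyp) : ed Gen.h V_1006 = V_1007 :=
  rfl
theorem F_4336 (IH : D.IHyp) : ed Gen.h V_1007 = V_1006 :=
  flipE D.rels D.S (hinv Gen.h) (F_4335 IH)
theorem F_4337 (IH : D.IHyp) : ed Gen.i V_1007 = V_1008 :=
  rfl
theorem F_4338 (IH : D.IHyp) : ed Gen.i V_1008 = V_1007 :=
  flipE D.rels D.S (hinv Gen.i) (F_4337 IH)
theorem F_4339 (IH : D.IHyp) : ed Gen.d V_1008 = V_1009 :=
  rfl
theorem F_4340 (IH : D.IHyp) : ed Gen.d V_1009 = V_1008 :=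
  flipE D.rels D.S (hinv Gen.d) (F_4339 IH)
theorem F_4341 (IH : D.IHyp) : ed Gen.c V_1009 = V_1010 :=
  rfl
theorem F_4342 (IH : D.IHyp) : ed Gen.c V_1010 = V_1009 :=
  flipE D.rels D.S (hinv Gen.c) (F_4341 IH)
theorem F_4343 (IH : D.IHyp) : ed Gen.b V_1010 = V_1011 :=
  rfl
theorem F_4344 (IH : D.IHyp) : ed Gen.b V_1011 = V_1010 :=
  flipE D.rels D.S (hinv Gen.b) (F_4343 IH)
theorem F_4345 (IH : D.IHyp) : ed Gen.d V_1011 = V_1012 :=
  rfl
theorem F_4346 (IH : D.IHyp) : ed Gen.d V_1012 = V_1011 :=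
  flipE D.rels D.S (hinv Gen.d) (F_4345 IH)
theorem F_4347 (IH : D.IHyp) : ed Gen.e V_1012 = V_1013 :=
  rfl
theorem F_4348 (IH : D.IHyp) : ed Gen.e V_1013 = V_1012 :=
  flipE D.rels D.S (hinv Gen.e) (F_4347 IH)
theorem F_4349 (IH : D.IHyp) : ed Gen.f V_1013 = V_1014 :=
  rfl
theorem F_4350 (IH : D.IHyp) : ed Gen.f V_1014 = V_1013 :=
  flipE D.rels D.S (hinv Gen.f) (F_4349 IH)
theorem F_4351 (IH : D.IHyp) : ed Gen.d V_1014 = V_1015 :=
  rfl
theorem F_4352 (IH : D.IHyp) : ed Gen.d V_1015 = V_1014 :=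
  flipE D.rels D.S (hinv Gen.d) (F_4351 IH)
theorem F_4353 (IH : D.IHyp) : ed Gen.h V_1015 = V_1016 :=
  rfl
theorem F_4354 (IH : D.IHyp) : ed Gen.h V_1016 = V_1015 :=
  flipE D.rels D.S (hinv Gen.h) (F_4353 IH)
theorem F_4355 (IH : D.IHyp) : ed Gen.i V_1016 = V_1017 :=
  rfl
theorem F_4356 (IH : D.IHyp) : ed Gen.i V_1017 = V_1016 :=
  flipE D.rels D.S (hinv Gen.i) (F_4355 IH)
theorem F_4357 (IH : D.IHyp) : ed Gen.d V_1017 = V_1018 :=
  rfl
theorem F_4358 (IH : D.IHyp) : ed Gen.d V_1018 = V_1017 :=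
  flipE D.rels D.S (hinv Gen.d) (F_4357 IH)
theorem F_4359 (IH : D.IHyp) : ed Gen.c V_1018 = V_1019 :=
  rfl
theorem F_4360 (IH : D.IHyp) : ed Gen.c V_1019 = V_1018 :=
  flipE D.rels D.S (hinv Gen.c) (F_4359 IH)
theorem F_4361 (IH : D.IHyp) : ed Gen.b V_1019 = V_1020 :=
  rfl
theorem F_4362 (IH : D.IHyp) : ed Gen.b V_1020 = V_1019 :=
  flipE D.rels D.S (hinv Gen.b) (F_4361 IH)
theorem F_4363 (IH : D.IHyp) : ed Gen.d V_1020 = V_1021 :=
  rfl
theorem F_4364 (IH : D.IHyp) : ed Gen.d V_1021 = V_1020 :=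
  flipE D.rels D.S (hinv Gen.d) (F_4363 IH)
theorem F_4365 (IH : D.IHyp) : ed Gen.e V_1021 = V_1022 :=
  rfl
theorem F_4366 (IH : D.IHyp) : ed Gen.e V_1022 = V_1021 :=
  flipE D.rels D.S (hinv Gen.e) (F_4365 IH)
theorem F_4367 (IH : D.IHyp) : ed Gen.f V_685 = V_1022 :=
  gap_rel RW_16 (path_edge (F_2919 IH) (path_edge (F_3933 IH) (path_edge (F_668 IH) (path_edge (F_665 IH) (path_edge (F_3882 IH) (path_edge (F_3900 IH) (path_edge (F_4195 IH) (path_edge (F_4200 IH) (path_edge (F_4203 IH) (path_edge (F_4206 IH) (path_edge (F_4209 IH) (path_edge (F_4211 IH) (path_edge (F_4214 IH) (path_edge (F_4216 IH) (path_edge (F_4218 IH) (path_edge (F_4220 IH) (path_edge (F_4222 IH) (path_edge (F_4224 IH) (path_edge (F_4226 IH) (path_edge (F_4228 IH) (path_edge (F_4230 IH) (path_edge (F_4232 IH) (path_edge (F_4234 IH) (path_edge (F_4236 IH) (path_edge (F_4238 IH) (path_edge (F_4240 IH) (path_edge (F_4242 IH) (path_edge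 (F_4244 IH) (path_edge (F_4246 IH) (path_edge (F_4248 IH) (path_edge (F_4250 IH) (path_edge (F_4252 IH) (path_edge (F_4254 IH) (path_edge (F_4256 IH) (path_edge (F_4258 IH) (path_edge (F_4260 IH) (path_edge (F_4262 IH) (path_edge (F_4264 IH) (path_edge (F_4266 IH) (path_edge (F_4268 IH) (path_edge (F_4270 IH) (path_edge (F_4272 IH) (path_edge (F_4274 IH) (path_edge (F_4276 IH) (path_edge (F_4278 IH) (path_edge (F_4280 IH) (path_edge (F_4282 IH) (path_edge (F_4284 IH) (path_edge (F_4286 IH) (path_edge (F_4288 IH) (path_edge (F_4290 IH) (path_edge (F_4292 IH) (path_edge (F_4294 IH) (path_edge (F_4296 IH) (path_edge (F_4298 IH) (path_edge (F_4300 IH) (path_edge (F_4302 IH) (path_edge (F_4304 IH) (path_edge (F_4306 IH) (path_edge (F_4308 IH) (path_edge (F_4310 IH) (path_edge (F_4312 IH) (path_edge (F_4314 IH) (path_edge (F_4316 IH) (path_edge (F_4318 IH) (path_edge (F_4320 IH) (path_edge (F_4322 IH)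 (path_edge (F_4324 IH) (path_edge (F_4326 IH) (path_edge (F_4328 IH) (path_edge (F_4330 IH) (path_edge (F_4332 IH) (path_edge (F_4334 IH) (path_edge (F_4336 IH) (path_edge (F_4338 IH) (path_edge (F_4340 IH) (path_edge (F_4342 IH) (path_edge (F_4344 IH) (path_edge (F_4346 IH) (path_edge (F_4348 IH) (path_edge (F_4350 IH) (path_edge (F_4352 IH) (path_edge (F_4354 IH) (path_edge (F_4356 IH) (path_edge (F_4358 IH) (path_edge (F_4360 IH) (path_edge (F_4362 IH) (path_edge (F_4364 IH) (path_edge (F_4366 IH) (path_nil _))))))))))))))))))))))))))))))))))))))))))))))))))))))))))))))))))))))))))))))))))))))))))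
theorem F_4368 (IH : D.IHyp) : ed Gen.f V_1022 = V_685 :=
  flipE D.rels D.S (hinv Gen.f) (F_4367 IH)
theorem F_4369 (IH : D.IHyp) : ed Gen.b V_1022 = V_1022 :=
  gap_rel RW_12 (path_edge (F_4367 IH) (path_edge (F_2918 IH) (path_edge (F_4368 IH) (path_nil _))))
theorem F_4370 (IH : D.IHyp) : ed Gen.d V_1022 = V_1022 :=
  gap_rel RW_34 (path_edge (F_4367 IH) (path_edge (F_2919 IH) (path_edge (F_4368 IH) (path_nil _))))
theorem F_4371 (IH : D.IHyp) : ed Gen.b V_1021 = V_1021 :=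
  gap_rel RW_7 (path_edge (F_4366 IH) (path_edge (F_4369 IH) (path_edge (F_4365 IH) (path_nil _))))
theorem F_4372 (IH : D.IHyp) : ed Gen.h V_888 = V_1022 :=
  gap_rel RW_13 (path_edge (F_3893 IH) (path_edge (F_3934 IH) (path_edge (F_4368 IH) (path_nil _))))
theorem F_4373 (IH : D.IHyp) : ed Gen.h V_1022 = V_888 :=
  flipE D.rels D.S (hinv Gen.h) (F_4372 IH)
theorem F_4374 (IH : D.IHyp) : V_1022 = V_1021 :=
  loop_rel RW_26 (path_edge (F_4366 IH) (path_edge (F_4372 IH) (path_edge (F_3925 IH) (path_edge (F_4373 IH) (path_nil _)))))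
theorem F_4377 (IH : D.IHyp) : ed Gen.d V_1022 = V_1021 :=
  (F_4370 IH).trans (F_4374 IH)
theorem F_4378 (IH : D.IHyp) : ed Gen.d V_1021 = V_1021 :=
  edge_congr (F_4377 IH) (F_4374 IH)
theorem F_4379 (IH : D.IHyp) : V_1020 = V_1021 :=
  edge_fun (F_4364 IH) (F_4378 IH)
theorem F_4382 (IH : D.IHyp) : ed Gen.e V_1021 = V_1021 :=
  edge_congr (F_4366 IH) (F_4374 IH)
theorem F_4383 (IH : D.IHyp) : ed Gen.f V_1021 = V_685 :=
  edge_congr (F_4368 IH) (F_4374 IH)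
theorem F_4387 (IH : D.IHyp) : V_1021 = V_1020 :=
  (F_4379 IH).symm
theorem F_4388 (IH : D.IHyp) : ed Gen.b V_1021 = V_1020 :=
  (F_4371 IH).trans (F_4387 IH)
theorem F_4389 (IH : D.IHyp) : ed Gen.b V_1020 = V_1020 :=
  edge_congr (F_4388 IH) (F_4387 IH)
theorem F_4390 (IH : D.IHyp) : V_1019 = V_1020 :=
  edge_fun (F_4362 IH) (F_4389 IH)
theorem F_4394 (IH : D.IHyp) : ed Gen.e V_1021 = V_1020 :=
  (F_4382 IH).trans (F_4387 IH)
theorem F_4395 (IH : D.IHyp) : ed Gen.e V_1020 = V_1020 :=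
  edge_congr (F_4394 IH) (F_4387 IH)
theorem F_4396 (IH : D.IHyp) : ed Gen.f V_1020 = V_685 :=
  edge_congr (F_4383 IH) (F_4387 IH)
theorem F_4400 (IH : D.IHyp) : V_1020 = V_1019 :=
  (F_4390 IH).symm
theorem F_4401 (IH : D.IHyp) : ed Gen.b V_1019 = V_1019 :=
  edge_congr (F_4362 IH) (F_4400 IH)
theorem F_4404 (IH : D.IHyp) : ed Gen.e V_1020 = V_1019 :=
  (F_4395 IH).trans (F_4400 IH)
theorem F_4405 (IH : D.IHyp) : ed Gen.e V_1019 = V_1019 :=
  edge_congr (F_4404 IH) (F_4400 IH)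
theorem F_4406 (IH : D.IHyp) : ed Gen.f V_1019 = V_685 :=
  edge_congr (F_4396 IH) (F_4400 IH)
theorem F_4411 (IH : D.IHyp) : ed Gen.f V_334 = V_1018 :=
  gap_rel RW_0 (path_edge (F_3941 IH) (path_edge (F_4406 IH) (path_edge (F_4359 IH) (path_nil _))))
theorem F_4412 (IH : D.IHyp) : ed Gen.f V_1018 = V_334 :=
  flipE D.rels D.S (hinv Gen.f) (F_4411 IH)
theorem F_4415 (IH : D.IHyp) : ed Gen.f V_335 = V_1017 :=
  gap_rel RW_17 (path_edge (F_1449 IH) (path_edge (F_4412 IH) (path_edge (F_4357 IH) (path_nil _))))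
theorem F_4416 (IH : D.IHyp) : ed Gen.f V_1017 = V_335 :=
  flipE D.rels D.S (hinv Gen.f) (F_4415 IH)
theorem F_4419 (IH : D.IHyp) : ed Gen.f V_688 = V_1016 :=
  gap_rel RW_36 (path_edge (F_3949 IH) (path_edge (F_4416 IH) (path_edge (F_4355 IH) (path_nil _))))
theorem F_4420 (IH : D.IHyp) : ed Gen.f V_1016 = V_688 :=
  flipE D.rels D.S (hinv Gen.f) (F_4419 IH)
theorem F_4422 (IH : D.IHyp) : ed Gen.f V_689 = V_1015 :=
  gap_rel RW_27 (path_edge (F_2928 IH) (path_edge (F_4420 IH) (path_edge (F_4353 IH) (path_nil _))))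
theorem F_4423 (IH : D.IHyp) : ed Gen.f V_1015 = V_689 :=
  flipE D.rels D.S (hinv Gen.f) (F_4422 IH)
theorem F_4424 (IH : D.IHyp) : ed Gen.d V_1013 = V_689 :=
  gap_rel RW_34 (path_edge (F_4350 IH) (path_edge (F_4352 IH) (path_edge (F_4422 IH) (path_nil _))))
theorem F_4425 (IH : D.IHyp) : ed Gen.d V_689 = V_1013 :=
  flipE D.rels D.S (hinv Gen.d) (F_4424 IH)
theorem F_4426 (IH : D.IHyp) : V_690 = V_1013 :=
  edge_fun (F_2931 IH) (F_4425 IH)
theorem F_4427 (IH : D.IHyp) : V_1013 = V_690 :=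
  (F_4426 IH).symm
theorem F_4429 (IH : D.IHyp) : ed Gen.e V_690 = V_1012 :=
  edge_congr (F_4348 IH) (F_4427 IH)
theorem F_4430 (IH : D.IHyp) : ed Gen.e V_1012 = V_690 :=
  flipE D.rels D.S (hinv Gen.e) (F_4429 IH)
theorem F_4438 (IH : D.IHyp) : ed Gen.e V_1011 = V_690 :=
  gap_rel RW_29 (path_edge (F_4346 IH) (path_edge (F_4429 IH) (path_edge (F_2931 IH) (path_edge (F_3957 IH) (path_edge (F_2932 IH) (path_nil _))))))
theorem F_4439 (IH : D.IHyp) : ed Gen.e V_690 = V_1011 :=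
  flipE D.rels D.S (hinv Gen.e) (F_4438 IH)
theorem F_4440 (IH : D.IHyp) : V_1012 = V_1011 :=
  edge_fun (F_4429 IH) (F_4439 IH)
theorem F_4441 (IH : D.IHyp) : ed Gen.d V_1011 = V_1011 :=
  edge_congr (F_4346 IH) (F_4440 IH)
theorem F_4442 (IH : D.IHyp) : ed Gen.e V_1011 = V_690 :=
  edge_congr (F_4430 IH) (F_4440 IH)
theorem F_4443 (IH : D.IHyp) : ed Gen.e V_690 = V_1011 :=
  flipE D.rels D.S (hinv Gen.e) (F_4442 IH)
theorem F_4444 (IH : D.IHyp) : ed Gen.d V_1010 = V_1010 :=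
  gap_rel RW_22 (path_edge (F_4344 IH) (path_edge (F_4441 IH) (path_edge (F_4343 IH) (path_nil _))))
theorem F_4445 (IH : D.IHyp) : ed Gen.c V_1008 = V_1008 :=
  gap_rel RW_6 (path_edge (F_4340 IH) (path_edge (F_4342 IH) (path_edge (F_4444 IH) (path_edge (F_4341 IH) (path_edge (F_4339 IH) (path_nil _))))))
theorem F_4448 (IH : D.IHyp) : ed Gen.b V_254 = V_1023 :=
  rfl
theorem F_4449 (IH : D.IHyp) : ed Gen.b V_1023 = V_254 :=
  flipE D.rels D.S (hinv Gen.b) (F_4448 IH)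
theorem F_4452 (IH : D.IHyp) : ed Gen.d V_1023 = V_1024 :=
  rfl
theorem F_4453 (IH : D.IHyp) : ed Gen.d V_1024 = V_1023 :=
  flipE D.rels D.S (hinv Gen.d) (F_4452 IH)
theorem F_4454 (IH : D.IHyp) : ed Gen.b V_255 = V_1024 :=
  gap_rel RW_4 (path_edge (F_672 IH) (path_edge (F_4449 IH) (path_edge (F_4453 IH) (path_nil _))))
theorem F_4455 (IH : D.IHyp) : ed Gen.b V_1024 = V_255 :=
  flipE D.rels D.S (hinv Gen.b) (F_4454 IH)
theorem F_4457 (IH : D.IHyp) : ed Gen.e V_1024 = V_1025 :=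
  rfl
theorem F_4458 (IH : D.IHyp) : ed Gen.e V_1025 = V_1024 :=
  flipE D.rels D.S (hinv Gen.e) (F_4457 IH)
theorem F_4460 (IH : D.IHyp) : ed Gen.f V_1025 = V_1026 :=
  rfl
theorem F_4461 (IH : D.IHyp) : ed Gen.f V_1026 = V_1025 :=
  flipE D.rels D.S (hinv Gen.f) (F_4460 IH)
theorem F_4463 (IH : D.IHyp) : ed Gen.d V_1026 = V_1027 :=
  rfl
theorem F_4464 (IH : D.IHyp) : ed Gen.d V_1027 = V_1026 :=
  flipE D.rels D.S (hinv Gen.d) (F_4463 IH)
theorem F_4645 (IH : D.IHyp) : ed Gen.i V_685 = V_1102 :=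
  rfl
theorem F_4646 (IH : D.IHyp) : ed Gen.i V_1102 = V_685 :=
  flipE D.rels D.S (hinv Gen.i) (F_4645 IH)
theorem F_4647 (IH : D.IHyp) : ed Gen.b V_1102 = V_1102 :=
  gap_rel RW_33 (path_edge (F_4645 IH) (path_edge (F_2918 IH) (path_edge (F_4646 IH) (path_nil _))))
theorem F_4649 (IH : D.IHyp) : ed Gen.h V_1102 = V_1102 :=
  gap_rel RW_32 (path_edge (F_4645 IH) (path_edge (F_3933 IH) (path_edge (F_668 IH) (path_edge (F_3934 IH) (path_edge (F_4646 IH) (path_nil _))))))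
theorem F_4650 (IH : D.IHyp) : ed Gen.c V_1102 = V_1103 :=
  rfl
theorem F_4651 (IH : D.IHyp) : ed Gen.c V_1103 = V_1102 :=
  flipE D.rels D.S (hinv Gen.c) (F_4650 IH)
theorem F_4652 (IH : D.IHyp) : ed Gen.h V_1103 = V_1103 :=
  gap_rel RW_1 (path_edge (F_4650 IH) (path_edge (F_4649 IH) (path_edge (F_4651 IH) (path_nil _))))
theorem F_4653 (IH : D.IHyp) : ed Gen.i V_1103 = V_334 :=
  gap_rel RW_2 (path_edge (F_4650 IH) (path_edge (F_4645 IH) (path_edge (F_3937 IH) (path_nil _))))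
theorem F_4654 (IH : D.IHyp) : ed Gen.i V_334 = V_1103 :=
  flipE D.rels D.S (hinv Gen.i) (F_4653 IH)
theorem F_4655 (IH : D.IHyp) : ed Gen.d V_1103 = V_688 :=
  gap_rel RW_35 (path_edge (F_4654 IH) (path_edge (F_1450 IH) (path_edge (F_3950 IH) (path_nil _))))
theorem F_4656 (IH : D.IHyp) : ed Gen.d V_688 = V_1103 :=
  flipE D.rels D.S (hinv Gen.d) (F_4655 IH)
theorem F_4657 (IH : D.IHyp) : ed Gen.h V_690 = V_688 :=
  gap_rel RW_37 (path_edge (F_2931 IH) (path_edge (F_2928 IH) (path_edge (F_4655 IH) (path_edge (F_4652 IH) (path_edge (F_4656 IH) (path_nil _))))))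
theorem F_4658 (IH : D.IHyp) : ed Gen.h V_688 = V_690 :=
  flipE D.rels D.S (hinv Gen.h) (F_4657 IH)
theorem F_4659 (IH : D.IHyp) : V_689 = V_690 :=
  edge_fun (F_2928 IH) (F_4658 IH)
theorem F_4660 (IH : D.IHyp) : V_690 = V_689 :=
  (F_4659 IH).symm
theorem F_4662 (IH : D.IHyp) : ed Gen.e V_689 = V_1011 :=
  edge_congr (F_4443 IH) (F_4660 IH)
theorem F_4663 (IH : D.IHyp) : V_689 = V_1011 :=
  edge_fun (F_3957 IH) (F_4662 IH)
theorem F_4665 (IH : D.IHyp) : ed Gen.f V_689 = V_691 :=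
  edge_congr (F_2933 IH) (F_4660 IH)
theorem F_4666 (IH : D.IHyp) : V_1015 = V_691 :=
  edge_fun (F_4422 IH) (F_4665 IH)
theorem F_4669 (IH : D.IHyp) : V_1011 = V_689 :=
  (F_4663 IH).symm
theorem F_4670 (IH : D.IHyp) : ed Gen.b V_689 = V_1010 :=
  edge_congr (F_4344 IH) (F_4669 IH)
theorem F_4671 (IH : D.IHyp) : ed Gen.b V_1010 = V_689 :=
  flipE D.rels D.S (hinv Gen.b) (F_4670 IH)
theorem F_4678 (IH : D.IHyp) : ed Gen.f V_691 = V_689 :=
  edge_congr (F_4423 IH) (F_4666 IH)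
theorem F_4679 (IH : D.IHyp) : ed Gen.f V_689 = V_691 :=
  flipE D.rels D.S (hinv Gen.f) (F_4678 IH)
theorem F_4680 (IH : D.IHyp) : ed Gen.h V_691 = V_1016 :=
  edge_congr (F_4353 IH) (F_4666 IH)
theorem F_4716 (IH : D.IHyp) : ed Gen.b V_1103 = V_1104 :=
  rfl
theorem F_4717 (IH : D.IHyp) : ed Gen.b V_1104 = V_1103 :=
  flipE D.rels D.S (hinv Gen.b) (F_4716 IH)
theorem F_4719 (IH : D.IHyp) : ed Gen.c V_1104 = V_1104 :=
  gap_rel RW_3 (path_edge (F_4716 IH) (path_edge (F_4650 IH) (path_edge (F_4647 IH) (path_edge (F_4651 IH) (path_edge (F_4717 IH) (path_nil _))))))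
theorem F_4720 (IH : D.IHyp) : ed Gen.d V_1104 = V_1105 :=
  rfl
theorem F_4721 (IH : D.IHyp) : ed Gen.d V_1105 = V_1104 :=
  flipE D.rels D.S (hinv Gen.d) (F_4720 IH)
theorem F_4722 (IH : D.IHyp) : ed Gen.b V_688 = V_1105 :=
  gap_rel RW_4 (path_edge (F_4655 IH) (path_edge (F_4717 IH) (path_edge (F_4721 IH) (path_nil _))))
theorem F_4723 (IH : D.IHyp) : ed Gen.b V_1105 = V_688 :=
  flipE D.rels D.S (hinv Gen.b) (F_4722 IH)
theorem F_4725 (IH : D.IHyp) : ed Gen.h V_1010 = V_1105 :=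
  gap_rel RW_40 (path_edge (F_4670 IH) (path_edge (F_2928 IH) (path_edge (F_4723 IH) (path_nil _))))
theorem F_4726 (IH : D.IHyp) : ed Gen.h V_1105 = V_1010 :=
  flipE D.rels D.S (hinv Gen.h) (F_4725 IH)
theorem F_4727 (IH : D.IHyp) : ed Gen.i V_336 = V_1105 :=
  gap_rel RW_44 (path_edge (F_1452 IH) (path_edge (F_3950 IH) (path_edge (F_4723 IH) (path_nil _))))
theorem F_4728 (IH : D.IHyp) : ed Gen.i V_1105 = V_336 :=
  flipE D.rels D.S (hinv Gen.i) (F_4727 IH)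
theorem F_4729 (IH : D.IHyp) : ed Gen.f V_1105 = V_1106 :=
  rfl
theorem F_4730 (IH : D.IHyp) : ed Gen.f V_1106 = V_1105 :=
  flipE D.rels D.S (hinv Gen.f) (F_4729 IH)
theorem F_4731 (IH : D.IHyp) : ed Gen.b V_1016 = V_1106 :=
  gap_rel RW_12 (path_edge (F_4419 IH) (path_edge (F_4723 IH) (path_edge (F_4730 IH) (path_nil _))))
theorem F_4733 (IH : D.IHyp) : ed Gen.d V_1106 = V_1107 :=
  rfl
theorem F_4735 (IH : D.IHyp) : ed Gen.f V_1107 = V_1104 :=
  gap_rel RW_17 (path_edge (F_4733 IH) (path_edge (F_4729 IH) (path_edge (F_4720 IH) (path_nil _))))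
theorem F_4736 (IH : D.IHyp) : ed Gen.f V_1104 = V_1107 :=
  flipE D.rels D.S (hinv Gen.f) (F_4735 IH)
theorem F_4737 (IH : D.IHyp) : ed Gen.c V_1107 = V_1107 :=
  gap_rel RW_18 (path_edge (F_4736 IH) (path_edge (F_4719 IH) (path_edge (F_4735 IH) (path_nil _))))
theorem F_4739 (IH : D.IHyp) : ed Gen.i V_1107 = V_1108 :=
  rfl
theorem F_4740 (IH : D.IHyp) : ed Gen.i V_1108 = V_1107 :=
  flipE D.rels D.S (hinv Gen.i) (F_4739 IH)
theorem F_4741 (IH : D.IHyp) : ed Gen.c V_1108 = V_1108 :=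
  gap_rel RW_20 (path_edge (F_4739 IH) (path_edge (F_4737 IH) (path_edge (F_4740 IH) (path_nil _))))
theorem F_4742 (IH : D.IHyp) : ed Gen.d V_1108 = V_1109 :=
  rfl
theorem F_4743 (IH : D.IHyp) : ed Gen.d V_1109 = V_1108 :=
  flipE D.rels D.S (hinv Gen.d) (F_4742 IH)
theorem F_4744 (IH : D.IHyp) : ed Gen.i V_1109 = V_1106 :=
  gap_rel RW_5 (path_edge (F_4742 IH) (path_edge (F_4739 IH) (path_edge (F_4733 IH) (path_nil _))))
theorem F_4745 (IH : D.IHyp) : ed Gen.i V_1106 = V_1109 :=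
  flipE D.rels D.S (hinv Gen.i) (F_4744 IH)
theorem F_4746 (IH : D.IHyp) : ed Gen.b V_1109 = V_1017 :=
  gap_rel RW_33 (path_edge (F_4745 IH) (path_edge (F_4731 IH) (path_edge (F_4356 IH) (path_nil _))))
theorem F_4747 (IH : D.IHyp) : ed Gen.b V_1017 = V_1109 :=
  flipE D.rels D.S (hinv Gen.b) (F_4746 IH)
theorem F_4750 (IH : D.IHyp) : ed Gen.f V_1109 = V_336 :=
  gap_rel RW_39 (path_edge (F_4747 IH) (path_edge (F_4415 IH) (path_edge (F_1453 IH) (path_nil _))))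
theorem F_4751 (IH : D.IHyp) : ed Gen.f V_336 = V_1109 :=
  flipE D.rels D.S (hinv Gen.f) (F_4750 IH)
theorem F_4754 (IH : D.IHyp) : ed Gen.c V_1109 = V_1110 :=
  rfl
theorem F_4755 (IH : D.IHyp) : ed Gen.c V_1110 = V_1109 :=
  flipE D.rels D.S (hinv Gen.c) (F_4754 IH)
theorem F_4756 (IH : D.IHyp) : ed Gen.f V_1110 = V_337 :=
  gap_rel RW_0 (path_edge (F_4754 IH) (path_edge (F_4751 IH) (path_edge (F_1456 IH) (path_nil _))))
theorem F_4759 (IH : D.IHyp) : ed Gen.d V_1110 = V_1110 :=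
  gap_rel RW_21 (path_edge (F_4754 IH) (path_edge (F_4742 IH) (path_edge (F_4741 IH) (path_edge (F_4743 IH) (path_edge (F_4755 IH) (path_nil _))))))
theorem F_4760 (IH : D.IHyp) : ed Gen.f V_338 = V_1110 :=
  gap_rel RW_17 (path_edge (F_1458 IH) (path_edge (F_4756 IH) (path_edge (F_4759 IH) (path_nil _))))
theorem F_4761 (IH : D.IHyp) : ed Gen.f V_1110 = V_338 :=
  flipE D.rels D.S (hinv Gen.f) (F_4760 IH)
theorem F_4762 (IH : D.IHyp) : V_337 = V_338 :=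
  edge_fun (F_4756 IH) (F_4761 IH)
theorem F_4763 (IH : D.IHyp) : V_338 = V_337 :=
  (F_4762 IH).symm
theorem F_4768 (IH : D.IHyp) : ed Gen.i V_337 = V_339 :=
  edge_congr (F_1460 IH) (F_4763 IH)
theorem F_4769 (IH : D.IHyp) : ed Gen.i V_339 = V_337 :=
  flipE D.rels D.S (hinv Gen.i) (F_4768 IH)
theorem F_4770 (IH : D.IHyp) : ed Gen.c V_1105 = V_339 :=
  gap_rel RW_20 (path_edge (F_4727 IH) (path_edge (F_1456 IH) (path_edge (F_4769 IH) (path_nil _))))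
theorem F_4771 (IH : D.IHyp) : ed Gen.c V_339 = V_1105 :=
  flipE D.rels D.S (hinv Gen.c) (F_4770 IH)
theorem F_4774 (IH : D.IHyp) : ed Gen.h V_1009 = V_339 :=
  gap_rel RW_1 (path_edge (F_4342 IH) (path_edge (F_4726 IH) (path_edge (F_4771 IH) (path_nil _))))
theorem F_4775 (IH : D.IHyp) : ed Gen.h V_339 = V_1009 :=
  flipE D.rels D.S (hinv Gen.h) (F_4774 IH)
theorem F_4776 (IH : D.IHyp) : V_340 = V_1009 :=
  edge_fun (F_1462 IH) (F_4775 IH)
theorem F_4777 (IH : D.IHyp) : V_1009 = V_340 :=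
  (F_4776 IH).symm
theorem F_4780 (IH : D.IHyp) : ed Gen.c V_340 = V_1010 :=
  edge_congr (F_4341 IH) (F_4777 IH)
theorem F_4782 (IH : D.IHyp) : ed Gen.d V_340 = V_1008 :=
  edge_congr (F_4340 IH) (F_4777 IH)
theorem F_4783 (IH : D.IHyp) : V_341 = V_1008 :=
  edge_fun (F_1464 IH) (F_4782 IH)
theorem F_4788 (IH : D.IHyp) : V_1008 = V_341 :=
  (F_4783 IH).symm
theorem F_4791 (IH : D.IHyp) : ed Gen.c V_1008 = V_341 :=
  (F_4445 IH).trans (F_4788 IH)
theorem F_4792 (IH : D.IHyp) : ed Gen.c V_341 = V_341 :=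
  edge_congr (F_4791 IH) (F_4788 IH)
theorem F_4797 (IH : D.IHyp) : ed Gen.c V_342 = V_342 :=
  gap_rel RW_18 (path_edge (F_1466 IH) (path_edge (F_4792 IH) (path_edge (F_1467 IH) (path_nil _))))
theorem F_4800 (IH : D.IHyp) : ed Gen.c V_343 = V_343 :=
  gap_rel RW_10 (path_edge (F_1468 IH) (path_edge (F_4797 IH) (path_edge (F_1469 IH) (path_nil _))))
theorem F_4803 (IH : D.IHyp) : ed Gen.c V_347 = V_344 :=
  gap_rel RW_6 (path_edge (F_1476 IH) (path_edge (F_3978 IH) (path_edge (F_1470 IH) (path_edge (F_4800 IH) (path_edge (F_1471 IH) (path_nil _))))))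
theorem F_4804 (IH : D.IHyp) : ed Gen.c V_344 = V_347 :=
  flipE D.rels D.S (hinv Gen.c) (F_4803 IH)
theorem F_4805 (IH : D.IHyp) : V_346 = V_347 :=
  edge_fun (F_3978 IH) (F_4804 IH)
theorem F_4806 (IH : D.IHyp) : V_347 = V_346 :=
  (F_4805 IH).symm
theorem F_4808 (IH : D.IHyp) : ed Gen.d V_346 = V_346 :=
  edge_congr (F_1477 IH) (F_4806 IH)
theorem F_4809 (IH : D.IHyp) : ed Gen.i V_346 = V_348 :=
  edge_congr (F_1478 IH) (F_4806 IH)
theorem F_4810 (IH : D.IHyp) : ed Gen.i V_348 = V_346 :=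
  flipE D.rels D.S (hinv Gen.i) (F_4809 IH)
theorem F_4812 (IH : D.IHyp) : ed Gen.d V_348 = V_348 :=
  gap_rel RW_35 (path_edge (F_4809 IH) (path_edge (F_4808 IH) (path_edge (F_4810 IH) (path_nil _))))
theorem F_4813 (IH : D.IHyp) : ed Gen.h V_350 = V_350 :=
  gap_rel RW_37 (path_edge (F_1482 IH) (path_edge (F_1480 IH) (path_edge (F_4812 IH) (path_edge (F_1481 IH) (path_edge (F_1483 IH) (path_nil _))))))
theorem F_4815 (IH : D.IHyp) : ed Gen.h V_351 = V_351 :=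
  gap_rel RW_13 (path_edge (F_1484 IH) (path_edge (F_4813 IH) (path_edge (F_1485 IH) (path_nil _))))
theorem F_4817 (IH : D.IHyp) : ed Gen.h V_352 = V_352 :=
  gap_rel RW_8 (path_edge (F_1486 IH) (path_edge (F_4815 IH) (path_edge (F_1487 IH) (path_nil _))))
theorem F_4819 (IH : D.IHyp) : V_352 = V_353 :=
  loop_rel RW_37 (path_edge (F_3078 IH) (path_edge (F_1488 IH) (path_edge (F_4817 IH) (path_edge (F_1489 IH) (path_edge (F_3078 IH) (path_edge (F_1488 IH) (path_nil _)))))))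
theorem F_4820 (IH : D.IHyp) : V_353 = V_352 :=
  (F_4819 IH).symm
theorem F_4821 (IH : D.IHyp) : ed Gen.b V_352 = V_354 :=
  edge_congr (F_1490 IH) (F_4820 IH)
theorem F_4822 (IH : D.IHyp) : ed Gen.b V_354 = V_352 :=
  flipE D.rels D.S (hinv Gen.b) (F_4821 IH)
theorem F_4823 (IH : D.IHyp) : ed Gen.d V_352 = V_352 :=
  edge_congr (F_1489 IH) (F_4820 IH)
theorem F_4832 (IH : D.IHyp) : ed Gen.d V_354 = V_354 :=
  gap_rel RW_22 (path_edge (F_4821 IH) (path_edge (F_4823 IH) (path_edge (F_4822 IH) (path_nil _))))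
theorem F_4833 (IH : D.IHyp) : V_354 = V_355 :=
  loop_rel RW_21 (path_edge (F_3072 IH) (path_edge (F_1492 IH) (path_edge (F_4832 IH) (path_edge (F_1493 IH) (path_edge (F_3072 IH) (path_edge (F_1492 IH) (path_nil _)))))))
theorem F_4834 (IH : D.IHyp) : V_355 = V_354 :=
  (F_4833 IH).symm
theorem F_4835 (IH : D.IHyp) : ed Gen.c V_354 = V_354 :=
  edge_congr (F_1493 IH) (F_4834 IH)
theorem F_4840 (IH : D.IHyp) : ed Gen.i V_354 = V_357 :=
  edge_congr (F_3069 IH) (F_4834 IH)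
theorem F_4841 (IH : D.IHyp) : ed Gen.i V_357 = V_354 :=
  flipE D.rels D.S (hinv Gen.i) (F_4840 IH)
theorem F_4842 (IH : D.IHyp) : ed Gen.c V_357 = V_357 :=
  gap_rel RW_20 (path_edge (F_4840 IH) (path_edge (F_4835 IH) (path_edge (F_4841 IH) (path_nil _))))
theorem F_4843 (IH : D.IHyp) : ed Gen.c V_358 = V_358 :=
  gap_rel RW_19 (path_edge (F_1498 IH) (path_edge (F_4842 IH) (path_edge (F_1499 IH) (path_nil _))))
theorem F_4844 (IH : D.IHyp) : ed Gen.f V_564 = V_358 :=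
  gap_rel RW_0 (path_edge (F_2470 IH) (path_edge (F_3324 IH) (path_edge (F_4843 IH) (path_nil _))))
theorem F_4845 (IH : D.IHyp) : ed Gen.f V_358 = V_564 :=
  flipE D.rels D.S (hinv Gen.f) (F_4844 IH)
theorem F_4846 (IH : D.IHyp) : V_565 = V_564 :=
  edge_fun (F_3324 IH) (F_4845 IH)
theorem F_4849 (IH : D.IHyp) : ed Gen.c V_564 = V_564 :=
  edge_congr (F_2470 IH) (F_4846 IH)
theorem F_4850 (IH : D.IHyp) : ed Gen.d V_564 = V_360 :=
  edge_congr (F_3321 IH) (F_4846 IH)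
theorem F_4851 (IH : D.IHyp) : V_562 = V_360 :=
  edge_fun (F_2516 IH) (F_4850 IH)
theorem F_4852 (IH : D.IHyp) : ed Gen.d V_360 = V_564 :=
  flipE D.rels D.S (hinv Gen.d) (F_4850 IH)
theorem F_4857 (IH : D.IHyp) : ed Gen.d V_360 = V_564 :=
  edge_congr (F_2512 IH) (F_4851 IH)
theorem F_4858 (IH : D.IHyp) : ed Gen.d V_564 = V_360 :=
  flipE D.rels D.S (hinv Gen.d) (F_4857 IH)
theorem F_4859 (IH : D.IHyp) : ed Gen.h V_360 = V_561 :=
  edge_congr (F_2464 IH) (F_4851 IH)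
theorem F_4860 (IH : D.IHyp) : V_360 = V_561 :=
  edge_fun (F_3062 IH) (F_4859 IH)
theorem F_4864 (IH : D.IHyp) : V_561 = V_360 :=
  (F_4860 IH).symm
theorem F_4865 (IH : D.IHyp) : ed Gen.d V_360 = V_560 :=
  edge_congr (F_2462 IH) (F_4864 IH)
theorem F_4866 (IH : D.IHyp) : V_564 = V_560 :=
  edge_fun (F_4852 IH) (F_4865 IH)
theorem F_4867 (IH : D.IHyp) : ed Gen.d V_560 = V_360 :=
  flipE D.rels D.S (hinv Gen.d) (F_4865 IH)
theorem F_4871 (IH : D.IHyp) : ed Gen.c V_564 = V_560 :=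
  (F_4849 IH).trans (F_4866 IH)
theorem F_4872 (IH : D.IHyp) : ed Gen.c V_560 = V_560 :=
  edge_congr (F_4871 IH) (F_4866 IH)
theorem F_4873 (IH : D.IHyp) : ed Gen.d V_560 = V_360 :=
  edge_congr (F_4858 IH) (F_4866 IH)
theorem F_4874 (IH : D.IHyp) : ed Gen.d V_360 = V_560 :=
  flipE D.rels D.S (hinv Gen.d) (F_4873 IH)
theorem F_4875 (IH : D.IHyp) : ed Gen.f V_560 = V_358 :=
  edge_congr (F_4844 IH) (F_4866 IH)
theorem F_4876 (IH : D.IHyp) : V_559 = V_358 :=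
  edge_fun (F_2460 IH) (F_4875 IH)
theorem F_4880 (IH : D.IHyp) : ed Gen.e V_358 = V_558 :=
  edge_congr (F_2458 IH) (F_4876 IH)
theorem F_4881 (IH : D.IHyp) : ed Gen.e V_558 = V_358 :=
  flipE D.rels D.S (hinv Gen.e) (F_4880 IH)
theorem F_4882 (IH : D.IHyp) : ed Gen.f V_358 = V_560 :=
  edge_congr (F_2459 IH) (F_4876 IH)
theorem F_4883 (IH : D.IHyp) : ed Gen.f V_560 = V_358 :=
  flipE D.rels D.S (hinv Gen.f) (F_4882 IH)
theorem F_4885 (IH : D.IHyp) : ed Gen.i V_558 = V_558 :=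
  gap_rel RW_9 (path_edge (F_4880 IH) (path_edge (F_3066 IH) (path_edge (F_4881 IH) (path_nil _))))
theorem F_4886 (IH : D.IHyp) : ed Gen.i V_557 = V_557 :=
  gap_rel RW_5 (path_edge (F_2456 IH) (path_edge (F_4885 IH) (path_edge (F_2455 IH) (path_nil _))))
theorem F_4887 (IH : D.IHyp) : ed Gen.i V_556 = V_556 :=
  gap_rel RW_44 (path_edge (F_2454 IH) (path_edge (F_4886 IH) (path_edge (F_2453 IH) (path_nil _))))
theorem F_4888 (IH : D.IHyp) : ed Gen.i V_555 = V_555 :=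
  gap_rel RW_2 (path_edge (F_2452 IH) (path_edge (F_4887 IH) (path_edge (F_2451 IH) (path_nil _))))
theorem F_4889 (IH : D.IHyp) : ed Gen.d V_553 = V_555 :=
  gap_rel RW_35 (path_edge (F_2447 IH) (path_edge (F_2450 IH) (path_edge (F_4888 IH) (path_nil _))))
theorem F_4890 (IH : D.IHyp) : ed Gen.d V_555 = V_553 :=
  flipE D.rels D.S (hinv Gen.d) (F_4889 IH)
theorem F_4891 (IH : D.IHyp) : V_554 = V_553 :=
  edge_fun (F_2450 IH) (F_4890 IH)
theorem F_4892 (IH : D.IHyp) : ed Gen.d V_553 = V_555 :=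
  edge_congr (F_2449 IH) (F_4891 IH)
theorem F_4893 (IH : D.IHyp) : ed Gen.d V_555 = V_553 :=
  flipE D.rels D.S (hinv Gen.d) (F_4892 IH)
theorem F_5275 (IH : D.IHyp) : ed Gen.f V_254 = V_1218 :=
  rfl
theorem F_5276 (IH : D.IHyp) : ed Gen.f V_1218 = V_254 :=
  flipE D.rels D.S (hinv Gen.f) (F_5275 IH)
theorem F_5277 (IH : D.IHyp) : ed Gen.c V_888 = V_1218 :=
  gap_rel RW_18 (path_edge (F_3893 IH) (path_edge (F_670 IH) (path_edge (F_5276 IH) (path_nil _))))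
theorem F_5278 (IH : D.IHyp) : ed Gen.c V_1218 = V_888 :=
  flipE D.rels D.S (hinv Gen.c) (F_5277 IH)
theorem F_5282 (IH : D.IHyp) : ed Gen.e V_1218 = V_1218 :=
  gap_rel RW_15 (path_edge (F_5275 IH) (path_edge (F_3929 IH) (path_edge (F_1441 IH) (path_edge (F_3930 IH) (path_edge (F_5276 IH) (path_nil _))))))
theorem F_5283 (IH : D.IHyp) : ed Gen.c (D.P 211) = V_1219 :=
  rfl
theorem F_5284 (IH : D.IHyp) : ed Gen.c V_1219 = (D.P 211) :=
  flipE D.rels D.S (hinv Gen.c) (F_5283 IH)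
theorem F_5287 (IH : D.IHyp) : ed Gen.h V_1219 = V_491 :=
  gap_rel RW_1 (path_edge (F_5283 IH) (path_edge (F_196 IH) (path_edge (F_2124 IH) (path_nil _))))
theorem F_5289 (IH : D.IHyp) : ed Gen.i V_1219 = V_1219 :=
  gap_rel RW_2 (path_edge (F_5283 IH) (path_edge (F_197 IH) (path_edge (F_5284 IH) (path_nil _))))
theorem F_5290 (IH : D.IHyp) : ed Gen.d V_1219 = V_1219 :=
  gap_rel RW_21 (path_edge (F_5283 IH) (path_edge (F_612 IH) (path_edge (F_199 IH) (path_edge (F_198 IH) (path_edge (F_5284 IH) (path_nil _))))))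
theorem F_5300 (IH : D.IHyp) : ed Gen.d V_491 = V_1220 :=
  rfl
theorem F_5301 (IH : D.IHyp) : ed Gen.d V_1220 = V_491 :=
  flipE D.rels D.S (hinv Gen.d) (F_5300 IH)
theorem F_5302 (IH : D.IHyp) : ed Gen.f V_1220 = (D.P 171) :=
  gap_rel RW_17 (path_edge (F_5300 IH) (path_edge (F_2120 IH) (path_edge (F_304 IH) (path_nil _))))
theorem F_5304 (IH : D.IHyp) : ed Gen.c (D.P 170) = V_1220 :=
  gap_rel RW_6 (path_edge (F_166 IH) (path_edge (F_367 IH) (path_edge (F_366 IH) (path_edge (F_2124 IH) (path_edge (F_5301 IH) (path_nil _))))))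
theorem F_5305 (IH : D.IHyp) : ed Gen.c V_1220 = (D.P 170) :=
  flipE D.rels D.S (hinv Gen.c) (F_5304 IH)
theorem F_5319 (IH : D.IHyp) : ed Gen.i V_285 = V_1221 :=
  rfl
theorem F_5320 (IH : D.IHyp) : ed Gen.i V_1221 = V_285 :=
  flipE D.rels D.S (hinv Gen.i) (F_5319 IH)
theorem F_5325 (IH : D.IHyp) : ed Gen.d V_1221 = V_1221 :=
  gap_rel RW_35 (path_edge (F_5319 IH) (path_edge (F_763 IH) (path_edge (F_5320 IH) (path_nil _))))
theorem F_5326 (IH : D.IHyp) : ed Gen.h V_1221 = V_1221 :=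
  gap_rel RW_32 (path_edge (F_5319 IH) (path_edge (F_2836 IH) (path_edge (F_2837 IH) (path_edge (F_2835 IH) (path_edge (F_5320 IH) (path_nil _))))))
theorem F_5327 (IH : D.IHyp) : ed Gen.f V_1221 = V_1222 :=
  rfl
theorem F_5336 (IH : D.IHyp) : ed Gen.e V_1222 = V_1223 :=
  rfl
theorem F_5341 (IH : D.IHyp) : ed Gen.d V_1223 = V_1224 :=
  rfl
theorem F_5346 (IH : D.IHyp) : ed Gen.b V_1224 = V_1225 :=
  rfl
theorem F_5349 (IH : D.IHyp) : ed Gen.c V_1225 = V_1226 :=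
  rfl
theorem F_5352 (IH : D.IHyp) : ed Gen.d V_1226 = V_1227 :=
  rfl
theorem F_5354 (IH : D.IHyp) : ed Gen.i V_1227 = V_1228 :=
  rfl
theorem F_5356 (IH : D.IHyp) : ed Gen.h V_1228 = V_1229 :=
  rfl
theorem F_5358 (IH : D.IHyp) : ed Gen.d V_1229 = V_1230 :=
  rfl
theorem F_5360 (IH : D.IHyp) : ed Gen.f V_1230 = V_1231 :=
  rfl
theorem F_5362 (IH : D.IHyp) : ed Gen.e V_1231 = V_1232 :=
  rfl
theorem F_5364 (IH : D.IHyp) : ed Gen.d V_1232 = V_1233 :=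
  rfl
theorem F_5366 (IH : D.IHyp) : ed Gen.b V_1233 = V_1234 :=
  rfl
theorem F_5368 (IH : D.IHyp) : ed Gen.c V_1234 = V_1235 :=
  rfl
theorem F_5370 (IH : D.IHyp) : ed Gen.d V_1235 = V_1236 :=
  rfl
theorem F_5372 (IH : D.IHyp) : ed Gen.i V_1236 = V_1237 :=
  rfl
theorem F_5374 (IH : D.IHyp) : ed Gen.h V_1237 = V_1238 :=
  rfl
theorem F_5376 (IH : D.IHyp) : ed Gen.d V_1238 = V_1239 :=
  rfl
theorem F_5378 (IH : D.IHyp) : ed Gen.f V_1239 = V_1240 :=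
  rfl
theorem F_5380 (IH : D.IHyp) : ed Gen.e V_1240 = V_1241 :=
  rfl
theorem F_5382 (IH : D.IHyp) : ed Gen.d V_1241 = V_1242 :=
  rfl
theorem F_5384 (IH : D.IHyp) : ed Gen.b V_1242 = V_1243 :=
  rfl
theorem F_5386 (IH : D.IHyp) : ed Gen.c V_1243 = V_1244 :=
  rfl
theorem F_5388 (IH : D.IHyp) : ed Gen.d V_1244 = V_1245 :=
  rfl
theorem F_5390 (IH : D.IHyp) : ed Gen.i V_1245 = V_1246 :=
  rfl
theorem F_5392 (IH : D.IHyp) : ed Gen.h V_1246 = V_1247 :=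
  rfl
theorem F_5394 (IH : D.IHyp) : ed Gen.d V_1247 = V_1248 :=
  rfl
theorem F_5396 (IH : D.IHyp) : ed Gen.f V_1248 = V_1249 :=
  rfl
theorem F_5398 (IH : D.IHyp) : ed Gen.e V_1249 = V_1250 :=
  rfl
theorem F_5400 (IH : D.IHyp) : ed Gen.d V_1250 = V_1251 :=
  rfl
theorem F_5402 (IH : D.IHyp) : ed Gen.b V_1251 = V_1252 :=
  rfl
theorem F_5404 (IH : D.IHyp) : ed Gen.c V_1252 = V_1253 :=
  rfl
theorem F_5406 (IH : D.IHyp) : ed Gen.d V_1253 = V_1254 :=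
  rfl
theorem F_5408 (IH : D.IHyp) : ed Gen.i V_1254 = V_1255 :=
  rfl
theorem F_5410 (IH : D.IHyp) : ed Gen.h V_1255 = V_1256 :=
  rfl
theorem F_5412 (IH : D.IHyp) : ed Gen.d V_1256 = V_1257 :=
  rfl
theorem F_5414 (IH : D.IHyp) : ed Gen.f V_1257 = V_1258 :=
  rfl
theorem F_5416 (IH : D.IHyp) : ed Gen.e V_1258 = V_1259 :=
  rfl
theorem F_5418 (IH : D.IHyp) : ed Gen.d V_1259 = V_1260 :=
  rfl
theorem F_5420 (IH : D.IHyp) : ed Gen.b V_1260 = V_1261 :=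
  rfl
theorem F_5422 (IH : D.IHyp) : ed Gen.c V_1261 = V_1262 :=
  rfl
theorem F_5424 (IH : D.IHyp) : ed Gen.d V_1262 = V_1263 :=
  rfl
theorem F_5426 (IH : D.IHyp) : ed Gen.i V_1263 = V_1264 :=
  rfl
theorem F_5428 (IH : D.IHyp) : ed Gen.h V_1264 = V_1265 :=
  rfl
theorem F_5430 (IH : D.IHyp) : ed Gen.d V_1265 = V_1266 :=
  rfl
theorem F_5432 (IH : D.IHyp) : ed Gen.f V_1266 = V_1267 :=
  rfl
theorem F_5434 (IH : D.IHyp) : ed Gen.e V_1267 = V_1268 :=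
  rfl
theorem F_5436 (IH : D.IHyp) : ed Gen.d V_1268 = V_1269 :=
  rfl
theorem F_5438 (IH : D.IHyp) : ed Gen.b V_1269 = V_1270 :=
  rfl
theorem F_5440 (IH : D.IHyp) : ed Gen.c V_1270 = V_1271 :=
  rfl
theorem F_5442 (IH : D.IHyp) : ed Gen.d V_1271 = V_1272 :=
  rfl
theorem F_5444 (IH : D.IHyp) : ed Gen.i V_1272 = V_1273 :=
  rfl
theorem F_5446 (IH : D.IHyp) : ed Gen.h V_1273 = V_1274 :=
  rfl
theorem F_5448 (IH : D.IHyp) : ed Gen.d V_1274 = V_1275 :=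
  rfl
theorem F_5449 (IH : D.IHyp) : ed Gen.d V_1275 = V_1274 :=
  flipE D.rels D.S (hinv Gen.d) (F_5448 IH)
theorem F_5450 (IH : D.IHyp) : ed Gen.f V_1275 = V_1276 :=
  rfl
theorem F_5451 (IH : D.IHyp) : ed Gen.f V_1276 = V_1275 :=
  flipE D.rels D.S (hinv Gen.f) (F_5450 IH)
theorem F_5452 (IH : D.IHyp) : ed Gen.e V_1276 = V_1277 :=
  rfl
theorem F_5453 (IH : D.IHyp) : ed Gen.e V_1277 = V_1276 :=
  flipE D.rels D.S (hinv Gen.e) (F_5452 IH)
theorem F_5454 (IH : D.IHyp) : ed Gen.d V_1277 = V_1278 :=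
  rfl
theorem F_5455 (IH : D.IHyp) : ed Gen.d V_1278 = V_1277 :=
  flipE D.rels D.S (hinv Gen.d) (F_5454 IH)
theorem F_5456 (IH : D.IHyp) : ed Gen.b V_1278 = V_1218 :=
  gap_rel RW_45 (path_edge (F_5454 IH) (path_edge (F_5452 IH) (path_edge (F_5450 IH) (path_edge (F_5448 IH) (path_edge (F_5446 IH) (path_edge (F_5444 IH) (path_edge (F_5442 IH) (path_edge (F_5440 IH) (path_edge (F_5438 IH) (path_edge (F_5436 IH) (path_edge (F_5434 IH) (path_edge (F_5432 IH) (path_edge (F_5430 IH) (path_edge (F_5428 IH) (path_edge (F_5426 IH) (path_edge (F_5424 IH) (path_edge (F_5422 IH) (path_edge (F_5420 IH) (path_edge (F_5418 IH) (path_edge (F_5416 IH) (path_edge (F_5414 IH) (path_edge (F_5412 IH) (path_edge (F_5410 IH) (path_edge (F_5408 IH) (path_edge (F_5406 IH) (path_edge (F_5404 IH) (path_edge (F_5402 IH) (path_edge (F_5400 IH) (path_edge (F_5398 IH) (path_edge (F_5396 IH) (path_edge (F_5394 IH) (path_edge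 (F_5392 IH) (path_edge (F_5390 IH) (path_edge (F_5388 IH) (path_edge (F_5386 IH) (path_edge (F_5384 IH) (path_edge (F_5382 IH) (path_edge (F_5380 IH) (path_edge (F_5378 IH) (path_edge (F_5376 IH) (path_edge (F_5374 IH) (path_edge (F_5372 IH) (path_edge (F_5370 IH) (path_edge (F_5368 IH) (path_edge (F_5366 IH) (path_edge (F_5364 IH) (path_edge (F_5362 IH) (path_edge (F_5360 IH) (path_edge (F_5358 IH) (path_edge (F_5356 IH) (path_edge (F_5354 IH) (path_edge (F_5352 IH) (path_edge (F_5349 IH) (path_edge (F_5346 IH) (path_edge (F_5341 IH) (path_edge (F_5336 IH) (path_edge (F_5327 IH) (path_edge (F_5325 IH) (path_edge (F_5326 IH) (path_edge (F_5319 IH) (path_edge (F_763 IH) (path_edge (F_795 IH) (path_edge (F_790 IH) (path_edge (F_304 IH) (path_edge (F_862 IH) (path_edge (F_5302 IH) (path_edge (F_5300 IH) (path_edge (F_5287 IH) (path_edge (F_5289 IH) (path_edge (F_5290 IH) (path_edge (F_5283 IH) (path_edge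 (F_1315 IH) (path_edge (F_201 IH) (path_edge (F_1388 IH) (path_edge (F_1385 IH) (path_edge (F_1383 IH) (path_edge (F_1378 IH) (path_edge (F_1379 IH) (path_edge (F_1322 IH) (path_edge (F_3918 IH) (path_edge (F_1425 IH) (path_edge (F_3916 IH) (path_edge (F_3911 IH) (path_edge (F_3894 IH) (path_edge (F_3896 IH) (path_edge (F_3879 IH) (path_edge (F_3880 IH) (path_edge (F_3897 IH) (path_edge (F_5278 IH) (path_nil _))))))))))))))))))))))))))))))))))))))))))))))))))))))))))))))))))))))))))))))))))))))))))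
theorem F_5457 (IH : D.IHyp) : ed Gen.b V_1218 = V_1278 :=
  flipE D.rels D.S (hinv Gen.b) (F_5456 IH)
theorem F_5458 (IH : D.IHyp) : ed Gen.e V_1278 = V_1278 :=
  gap_rel RW_38 (path_edge (F_5457 IH) (path_edge (F_5282 IH) (path_edge (F_5456 IH) (path_nil _))))
theorem F_5459 (IH : D.IHyp) : ed Gen.f V_1023 = V_1278 :=
  gap_rel RW_39 (path_edge (F_4448 IH) (path_edge (F_5276 IH) (path_edge (F_5456 IH) (path_nil _))))
theorem F_5465 (IH : D.IHyp) : ed Gen.f V_1277 = V_1024 :=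
  gap_rel RW_17 (path_edge (F_5455 IH) (path_edge (F_5459 IH) (path_edge (F_4453 IH) (path_nil _))))
theorem F_5466 (IH : D.IHyp) : ed Gen.f V_1024 = V_1277 :=
  flipE D.rels D.S (hinv Gen.f) (F_5465 IH)
theorem F_5468 (IH : D.IHyp) : ed Gen.d V_1276 = V_1276 :=
  gap_rel RW_11 (path_edge (F_5453 IH) (path_edge (F_5455 IH) (path_edge (F_5458 IH) (path_edge (F_5454 IH) (path_edge (F_5452 IH) (path_nil _))))))
theorem F_5470 (IH : D.IHyp) : ed Gen.e V_1275 = V_1026 :=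
  gap_rel RW_15 (path_edge (F_5451 IH) (path_edge (F_5453 IH) (path_edge (F_5466 IH) (path_edge (F_4458 IH) (path_edge (F_4461 IH) (path_nil _))))))
theorem F_5472 (IH : D.IHyp) : ed Gen.f V_1274 = V_1276 :=
  gap_rel RW_17 (path_edge (F_5449 IH) (path_edge (F_5451 IH) (path_edge (F_5468 IH) (path_nil _))))
theorem F_5473 (IH : D.IHyp) : ed Gen.f V_1276 = V_1274 :=
  flipE D.rels D.S (hinv Gen.f) (F_5472 IH)
theorem F_5474 (IH : D.IHyp) : V_1275 = V_1274 :=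
  edge_fun (F_5451 IH) (F_5473 IH)
theorem F_5475 (IH : D.IHyp) : ed Gen.d V_1274 = V_1274 :=
  edge_congr (F_5449 IH) (F_5474 IH)
theorem F_5476 (IH : D.IHyp) : ed Gen.e V_1274 = V_1026 :=
  edge_congr (F_5470 IH) (F_5474 IH)
theorem F_5477 (IH : D.IHyp) : ed Gen.e V_1026 = V_1274 :=
  flipE D.rels D.S (hinv Gen.e) (F_5476 IH)
theorem F_5481 (IH : D.IHyp) : ed Gen.e V_1027 = V_1027 :=
  gap_rel RW_29 (path_edge (F_4463 IH) (path_edge (F_5476 IH) (path_edge (F_5475 IH) (path_edge (F_5477 IH) (path_edge (F_4464 IH) (path_nil _))))))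
theorem F_5492 (IH : D.IHyp) : ed Gen.h V_1023 = V_1280 :=
  rfl
theorem F_5493 (IH : D.IHyp) : ed Gen.h V_1280 = V_1023 :=
  flipE D.rels D.S (hinv Gen.h) (F_5492 IH)
theorem F_5494 (IH : D.IHyp) : ed Gen.b V_334 = V_1280 :=
  gap_rel RW_31 (path_edge (F_3935 IH) (path_edge (F_4449 IH) (path_edge (F_5493 IH) (path_nil _))))
theorem F_5495 (IH : D.IHyp) : ed Gen.b V_1280 = V_334 :=
  flipE D.rels D.S (hinv Gen.b) (F_5494 IH)
theorem F_5499 (IH : D.IHyp) : ed Gen.d V_336 = V_1280 :=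
  gap_rel RW_22 (path_edge (F_1452 IH) (path_edge (F_1449 IH) (path_edge (F_5495 IH) (path_nil _))))
theorem F_5523 (IH : D.IHyp) : ed Gen.h V_1024 = V_1284 :=
  rfl
theorem F_5524 (IH : D.IHyp) : ed Gen.h V_1284 = V_1024 :=
  flipE D.rels D.S (hinv Gen.h) (F_5523 IH)
theorem F_5527 (IH : D.IHyp) : ed Gen.d V_1284 = V_1285 :=
  rfl
theorem F_5528 (IH : D.IHyp) : ed Gen.d V_1285 = V_1284 :=
  flipE D.rels D.S (hinv Gen.d) (F_5527 IH)
theorem F_5531 (IH : D.IHyp) : ed Gen.h V_1285 = V_336 :=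
  gap_rel RW_37 (path_edge (F_5527 IH) (path_edge (F_5523 IH) (path_edge (F_4452 IH) (path_edge (F_5493 IH) (path_edge (F_5499 IH) (path_nil _))))))
theorem F_5532 (IH : D.IHyp) : ed Gen.h V_336 = V_1285 :=
  flipE D.rels D.S (hinv Gen.h) (F_5531 IH)
theorem F_6154 (IH : D.IHyp) : ed Gen.b V_571 = V_1431 :=
  rfl
theorem F_6155 (IH : D.IHyp) : ed Gen.b V_1431 = V_571 :=
  flipE D.rels D.S (hinv Gen.b) (F_6154 IH)
theorem F_6158 (IH : D.IHyp) : ed Gen.f V_1431 = V_710 :=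
  gap_rel RW_39 (path_edge (F_6154 IH) (path_edge (F_3309 IH) (path_edge (F_3046 IH) (path_nil _))))
theorem F_6159 (IH : D.IHyp) : ed Gen.f V_710 = V_1431 :=
  flipE D.rels D.S (hinv Gen.f) (F_6158 IH)
theorem F_6192 (IH : D.IHyp) : ed Gen.c V_361 = V_1432 :=
  rfl
theorem F_6193 (IH : D.IHyp) : ed Gen.c V_1432 = V_361 :=
  flipE D.rels D.S (hinv Gen.c) (F_6192 IH)
theorem F_6197 (IH : D.IHyp) : ed Gen.d V_1432 = V_1432 :=
  gap_rel RW_21 (path_edge (F_6192 IH) (path_edge (F_1507 IH) (path_edge (F_1618 IH) (path_edge (F_1506 IH) (path_edge (F_6193 IH) (path_nil _))))))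
theorem F_6198 (IH : D.IHyp) : ed Gen.e V_1432 = V_1433 :=
  rfl
theorem F_6199 (IH : D.IHyp) : ed Gen.e V_1433 = V_1432 :=
  flipE D.rels D.S (hinv Gen.e) (F_6198 IH)
theorem F_6201 (IH : D.IHyp) : ed Gen.c V_360 = V_1433 :=
  gap_rel RW_10 (path_edge (F_1505 IH) (path_edge (F_6193 IH) (path_edge (F_6199 IH) (path_nil _))))
theorem F_6202 (IH : D.IHyp) : ed Gen.c V_1433 = V_360 :=
  flipE D.rels D.S (hinv Gen.c) (F_6201 IH)
theorem F_6205 (IH : D.IHyp) : ed Gen.d V_1433 = V_1433 :=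
  gap_rel RW_21 (path_edge (F_6201 IH) (path_edge (F_4867 IH) (path_edge (F_4872 IH) (path_edge (F_4874 IH) (path_edge (F_6202 IH) (path_nil _))))))
theorem F_6206 (IH : D.IHyp) : V_1433 = V_1432 :=
  loop_rel RW_29 (path_edge (F_6199 IH) (path_edge (F_6205 IH) (path_edge (F_6198 IH) (path_edge (F_6197 IH) (path_edge (F_6199 IH) (path_edge (F_6205 IH) (path_nil _)))))))
theorem F_6209 (IH : D.IHyp) : ed Gen.c V_1432 = V_360 :=
  edge_congr (F_6202 IH) (F_6206 IH)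
theorem F_6210 (IH : D.IHyp) : V_361 = V_360 :=
  edge_fun (F_6193 IH) (F_6209 IH)
theorem F_6219 (IH : D.IHyp) : ed Gen.b V_360 = V_568 :=
  edge_congr (F_3315 IH) (F_6210 IH)
theorem F_6220 (IH : D.IHyp) : V_567 = V_568 :=
  edge_fun (F_3317 IH) (F_6219 IH)
theorem F_6224 (IH : D.IHyp) : ed Gen.d V_360 = V_362 :=
  edge_congr (F_1506 IH) (F_6210 IH)
theorem F_6225 (IH : D.IHyp) : V_560 = V_362 :=
  edge_fun (F_4874 IH) (F_6224 IH)
theorem F_6232 (IH : D.IHyp) : V_568 = V_567 :=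
  (F_6220 IH).symm
theorem F_6240 (IH : D.IHyp) : ed Gen.f V_567 = V_569 :=
  edge_congr (F_2477 IH) (F_6232 IH)
theorem F_6253 (IH : D.IHyp) : ed Gen.f V_362 = V_358 :=
  edge_congr (F_4883 IH) (F_6225 IH)
theorem F_6254 (IH : D.IHyp) : ed Gen.f V_358 = V_362 :=
  flipE D.rels D.S (hinv Gen.f) (F_6253 IH)
theorem F_6262 (IH : D.IHyp) : ed Gen.b V_569 = V_359 :=
  gap_rel RW_12 (path_edge (F_6240 IH) (path_edge (F_3317 IH) (path_edge (F_1502 IH) (path_nil _))))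
theorem F_6263 (IH : D.IHyp) : ed Gen.b V_359 = V_569 :=
  flipE D.rels D.S (hinv Gen.b) (F_6262 IH)
theorem F_6264 (IH : D.IHyp) : ed Gen.b V_570 = V_358 :=
  gap_rel RW_12 (path_edge (F_3310 IH) (path_edge (F_1508 IH) (path_edge (F_6254 IH) (path_nil _))))
theorem F_6265 (IH : D.IHyp) : ed Gen.b V_358 = V_570 :=
  flipE D.rels D.S (hinv Gen.b) (F_6264 IH)
theorem F_6266 (IH : D.IHyp) : ed Gen.f V_357 = V_710 :=
  gap_rel RW_27 (path_edge (F_1499 IH) (path_edge (F_6253 IH) (path_edge (F_3054 IH) (path_nil _))))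
theorem F_6267 (IH : D.IHyp) : ed Gen.f V_710 = V_357 :=
  flipE D.rels D.S (hinv Gen.f) (F_6266 IH)
theorem F_6268 (IH : D.IHyp) : V_1431 = V_357 :=
  edge_fun (F_6159 IH) (F_6267 IH)
theorem F_6269 (IH : D.IHyp) : ed Gen.b V_357 = V_571 :=
  edge_congr (F_6155 IH) (F_6268 IH)
theorem F_6270 (IH : D.IHyp) : ed Gen.b V_571 = V_357 :=
  flipE D.rels D.S (hinv Gen.b) (F_6269 IH)
theorem F_6279 (IH : D.IHyp) : V_358 = V_558 :=
  loop_rel RW_38 (path_edge (F_4880 IH) (path_edge (F_6264 IH) (path_edge (F_2503 IH) (path_edge (F_6265 IH) (path_nil _)))))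
theorem F_6280 (IH : D.IHyp) : V_558 = V_358 :=
  (F_6279 IH).symm
theorem F_6283 (IH : D.IHyp) : ed Gen.d V_358 = V_557 :=
  edge_congr (F_2456 IH) (F_6280 IH)
theorem F_6284 (IH : D.IHyp) : V_359 = V_557 :=
  edge_fun (F_1500 IH) (F_6283 IH)
theorem F_6289 (IH : D.IHyp) : V_557 = V_359 :=
  (F_6284 IH).symm
theorem F_6290 (IH : D.IHyp) : ed Gen.b V_359 = V_556 :=
  edge_congr (F_2454 IH) (F_6289 IH)
theorem F_6291 (IH : D.IHyp) : V_569 = V_556 :=
  edge_fun (F_6263 IH) (F_6290 IH)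
theorem F_6300 (IH : D.IHyp) : ed Gen.c V_569 = V_556 :=
  (F_3320 IH).trans (F_6291 IH)
theorem F_6301 (IH : D.IHyp) : ed Gen.c V_556 = V_556 :=
  edge_congr (F_6300 IH) (F_6291 IH)
theorem F_6302 (IH : D.IHyp) : V_555 = V_556 :=
  edge_fun (F_2452 IH) (F_6301 IH)
theorem F_6305 (IH : D.IHyp) : ed Gen.d V_556 = V_570 :=
  edge_congr (F_2479 IH) (F_6291 IH)
theorem F_6313 (IH : D.IHyp) : V_556 = V_555 :=
  (F_6302 IH).symm
theorem F_6317 (IH : D.IHyp) : ed Gen.d V_555 = V_570 :=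
  edge_congr (F_6305 IH) (F_6313 IH)
theorem F_6318 (IH : D.IHyp) : V_553 = V_570 :=
  edge_fun (F_4893 IH) (F_6317 IH)
theorem F_6326 (IH : D.IHyp) : V_570 = V_553 :=
  (F_6318 IH).symm
theorem F_6336 (IH : D.IHyp) : ed Gen.h V_553 = V_571 :=
  edge_congr (F_2481 IH) (F_6326 IH)
theorem F_6337 (IH : D.IHyp) : V_552 = V_571 :=
  edge_fun (F_2444 IH) (F_6336 IH)
theorem F_6341 (IH : D.IHyp) : V_571 = V_552 :=
  (F_6337 IH).symm
theorem F_6342 (IH : D.IHyp) : ed Gen.b V_552 = V_357 :=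
  edge_congr (F_6270 IH) (F_6341 IH)
theorem F_6343 (IH : D.IHyp) : ed Gen.b V_357 = V_552 :=
  flipE D.rels D.S (hinv Gen.b) (F_6342 IH)
theorem F_6350 (IH : D.IHyp) : ed Gen.f V_552 = V_712 :=
  edge_congr (F_3308 IH) (F_6341 IH)
theorem F_6351 (IH : D.IHyp) : V_551 = V_712 :=
  edge_fun (F_2440 IH) (F_6350 IH)
theorem F_6354 (IH : D.IHyp) : ed Gen.i V_552 = V_572 :=
  edge_congr (F_2483 IH) (F_6341 IH)
theorem F_6355 (IH : D.IHyp) : ed Gen.i V_572 = V_552 :=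
  flipE D.rels D.S (hinv Gen.i) (F_6354 IH)
theorem F_6356 (IH : D.IHyp) : V_712 = V_551 :=
  (F_6351 IH).symm
theorem F_6359 (IH : D.IHyp) : ed Gen.c V_551 = V_367 :=
  edge_congr (F_3028 IH) (F_6356 IH)
theorem F_6366 (IH : D.IHyp) : ed Gen.b V_572 = V_354 :=
  gap_rel RW_33 (path_edge (F_6354 IH) (path_edge (F_6343 IH) (path_edge (F_4840 IH) (path_nil _))))
theorem F_6367 (IH : D.IHyp) : ed Gen.b V_354 = V_572 :=
  flipE D.rels D.S (hinv Gen.b) (F_6366 IH)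
theorem F_6368 (IH : D.IHyp) : V_352 = V_572 :=
  edge_fun (F_4822 IH) (F_6367 IH)
theorem F_6369 (IH : D.IHyp) : V_572 = V_352 :=
  (F_6368 IH).symm
theorem F_6375 (IH : D.IHyp) : ed Gen.e V_572 = V_352 :=
  (F_2496 IH).trans (F_6369 IH)
theorem F_6376 (IH : D.IHyp) : ed Gen.e V_352 = V_352 :=
  edge_congr (F_6375 IH) (F_6369 IH)
theorem F_6377 (IH : D.IHyp) : V_351 = V_352 :=
  edge_fun (F_1487 IH) (F_6376 IH)
theorem F_6382 (IH : D.IHyp) : ed Gen.i V_352 = V_552 :=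
  edge_congr (F_6355 IH) (F_6369 IH)
theorem F_6384 (IH : D.IHyp) : V_352 = V_351 :=
  (F_6377 IH).symm
theorem F_6394 (IH : D.IHyp) : ed Gen.i V_351 = V_552 :=
  edge_congr (F_6382 IH) (F_6384 IH)
theorem F_6585 (IH : D.IHyp) : ed Gen.i V_551 = V_350 :=
  gap_rel RW_14 (path_edge (F_2440 IH) (path_edge (F_6394 IH) (path_edge (F_1484 IH) (path_nil _))))
theorem F_6591 (IH : D.IHyp) : ed Gen.i V_349 = V_551 :=
  gap_rel RW_5 (path_edge (F_1483 IH) (path_edge (F_6585 IH) (path_edge (F_2438 IH) (path_nil _))))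
theorem F_6592 (IH : D.IHyp) : ed Gen.i V_551 = V_349 :=
  flipE D.rels D.S (hinv Gen.i) (F_6591 IH)
theorem F_6593 (IH : D.IHyp) : V_350 = V_349 :=
  edge_fun (F_6585 IH) (F_6592 IH)
theorem F_6601 (IH : D.IHyp) : ed Gen.h V_350 = V_349 :=
  (F_4813 IH).trans (F_6593 IH)
theorem F_6602 (IH : D.IHyp) : ed Gen.h V_349 = V_349 :=
  edge_congr (F_6601 IH) (F_6593 IH)
theorem F_6603 (IH : D.IHyp) : V_348 = V_349 :=
  edge_fun (F_1481 IH) (F_6602 IH)
theorem F_6608 (IH : D.IHyp) : V_349 = V_348 :=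
  (F_6603 IH).symm
theorem F_6618 (IH : D.IHyp) : ed Gen.i V_348 = V_551 :=
  edge_congr (F_6591 IH) (F_6608 IH)
theorem F_6619 (IH : D.IHyp) : V_346 = V_551 :=
  edge_fun (F_4810 IH) (F_6618 IH)
theorem F_6621 (IH : D.IHyp) : V_551 = V_346 :=
  (F_6619 IH).symm
theorem F_6624 (IH : D.IHyp) : ed Gen.c V_346 = V_367 :=
  edge_congr (F_6359 IH) (F_6621 IH)
theorem F_6625 (IH : D.IHyp) : V_344 = V_367 :=
  edge_fun (F_3979 IH) (F_6624 IH)
theorem F_6636 (IH : D.IHyp) : V_367 = V_344 :=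
  (F_6625 IH).symm
theorem F_6640 (IH : D.IHyp) : ed Gen.d V_344 = V_368 :=
  edge_congr (F_1518 IH) (F_6636 IH)
theorem F_6641 (IH : D.IHyp) : V_343 = V_368 :=
  edge_fun (F_1471 IH) (F_6640 IH)
theorem F_6649 (IH : D.IHyp) : V_368 = V_343 :=
  (F_6641 IH).symm
theorem F_6655 (IH : D.IHyp) : ed Gen.e V_343 = V_281 :=
  edge_congr (F_2713 IH) (F_6649 IH)
theorem F_6656 (IH : D.IHyp) : V_342 = V_281 :=
  edge_fun (F_1469 IH) (F_6655 IH)
theorem F_6670 (IH : D.IHyp) : ed Gen.f V_281 = V_341 :=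
  edge_congr (F_1467 IH) (F_6656 IH)
theorem F_6671 (IH : D.IHyp) : V_575 = V_341 :=
  edge_fun (F_2702 IH) (F_6670 IH)
theorem F_6679 (IH : D.IHyp) : ed Gen.d V_341 = V_823 :=
  edge_congr (F_3668 IH) (F_6671 IH)
theorem F_6680 (IH : D.IHyp) : V_340 = V_823 :=
  edge_fun (F_1465 IH) (F_6679 IH)
theorem F_6691 (IH : D.IHyp) : V_823 = V_340 :=
  (F_6680 IH).symm
theorem F_6694 (IH : D.IHyp) : ed Gen.c V_340 = V_641 :=
  edge_congr (F_3676 IH) (F_6691 IH)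
theorem F_6695 (IH : D.IHyp) : V_1010 = V_641 :=
  edge_fun (F_4780 IH) (F_6694 IH)
theorem F_6713 (IH : D.IHyp) : ed Gen.b V_641 = V_689 :=
  edge_congr (F_4671 IH) (F_6695 IH)
theorem F_6714 (IH : D.IHyp) : V_824 = V_689 :=
  edge_fun (F_3680 IH) (F_6713 IH)
theorem F_6722 (IH : D.IHyp) : ed Gen.h V_641 = V_1105 :=
  edge_congr (F_4725 IH) (F_6695 IH)
theorem F_6723 (IH : D.IHyp) : V_642 = V_1105 :=
  edge_fun (F_2740 IH) (F_6722 IH)
theorem F_6744 (IH : D.IHyp) : ed Gen.f V_689 = V_277 :=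
  edge_congr (F_3684 IH) (F_6714 IH)
theorem F_6745 (IH : D.IHyp) : V_691 = V_277 :=
  edge_fun (F_4679 IH) (F_6744 IH)
theorem F_6747 (IH : D.IHyp) : V_1105 = V_642 :=
  (F_6723 IH).symm
theorem F_6760 (IH : D.IHyp) : ed Gen.i V_642 = V_336 :=
  edge_congr (F_4728 IH) (F_6747 IH)
theorem F_6780 (IH : D.IHyp) : ed Gen.h V_277 = V_1016 :=
  edge_congr (F_4680 IH) (F_6745 IH)
theorem F_6781 (IH : D.IHyp) : V_825 = V_1016 :=
  edge_fun (F_3706 IH) (F_6780 IH)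
theorem F_6814 (IH : D.IHyp) : V_1016 = V_825 :=
  (F_6781 IH).symm
theorem F_6824 (IH : D.IHyp) : ed Gen.i V_825 = V_1017 :=
  edge_congr (F_4355 IH) (F_6814 IH)
theorem F_6825 (IH : D.IHyp) : V_826 = V_1017 :=
  edge_fun (F_3709 IH) (F_6824 IH)
theorem F_6861 (IH : D.IHyp) : V_1017 = V_826 :=
  (F_6825 IH).symm
theorem F_6866 (IH : D.IHyp) : ed Gen.d V_826 = V_1018 :=
  edge_congr (F_4357 IH) (F_6861 IH)
theorem F_6867 (IH : D.IHyp) : V_827 = V_1018 :=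
  edge_fun (F_3712 IH) (F_6866 IH)
theorem F_6889 (IH : D.IHyp) : V_1018 = V_827 :=
  (F_6867 IH).symm
theorem F_6892 (IH : D.IHyp) : ed Gen.c V_827 = V_1019 :=
  edge_congr (F_4359 IH) (F_6889 IH)
theorem F_6893 (IH : D.IHyp) : V_828 = V_1019 :=
  edge_fun (F_3714 IH) (F_6892 IH)
theorem F_6922 (IH : D.IHyp) : V_1019 = V_828 :=
  (F_6893 IH).symm
theorem F_6923 (IH : D.IHyp) : ed Gen.b V_1019 = V_828 :=
  (F_4401 IH).trans (F_6922 IH)
theorem F_6924 (IH : D.IHyp) : ed Gen.b V_828 = V_828 :=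
  edge_congr (F_6923 IH) (F_6922 IH)
theorem F_6925 (IH : D.IHyp) : V_829 = V_828 :=
  edge_fun (F_3717 IH) (F_6924 IH)
theorem F_6931 (IH : D.IHyp) : ed Gen.e V_1019 = V_828 :=
  (F_4405 IH).trans (F_6922 IH)
theorem F_6932 (IH : D.IHyp) : ed Gen.e V_828 = V_828 :=
  edge_congr (F_6931 IH) (F_6922 IH)
theorem F_6933 (IH : D.IHyp) : ed Gen.f V_828 = V_685 :=
  edge_congr (F_4406 IH) (F_6922 IH)
theorem F_6964 (IH : D.IHyp) : ed Gen.e V_828 = V_830 :=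
  edge_congr (F_3720 IH) (F_6925 IH)
theorem F_6965 (IH : D.IHyp) : V_828 = V_830 :=
  edge_fun (F_6932 IH) (F_6964 IH)
theorem F_6976 (IH : D.IHyp) : V_830 = V_828 :=
  (F_6965 IH).symm
theorem F_6978 (IH : D.IHyp) : ed Gen.f V_828 = V_831 :=
  edge_congr (F_3722 IH) (F_6976 IH)
theorem F_6979 (IH : D.IHyp) : V_685 = V_831 :=
  edge_fun (F_6933 IH) (F_6978 IH)
theorem F_7001 (IH : D.IHyp) : V_831 = V_685 :=
  (F_6979 IH).symm
theorem F_7002 (IH : D.IHyp) : ed Gen.d V_685 = V_832 :=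
  edge_congr (F_3724 IH) (F_7001 IH)
theorem F_7003 (IH : D.IHyp) : V_685 = V_832 :=
  edge_fun (F_2919 IH) (F_7002 IH)
theorem F_7026 (IH : D.IHyp) : V_832 = V_685 :=
  (F_7003 IH).symm
theorem F_7028 (IH : D.IHyp) : ed Gen.h V_685 = V_833 :=
  edge_congr (F_3726 IH) (F_7026 IH)
theorem F_7029 (IH : D.IHyp) : V_253 = V_833 :=
  edge_fun (F_3934 IH) (F_7028 IH)
theorem F_7051 (IH : D.IHyp) : V_833 = V_253 :=
  (F_7029 IH).symm
theorem F_7053 (IH : D.IHyp) : ed Gen.i V_253 = V_834 :=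
  edge_congr (F_3728 IH) (F_7051 IH)
theorem F_7054 (IH : D.IHyp) : V_253 = V_834 :=
  edge_fun (F_668 IH) (F_7053 IH)
theorem F_7072 (IH : D.IHyp) : V_834 = V_253 :=
  (F_7054 IH).symm
theorem F_7073 (IH : D.IHyp) : ed Gen.d V_253 = V_835 :=
  edge_congr (F_3730 IH) (F_7072 IH)
theorem F_7074 (IH : D.IHyp) : V_252 = V_835 :=
  edge_fun (F_666 IH) (F_7073 IH)
theorem F_7087 (IH : D.IHyp) : V_835 = V_252 :=
  (F_7074 IH).symm
theorem F_7088 (IH : D.IHyp) : ed Gen.c V_252 = V_836 :=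
  edge_congr (F_3732 IH) (F_7087 IH)
theorem F_7089 (IH : D.IHyp) : V_886 = V_836 :=
  edge_fun (F_3881 IH) (F_7088 IH)
theorem F_7113 (IH : D.IHyp) : ed Gen.d V_836 = V_890 :=
  edge_congr (F_3906 IH) (F_7089 IH)
theorem F_7115 (IH : D.IHyp) : ed Gen.e V_836 = (D.P 241) :=
  edge_congr (F_3883 IH) (F_7089 IH)
theorem F_7116 (IH : D.IHyp) : ed Gen.e (D.P 241) = V_836 :=
  flipE D.rels D.S (hinv Gen.e) (F_7115 IH)
theorem F_7685 (IH : D.IHyp) : ed Gen.i V_1285 = V_327 :=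
  gap_rel RW_43 (path_edge (F_5532 IH) (path_edge (F_6760 IH) (path_edge (F_2740 IH) (path_edge (F_2736 IH) (path_edge (F_2734 IH) (path_nil _))))))
theorem F_7686 (IH : D.IHyp) : ed Gen.i V_327 = V_1285 :=
  flipE D.rels D.S (hinv Gen.i) (F_7685 IH)
theorem F_7687 (IH : D.IHyp) : V_821 = V_1285 :=
  edge_fun (F_3487 IH) (F_7686 IH)
theorem F_7688 (IH : D.IHyp) : V_1285 = V_821 :=
  (F_7687 IH).symm
theorem F_7692 (IH : D.IHyp) : ed Gen.d V_821 = V_1284 :=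
  edge_congr (F_5528 IH) (F_7688 IH)
theorem F_7693 (IH : D.IHyp) : V_325 = V_1284 :=
  edge_fun (F_3490 IH) (F_7692 IH)
theorem F_7715 (IH : D.IHyp) : V_1284 = V_325 :=
  (F_7693 IH).symm
theorem F_7723 (IH : D.IHyp) : ed Gen.h V_325 = V_1024 :=
  edge_congr (F_5524 IH) (F_7715 IH)
theorem F_7724 (IH : D.IHyp) : V_324 = V_1024 :=
  edge_fun (F_973 IH) (F_7723 IH)
theorem F_7766 (IH : D.IHyp) : V_1024 = V_324 :=
  (F_7724 IH).symm
theorem F_7767 (IH : D.IHyp) : ed Gen.b V_324 = V_255 :=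
  edge_congr (F_4455 IH) (F_7766 IH)
theorem F_7768 (IH : D.IHyp) : ed Gen.b V_255 = V_324 :=
  flipE D.rels D.S (hinv Gen.b) (F_7767 IH)
theorem F_7775 (IH : D.IHyp) : ed Gen.e V_324 = V_1025 :=
  edge_congr (F_4457 IH) (F_7766 IH)
theorem F_7776 (IH : D.IHyp) : (D.P 224) = V_1025 :=
  edge_fun (F_1205 IH) (F_7775 IH)
theorem F_7849 (IH : D.IHyp) : V_1025 = (D.P 224) :=
  (F_7776 IH).symm
theorem F_7854 (IH : D.IHyp) : ed Gen.f (D.P 224) = V_1026 :=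
  edge_congr (F_4460 IH) (F_7849 IH)
theorem F_7855 (IH : D.IHyp) : (D.P 238) = V_1026 :=
  edge_fun (F_783 IH) (F_7854 IH)
theorem F_7937 (IH : D.IHyp) : V_1026 = (D.P 238) :=
  (F_7855 IH).symm
theorem F_7944 (IH : D.IHyp) : ed Gen.d (D.P 238) = V_1027 :=
  edge_congr (F_4463 IH) (F_7937 IH)
theorem F_7945 (IH : D.IHyp) : (D.P 241) = V_1027 :=
  edge_fun (F_548 IH) (F_7944 IH)
theorem F_8018 (IH : D.IHyp) : V_1027 = (D.P 241) :=
  (F_7945 IH).symm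
theorem F_8023 (IH : D.IHyp) : ed Gen.e V_1027 = (D.P 241) :=
  (F_5481 IH).trans (F_8018 IH)
theorem F_8024 (IH : D.IHyp) : ed Gen.e (D.P 241) = (D.P 241) :=
  edge_congr (F_8023 IH) (F_8018 IH)
theorem F_8025 (IH : D.IHyp) : V_836 = (D.P 241) :=
  edge_fun (F_7116 IH) (F_8024 IH)
theorem F_8125 (IH : D.IHyp) : ed Gen.d (D.P 241) = V_890 :=
  edge_congr (F_7113 IH) (F_8025 IH)
theorem F_8126 (IH : D.IHyp) : (D.P 238) = V_890 :=
  edge_fun (F_542 IH) (F_8125 IH)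
theorem F_8253 (IH : D.IHyp) : V_890 = (D.P 238) :=
  (F_8126 IH).symm
theorem F_8257 (IH : D.IHyp) : ed Gen.c (D.P 238) = V_255 :=
  edge_congr (F_3910 IH) (F_8253 IH)
theorem F_8258 (IH : D.IHyp) : (D.P 223) = V_255 :=
  edge_fun (F_543 IH) (F_8257 IH)
theorem F_8397 (IH : D.IHyp) : V_255 = (D.P 223) :=
  (F_8258 IH).symm
theorem F_8398 (IH : D.IHyp) : ed Gen.b (D.P 223) = V_324 :=
  edge_congr (F_7768 IH) (F_8397 IH)
theorem F_8399 (IH : D.IHyp) : (D.P 211) = V_324 :=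
  edge_fun (F_1315 IH) (F_8398 IH)
theorem F_8594 (IH : D.IHyp) : V_324 = (D.P 211) :=
  (F_8399 IH).symm
theorem F_8596 (IH : D.IHyp) : ed Gen.c (D.P 211) = (D.P 225) :=
  edge_congr (F_1203 IH) (F_8594 IH)
theorem F_8597 (IH : D.IHyp) : V_1219 = (D.P 225) :=
  edge_fun (F_5283 IH) (F_8596 IH)
theorem F_8802 (IH : D.IHyp) : ed Gen.h (D.P 225) = V_491 :=
  edge_congr (F_5287 IH) (F_8597 IH)
theorem F_8803 (IH : D.IHyp) : (D.P 209) = V_491 :=
  edge_fun (F_1121 IH) (F_8802 IH)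
theorem F_9070 (IH : D.IHyp) : V_491 = (D.P 209) :=
  (F_8803 IH).symm
theorem F_9073 (IH : D.IHyp) : ed Gen.d (D.P 209) = V_1220 :=
  edge_congr (F_5300 IH) (F_9070 IH)
theorem F_9074 (IH : D.IHyp) : (D.P 188) = V_1220 :=
  edge_fun (F_1048 IH) (F_9073 IH)
theorem F_9414 (IH : D.IHyp) : V_1220 = (D.P 188) :=
  (F_9074 IH).symm
theorem F_9415 (IH : D.IHyp) : ed Gen.c (D.P 188) = (D.P 170) :=
  edge_congr (F_5305 IH) (F_9414 IH)
theorem F_9416 (IH : D.IHyp) : V_719 = (D.P 170) :=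
  edge_fun (F_3089 IH) (F_9415 IH)
theorem F_9781 (IH : D.IHyp) : ed Gen.i (D.P 170) = V_330 :=
  edge_congr (F_3087 IH) (F_9416 IH)
theorem F_9782 (IH : D.IHyp) : (D.P 153) = V_330 :=
  edge_fun (F_168 IH) (F_9781 IH)
theorem F_10116 (IH : D.IHyp) : V_330 = (D.P 153) :=
  (F_9782 IH).symm
theorem F_10127 (IH : D.IHyp) : ed Gen.h (D.P 153) = V_248 :=
  edge_congr (F_998 IH) (F_10116 IH)
theorem F_10128 (IH : D.IHyp) : (D.P 129) = V_248 :=
  edge_fun (F_825 IH) (F_10127 IH)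
theorem F_10414 (IH : D.IHyp) : V_248 = (D.P 129) :=
  (F_10128 IH).symm
theorem F_10421 (IH : D.IHyp) : ed Gen.e (D.P 129) = V_245 :=
  edge_congr (F_494 IH) (F_10414 IH)
theorem F_10422 (IH : D.IHyp) : (D.P 156) = V_245 :=
  edge_fun (F_608 IH) (F_10421 IH)
theorem F_10731 (IH : D.IHyp) : V_245 = (D.P 156) :=
  (F_10422 IH).symm
theorem F_10736 (IH : D.IHyp) : ed Gen.d (D.P 156) = V_243 :=
  edge_congr (F_113 IH) (F_10731 IH)
theorem F_10737 (IH : D.IHyp) : (D.P 132) = V_243 :=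
  edge_fun (F_609 IH) (F_10736 IH)
theorem F_11064 (IH : D.IHyp) : V_243 = (D.P 132) :=
  (F_10737 IH).symm
theorem F_11067 (IH : D.IHyp) : ed Gen.c (D.P 132) = (D.P 111) :=
  edge_congr (F_1 IH) (F_11064 IH)
theorem F_11069 (IH : D.IHyp) : ed Gen.c (D.P 111) = (D.P 132) :=
  flipE D.rels D.S (hinv Gen.c) (F_11067 IH)

theorem seed_main (IH : D.IHyp) : D.EOK Gen.c (D.mkF 111) :=
  D.seed_of_edge Gen.c 111 132 (by decide +kernel) (F_11069 IH)

theorem hseed : ∀ x p, D.isSeed x p = true →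
    (∀ y q, D.lvl y q < D.lvl x p → D.EOK y q) → D.EOK x p := by
  intro x p hs IH
  obtain ⟨hx, hp⟩ := D.isSeed_eq hs
  have hx' : x = Gen.c := hx
  have hp' : p = D.mkF 111 := hp
  subst hx'
  subst hp'
  have hl : D.lvl Gen.c (D.mkF 111) = D.L := by decide +kernel
  exact seed_main (fun y q h => IH y q (by rw [hl]; exact h))

end

end Cfsg.Agent.Helper27.Fi22TC.A2
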